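import Mathlib

/-! Reflective checking of polynomial and polynomial-matrix identities in characteristic `P`.
Monomials are coded by natural numbers (a product of primes, one prime per variable). -/

set_option autoImplicit false

namespace Cfsg.Agent.H6.MP

/-- Sorted lists of (monomial code, coefficient). -/
inductive Poly where
  | nil : Poly
  | cons (m c : Nat) (p : Poly) : Poly

namespace Poly

variable {K : Type*} [CommRing K]

/-- value of a polynomial under a multiplicative valuation of the codes -/
def eval (v : ℕ →*₀ K) : Poly → K
  | nil => 0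
  | cons m c p => (c : K) * v m + eval v p

/-- sum -/
noncomputable def add (P : Nat) (p : Poly) : Poly → Poly :=
  Poly.rec (motive := fun _ => Poly → Poly) (fun q => q)
    (fun m c p' ih q => Poly.rec (motive := fun _ => Poly) (cons m c p')
      (fun m' c' q' ih' =>
        Bool.rec (motive := fun _ => Poly) (cons m' c' ih')
          (Bool.rec (motive := fun _ => Poly) (cons m c (ih (cons m' c' q')))
            (Nat.rec (motive := fun _ => Poly) (ih q') (fun k _ => cons m (Nat.succ k) (ih q'))
              (Nat.mod (Nat.add c c') P))
            (Nat.beq m m'))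
          (Nat.ble m m')) q) p

theorem add_nil_left (P : Nat) (q : Poly) : add P nil q = q := rfl

theorem add_nil_right (P m c : Nat) (p : Poly) : add P (cons m c p) nil = cons m c p := rfl

theorem add_cons_cons (P m c m' c' : Nat) (p q : Poly) : add P (cons m c p) (cons m' c' q) =
    Bool.rec (motive := fun _ => Poly) (cons m' c' (add P (cons m c p) q))
          (Bool.rec (motive := fun _ => Poly) (cons m c (add P p (cons m' c' q)))
            (Nat.rec (motive := fun _ => Poly) (add P p q) (fun k _ => cons m (Nat.succ k) (add P p q))
              (Nat.mod (Nat.add c c') P))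
            (Nat.beq m m'))
          (Nat.ble m m') := rfl

theorem eval_natRec (v : ℕ →*₀ K) (m n : Nat) (r : Poly) :
    eval v (Nat.rec (motive := fun _ => Poly) r (fun k _ => cons m (Nat.succ k) r) n) = (n : K) * v m + eval v r := by
  cases n with
  | zero => simp
  | succ k => simp [eval]

theorem cast_mod (P : Nat) [CharP K P] (n : Nat) : ((Nat.mod n P : ℕ) : K) = n :=
  (CharP.cast_eq_mod K P n).symm

theorem eval_add (P : Nat) [CharP K P] (v : ℕ →*₀ K) (p q : Poly) :
    eval v (add P p q) = eval v p + eval v q := by
  induction p generalizing q with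
  | nil => simp [add_nil_left, eval]
  | cons m c p ih =>
    induction q with
    | nil => simp [add_nil_right, eval]
    | cons m' c' q ih' =>
      rw [add_cons_cons]
      cases h1 : Nat.ble m m' with
      | false =>
        simp only [eval] at ih' ⊢
        rw [ih']; ring
      | true =>
        cases h2 : Nat.beq m m' with
        | false =>
          simp only [eval, ih]; ring
        | true =>
          have : m = m' := Nat.eq_of_beq_eq_true h2
          subst this
          simp only []
          rw [eval_natRec, cast_mod, ih]
          simp only [eval, Nat.add_eq, Nat.cast_add]; ring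

/-- product with a term -/
noncomputable def mulMon (P m c : Nat) (q : Poly) : Poly :=
  Poly.rec (motive := fun _ => Poly) nil (fun m' c' _ ih =>
    Nat.rec (motive := fun _ => Poly) ih (fun l _ =>
      Nat.rec (motive := fun _ => Poly) ih (fun k _ => cons (Nat.succ l) (Nat.succ k) ih)
        (Nat.mod (Nat.mul c c') P)) (Nat.mul m m')) q

theorem eval_mulMon (P : Nat) [CharP K P] (v : ℕ →*₀ K) (m c : Nat) (q : Poly) :
    eval v (mulMon P m c q) = (c : K) * v m * eval v q := by
  induction q with
  | nil => simp [mulMon, eval]
  | cons m' c' q ih =>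
    have e : mulMon P m c (cons m' c' q) = Nat.rec (motive := fun _ => Poly) (mulMon P m c q) (fun l _ =>
      Nat.rec (motive := fun _ => Poly) (mulMon P m c q) (fun k _ => cons (Nat.succ l) (Nat.succ k) (mulMon P m c q))
        (Nat.mod (Nat.mul c c') P)) (Nat.mul m m') := rfl
    rw [e]
    have hv : v m * v m' = v (Nat.mul m m') := by rw [← map_mul]; rfl
    cases h : Nat.mul m m' with
    | zero =>
      rw [h, map_zero] at hv
      simp only [Nat.rec_zero, ih, eval]
      linear_combination (-(c : K) * c') * hv
    | succ l =>
      rw [h] at hv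
      simp only []
      rw [eval_natRec, cast_mod, ih, Nat.succ_eq_add_one, ← hv]
      simp only [eval, Nat.mul_eq, Nat.cast_mul]; ring

/-- product -/
noncomputable def mul (P : Nat) (p q : Poly) : Poly :=
  Poly.rec (motive := fun _ => Poly) nil (fun m c _ ih => add P (mulMon P m c q) ih) p

theorem eval_mul (P : Nat) [CharP K P] (v : ℕ →*₀ K) (p q : Poly) :
    eval v (mul P p q) = eval v p * eval v q := by
  induction p with
  | nil => simp [mul, eval]
  | cons m c p ih =>
    have e : mul P (cons m c p) q = add P (mulMon P m c q) (mul P p q) := rfl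
    rw [e, eval_add, eval_mulMon, ih]
    simp only [eval]; ring

/-- negative -/
noncomputable def neg (P : Nat) (p : Poly) : Poly := mulMon P 1 (Nat.pred P) p

theorem eval_neg (P : Nat) [CharP K P] [NeZero P] (v : ℕ →*₀ K) (p : Poly) :
    eval v (neg P p) = - eval v p := by
  rw [neg, eval_mulMon, map_one]
  have h1 : ((Nat.pred P : ℕ) : K) + 1 = 0 := by
    have : Nat.pred P + 1 = P := Nat.succ_pred (NeZero.ne P)
    have h2 : ((Nat.pred P + 1 : ℕ) : K) = 0 := by rw [this]; exact CharP.cast_eq_zero K P
    simpa using h2
  linear_combination (eval v p) * h1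

/-- power -/
noncomputable def pow (P : Nat) (p : Poly) (n : Nat) : Poly :=
  Nat.rec (motive := fun _ => Poly) (cons 1 1 nil) (fun _ ih => mul P p ih) n

theorem eval_pow (P : Nat) [CharP K P] (v : ℕ →*₀ K) (p : Poly) (n : Nat) :
    eval v (pow P p n) = eval v p ^ n := by
  induction n with
  | zero => simp [pow, eval]
  | succ n ih =>
    have e : pow P p (n + 1) = mul P p (pow P p n) := rfl
    rw [e, eval_mul, ih]; ring

/-- integer constant -/
noncomputable def int (P : Nat) (z : Int) : Poly :=
  Int.rec (motive := fun _ => Poly) (fun n => mulMon P 1 n (cons 1 1 nil))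
    (fun n => neg P (cons 1 (Nat.succ n) nil)) z

theorem eval_int (P : Nat) [CharP K P] [NeZero P] (v : ℕ →*₀ K) (z : Int) :
    eval v (int P z) = (z : K) := by
  cases z with
  | ofNat n =>
    have e : int P (Int.ofNat n) = mulMon P 1 n (cons 1 1 nil) := rfl
    rw [e, eval_mulMon]; simp [eval]
  | negSucc n =>
    have e : int P (Int.negSucc n) = neg P (cons 1 (Nat.succ n) nil) := rfl
    rw [e, eval_neg]; simp [eval, Int.negSucc_eq]

/-- one pass of rewriting the monomial with code `r` into the polynomial `s` -/
noncomputable def red (P r : Nat) (s p : Poly) : Poly :=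
  Poly.rec (motive := fun _ => Poly) nil (fun m c _ ih =>
    Nat.rec (motive := fun _ => Poly) (add P (mulMon P (Nat.div m r) c s) ih)
      (fun _ _ => add P (cons m c nil) ih) (Nat.mod m r)) p

theorem eval_red (P : Nat) [CharP K P] (v : ℕ →*₀ K) (r : Nat) (s p : Poly) (h : v r = eval v s) :
    eval v (red P r s p) = eval v p := by
  induction p with
  | nil => simp [red, eval]
  | cons m c p ih =>
    have e : red P r s (cons m c p) = Nat.rec (motive := fun _ => Poly) (add P (mulMon P (Nat.div m r) c s) (red P r s p))
      (fun _ _ => add P (cons m c nil) (red P r s p)) (Nat.mod m r) := rfl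
    rw [e]
    cases hm : Nat.mod m r with
    | zero =>
      simp only [Nat.rec_zero]
      rw [eval_add, eval_mulMon, ih, ← h]
      have : v m = v (Nat.div m r) * v r := by
        rw [← map_mul]
        congr 1
        exact (Nat.div_mul_cancel (Nat.dvd_of_mod_eq_zero hm)).symm
      simp only [eval, this]; ring
    | succ l =>
      simp only []
      rw [eval_add, ih]
      simp [eval]

/-- test for the zero polynomial -/
noncomputable def isNil (p : Poly) : Bool :=
  Poly.rec (motive := fun _ => Bool) true (fun _ _ _ _ => false) p

theorem eval_of_isNil (v : ℕ →*₀ K) {p : Poly} (h : isNil p = true) : eval v p = 0 := by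
  cases p with
  | nil => rfl
  | cons m c p => exact absurd h (by simp [isNil])

/-- evaluate a polynomial completely before passing it on -/
noncomputable def force {α : Type} (p : Poly) : (Poly → α) → α :=
  Poly.rec (motive := fun _ => (Poly → α) → α) (fun k => k nil)
    (fun m c _ ih k => ih fun p' => k (cons m c p')) p

theorem force_eq {α : Type} (p : Poly) (k : Poly → α) : force p k = k p := by
  induction p generalizing k with
  | nil => rfl
  | cons m c p ih => exact ih _

end Poly

/-- Polynomial expressions. -/
inductive Expr where
  | var (i : Nat) : Expr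
  | zero : Expr
  | one : Expr
  | int (z : Int) : Expr
  | add (a b : Expr) : Expr
  | mul (a b : Expr) : Expr
  | sub (a b : Expr) : Expr
  | neg (a : Expr) : Expr
  | pow (a : Expr) (n : Nat) : Expr

namespace Expr

instance instZeroE : Zero Expr := ⟨zero⟩
instance instOneE : One Expr := ⟨one⟩
instance instAddE : Add Expr := ⟨add⟩
instance instMulE : Mul Expr := ⟨mul⟩
instance instSubE : Sub Expr := ⟨sub⟩
instance instNegE : Neg Expr := ⟨neg⟩
instance instPowE : Pow Expr ℕ := ⟨pow⟩

variable {K : Type*} [CommRing K]

/-- value of an expression; the variables are the entries of a list -/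
def eval (l : List K) : Expr → K
  | var i => l.getD i 0
  | zero => 0
  | one => 1
  | int z => (z : K)
  | add a b => eval l a + eval l b
  | mul a b => eval l a * eval l b
  | sub a b => eval l a - eval l b
  | neg a => - eval l a
  | pow a n => eval l a ^ n

theorem eval_var (l : List K) (i : Nat) : eval l (var i) = l.getD i 0 := rfl
theorem eval_zero (l : List K) : eval l 0 = 0 := rfl
theorem eval_one (l : List K) : eval l 1 = 1 := rfl
theorem eval_int (l : List K) (z : Int) : eval l (int z) = z := rfl
theorem eval_add (l : List K) (a b : Expr) : eval l (a + b) = eval l a + eval l b := rfl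
theorem eval_mul (l : List K) (a b : Expr) : eval l (a * b) = eval l a * eval l b := rfl
theorem eval_sub (l : List K) (a b : Expr) : eval l (a - b) = eval l a - eval l b := rfl
theorem eval_neg (l : List K) (a : Expr) : eval l (-a) = - eval l a := rfl
theorem eval_pow (l : List K) (a : Expr) (n : Nat) : eval l (a ^ n) = eval l a ^ n := rfl

end Expr

/-- the primes coding the variables -/
def primes : List Nat := [2, 3, 5, 7, 11, 13, 17, 19, 23, 29, 31, 37, 41, 43, 47, 53, 59, 61, 67, 71, 73, 79, 83, 89,
  97, 101, 103, 107, 109, 113]

/-- code of a variable -/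
def code (i : Nat) : Nat := primes.getD i 0

/-- the valuation of the codes determined by a list of values -/
noncomputable def val {K : Type*} [CommRing K] (l : List K) : ℕ →*₀ K where
  toFun n := if n = 0 then 0 else (n.primeFactorsList.map fun p => l.getD (primes.idxOf p) 0).prod
  map_zero' := by simp
  map_one' := by simp
  map_mul' a b := by
    by_cases ha : a = 0
    · simp [ha]
    by_cases hb : b = 0
    · simp [hb]
    simp only [ha, hb, mul_eq_zero, or_self, if_false]
    rw [← List.prod_append, ← List.map_append]
    exact ((Nat.perm_primeFactorsList_mul ha hb).map _).prod_eq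

theorem primes_prime : ∀ i < 30, (code i).Prime ∧ primes.idxOf (code i) = i := by
  decide +kernel

theorem val_code {K : Type*} [CommRing K] (l : List K) (hl : l.length ≤ 30) (i : Nat) :
    val l (code i) = l.getD i 0 := by
  by_cases hi : i < 30
  · obtain ⟨h1, h2⟩ := primes_prime i hi
    show (if code i = 0 then 0 else _) = _
    rw [if_neg h1.ne_zero, Nat.primeFactorsList_prime h1]
    simp [h2]
  · have : code i = 0 := by
      rw [code, List.getD_eq_default]
      simp [primes]; omega
    rw [this, map_zero, List.getD_eq_default]
    omega

namespace Expr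

/-- normal form -/
noncomputable def toPoly (P : Nat) (e : Expr) : Poly :=
  Expr.rec (motive := fun _ => Poly)
    (fun i => Nat.rec (motive := fun _ => Poly) .nil (fun k _ => .cons (Nat.succ k) 1 .nil) (code i))
    .nil (.cons 1 1 .nil) (fun z => Poly.int P z)
    (fun _ _ a b => Poly.add P a b) (fun _ _ a b => Poly.force b fun b => Poly.mul P a b)
    (fun _ _ a b => Poly.add P a (Poly.neg P b))
    (fun _ a => Poly.neg P a) (fun _ n a => Poly.force a fun a => Poly.pow P a n) e

variable {K : Type*} [CommRing K]

theorem eval_toPoly (P : Nat) [CharP K P] [NeZero P] (l : List K) (hl : l.length ≤ 30) (e : Expr) :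
    Poly.eval (val l) (toPoly P e) = eval l e := by
  induction e with
  | var i =>
    have e : toPoly P (var i) =
      Nat.rec (motive := fun _ => Poly) .nil (fun k _ => .cons (Nat.succ k) 1 .nil) (code i) := rfl
    rw [e, eval, ← val_code l hl]
    cases code i with
    | zero => simp [Poly.eval]
    | succ k => simp [Poly.eval]
  | zero => rfl
  | one => simp [toPoly, Poly.eval, eval]
  | int z => exact Poly.eval_int P _ z
  | add a b iha ihb =>
    have e : toPoly P (add a b) = Poly.add P (toPoly P a) (toPoly P b) := rfl
    rw [e, Poly.eval_add, iha, ihb, eval]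
  | mul a b iha ihb =>
    have e : toPoly P (mul a b) = Poly.force (toPoly P b) fun b => Poly.mul P (toPoly P a) b := rfl
    rw [e, Poly.force_eq, Poly.eval_mul, iha, ihb, eval]
  | sub a b iha ihb =>
    have e : toPoly P (sub a b) = Poly.add P (toPoly P a) (Poly.neg P (toPoly P b)) := rfl
    rw [e, Poly.eval_add, Poly.eval_neg, iha, ihb, eval, sub_eq_add_neg]
  | neg a iha =>
    have e : toPoly P (neg a) = Poly.neg P (toPoly P a) := rfl
    rw [e, Poly.eval_neg, iha, eval]
  | pow a n iha =>
    have e : toPoly P (pow a n) = Poly.force (toPoly P a) fun a => Poly.pow P a n := rfl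
    rw [e, Poly.force_eq, Poly.eval_pow, iha, eval]

end Expr

/-- A rewriting rule: the product of the variables `i` and `j` has the value of `e`. -/
structure Rule where
  i : Nat
  j : Nat
  e : Expr

/-- the rule is valid for the values -/
def Rule.Holds {K : Type*} [CommRing K] (l : List K) (r : Rule) : Prop :=
  l.getD r.i 0 * l.getD r.j 0 = r.e.eval l

/-- `fuel` passes of all the rules -/
noncomputable def reduce (P : Nat) (rs : List Rule) (fuel : Nat) : Poly → Poly :=
  Nat.rec (motive := fun _ => Poly → Poly) (fun p => p)
    (fun _ ih p => ih (List.rec (motive := fun _ => Poly) p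
      (fun r _ q => Poly.red P (Nat.mul (code r.i) (code r.j)) (r.e.toPoly P) q) rs)) fuel

theorem eval_reduce {K : Type*} [CommRing K] (P : Nat) [CharP K P] [NeZero P] (l : List K) (hl : l.length ≤ 30)
    (rs : List Rule) (hrs : ∀ r ∈ rs, r.Holds l) (fuel : Nat) (p : Poly) :
    Poly.eval (val l) (reduce P rs fuel p) = Poly.eval (val l) p := by
  induction fuel generalizing p with
  | zero => rfl
  | succ n ih =>
    have e : reduce P rs (n + 1) p = reduce P rs n (List.rec (motive := fun _ => Poly) p
      (fun r _ q => Poly.red P (Nat.mul (code r.i) (code r.j)) (r.e.toPoly P) q) rs) := rfl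
    rw [e, ih]
    clear e ih
    induction rs with
    | nil => rfl
    | cons r rs ih =>
      simp only []
      rw [Poly.eval_red, ih (fun r' hr' => hrs r' (List.mem_cons_of_mem _ hr'))]
      rw [Expr.eval_toPoly P l hl, ← hrs r (List.mem_cons_self ..), ← val_code l hl, ← val_code l hl, ← map_mul]
      rfl

/-- test of the equality of two expressions -/
noncomputable def eqCheck (P : Nat) (rs : List Rule) (fuel : Nat) (a b : Expr) : Bool :=
  Poly.isNil (reduce P rs fuel ((a - b).toPoly P))

theorem eq_of_eqCheck {K : Type*} [CommRing K] (P : Nat) [CharP K P] [NeZero P] (l : List K) (hl : l.length ≤ 30)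
    (rs : List Rule) (hrs : ∀ r ∈ rs, r.Holds l) (fuel : Nat) (a b : Expr) (h : eqCheck P rs fuel a b = true) :
    a.eval l = b.eval l := by
  have := Poly.eval_of_isNil (val l) h
  rw [eval_reduce P l hl rs hrs, Expr.eval_toPoly P l hl, Expr.eval_sub] at this
  exact sub_eq_zero.1 this

/-! ### Matrices -/

/-- matrices of polynomials, as lists of rows -/
abbrev PMat := List (List Poly)

/-- entry -/
def PMat.get (A : PMat) (i j : Nat) : Poly := (A.getD i []).getD j .nil

/-- tabulate -/
def PMat.ofFn {n : Nat} (f : Fin n → Fin n → Poly) : PMat := List.ofFn fun i => List.ofFn fun j => f i j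

theorem PMat.get_ofFn {n : Nat} (f : Fin n → Fin n → Poly) (i j : Fin n) : (PMat.ofFn f).get i j = f i j := by
  simp [PMat.get, PMat.ofFn]

/-- evaluate a list of polynomials completely -/
noncomputable def forceRow {α : Type} (r : List Poly) : (List Poly → α) → α :=
  List.rec (motive := fun _ => (List Poly → α) → α) (fun k => k [])
    (fun p _ ih k => Poly.force p fun p' => ih fun r' => k (p' :: r')) r

theorem forceRow_eq {α : Type} (r : List Poly) (k : List Poly → α) : forceRow r k = k r := by
  induction r generalizing k with
  | nil => rfl
  | cons p r ih =>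
    show Poly.force p (fun p' => forceRow r fun r' => k (p' :: r')) = _
    rw [Poly.force_eq, ih]

/-- evaluate a matrix completely -/
noncomputable def forceMat {α : Type} (A : PMat) : (PMat → α) → α :=
  List.rec (motive := fun _ => (PMat → α) → α) (fun k => k [])
    (fun p _ ih k => forceRow p fun p' => ih fun r' => k (p' :: r')) A

theorem forceMat_eq {α : Type} (A : PMat) (k : PMat → α) : forceMat A k = k A := by
  induction A generalizing k with
  | nil => rfl
  | cons p r ih =>
    show forceRow p (fun p' => forceMat r fun r' => k (p' :: r')) = _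
    rw [forceRow_eq, ih]

/-- sum of `f 0, …, f (n-1)` -/
noncomputable def sumRange (P : Nat) (f : Nat → Poly) (n : Nat) : Poly :=
  Nat.rec (motive := fun _ => Poly) .nil (fun k ih => Poly.add P (f k) ih) n

theorem eval_sumRange {K : Type*} [CommRing K] (P : Nat) [CharP K P] (v : ℕ →*₀ K) (f : Nat → Poly) (n : Nat) :
    Poly.eval v (sumRange P f n) = ∑ k : Fin n, Poly.eval v (f k) := by
  induction n with
  | zero => simp [sumRange, Poly.eval]
  | succ n ih =>
    have e : sumRange P f (n + 1) = Poly.add P (f n) (sumRange P f n) := rfl
    rw [e, Poly.eval_add, ih, Fin.sum_univ_castSucc, add_comm]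
    simp

/-- Matrix expressions. -/
inductive MExpr (n : Nat) where
  | mat (f : Matrix (Fin n) (Fin n) Expr) : MExpr n
  | one : MExpr n
  | mul (a b : MExpr n) : MExpr n
  | tr (a : MExpr n) : MExpr n

namespace MExpr

variable {K : Type*} [CommRing K] {n : Nat}

/-- value of a matrix expression -/
def eval (l : List K) : MExpr n → Matrix (Fin n) (Fin n) K
  | mat f => f.map (Expr.eval l)
  | one => 1
  | mul a b => eval l a * eval l b
  | tr a => (eval l a).transpose

/-- normal form -/
noncomputable def toP (P : Nat) (e : MExpr n) : PMat :=
  MExpr.rec (motive := fun _ => PMat)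
    (fun f => PMat.ofFn fun i j => (f i j).toPoly P)
    (PMat.ofFn fun i j : Fin n => if i = j then .cons 1 1 .nil else .nil)
    (fun _ _ A B => forceMat A fun A => forceMat B fun B =>
      PMat.ofFn fun i j : Fin n => sumRange P (fun k => Poly.mul P (A.get i k) (B.get k j)) n)
    (fun _ A => forceMat A fun A => PMat.ofFn fun i j : Fin n => A.get j i) e

theorem eval_toP (P : Nat) [CharP K P] [NeZero P] (l : List K) (hl : l.length ≤ 30) (e : MExpr n) (i j : Fin n) :
    Poly.eval (val l) ((toP P e).get i j) = eval l e i j := by
  induction e generalizing i j with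
  | mat f =>
    have e : toP P (mat f) = PMat.ofFn fun i j => (f i j).toPoly P := rfl
    rw [e, PMat.get_ofFn, Expr.eval_toPoly P l hl]; rfl
  | one =>
    have e : toP P (one : MExpr n) = PMat.ofFn fun i j : Fin n => if i = j then .cons 1 1 .nil else .nil := rfl
    rw [e, PMat.get_ofFn, eval, Matrix.one_apply]
    split_ifs <;> simp [Poly.eval]
  | mul a b iha ihb =>
    have e : toP P (mul a b) = forceMat (toP P a) fun A => forceMat (toP P b) fun B =>
      PMat.ofFn fun i j : Fin n => sumRange P (fun k => Poly.mul P (A.get i k) (B.get k j)) n := rfl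
    rw [e, forceMat_eq, forceMat_eq, PMat.get_ofFn, eval_sumRange, eval, Matrix.mul_apply]
    simp only [Poly.eval_mul, iha, ihb]
  | tr a iha =>
    have e : toP P (tr a) = forceMat (toP P a) fun A => PMat.ofFn fun i j : Fin n => A.get j i := rfl
    rw [e, forceMat_eq, PMat.get_ofFn, iha, eval, Matrix.transpose_apply]

/-- all `i < n` -/
noncomputable def allRange (f : Nat → Bool) (n : Nat) : Bool :=
  Nat.rec (motive := fun _ => Bool) true (fun k ih => Bool.rec (motive := fun _ => Bool) false ih (f k)) n

theorem of_allRange {f : Nat → Bool} {n : Nat} (h : allRange f n = true) (i : Nat) (hi : i < n) : f i = true := by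
  induction n with
  | zero => omega
  | succ n ih =>
    have e : allRange f (n + 1) = Bool.rec (motive := fun _ => Bool) false (allRange f n) (f n) := rfl
    rw [e] at h
    cases hf : f n with
    | false => rw [hf] at h; exact absurd h (by simp)
    | true =>
      rw [hf] at h
      rcases Nat.lt_succ_iff_lt_or_eq.1 hi with h' | rfl
      · exact ih h h'
      · exact hf

/-- test of the equality of two matrix expressions -/
noncomputable def check (P : Nat) (rs : List Rule) (fuel : Nat) (a b : MExpr n) : Bool :=
  forceMat (toP P a) fun A => forceMat (toP P b) fun B =>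
    allRange (fun i => allRange (fun j =>
      Poly.isNil (reduce P rs fuel (Poly.add P (A.get i j) (Poly.neg P (B.get i j))))) n) n

theorem sound (P : Nat) [CharP K P] [NeZero P] (l : List K) (hl : l.length ≤ 30)
    (rs : List Rule) (hrs : ∀ r ∈ rs, r.Holds l) (fuel : Nat) (a b : MExpr n) (h : check P rs fuel a b = true) :
    a.eval l = b.eval l := by
  ext i j
  rw [check, forceMat_eq, forceMat_eq] at h
  have := Poly.eval_of_isNil (val l) (of_allRange (of_allRange h i i.2) j j.2)
  rw [eval_reduce P l hl rs hrs, Poly.eval_add, Poly.eval_neg, eval_toP P l hl, eval_toP P l hl] at this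
  exact add_neg_eq_zero.1 this

theorem sound' (P : Nat) [CharP K P] [NeZero P] (l : List K) (hl : l.length ≤ 30) (a b : MExpr n)
    (h : check P [] 0 a b = true) : a.eval l = b.eval l :=
  sound P l hl [] (by simp) 0 a b h

end MExpr

end Cfsg.Agent.H6.MP
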