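import Cfsg.Agent.H4.DGa

set_option autoImplicit false

/-! A small invariant subspace of a subgroup of small index. -/

namespace Cfsg.Agent.H6.DG
open MulAction Subgroup Cfsg.Agent.H9.DG

universe u

theorem num (d : ℕ) {n : ℕ} (h1 : 2 ^ 256 ≤ n) (h2 : 2 ^ d ≤ n) : 4096 * d ^ 24 ≤ n := by
  rcases le_or_gt d 1024 with h | h
  · exact le_trans ((Nat.mul_le_mul_left _ (Nat.pow_le_pow_left h 24)).trans (by norm_num)) h1
  obtain ⟨k, hk⟩ : ∃ k, d / 32 = k + 10 := ⟨d / 32 - 10, by omega⟩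
  have a : k < 2 ^ k := Nat.lt_two_pow_self
  have b : d ≤ 2 ^ (k + 10) := by rw [pow_add]; omega
  refine le_trans ((Nat.mul_le_mul_left _ (Nat.pow_le_pow_left b 24)).trans ?_) h2
  rw [← pow_mul, show 4096 = 2 ^ 12 from rfl, ← pow_add]
  exact Nat.pow_le_pow_right two_pos (by omega)

theorem l3 : L3.{u} := fun p _ H V _ _ _ _ _ ρ K L U hc h hU U0 U3 hL => by
  let S := {v : V // v ∈ U ∧ v ≠ 0}
  letI : MulAction L S :=
    { smul := fun g v => ⟨ρ g.1 v.1, hU _ g.2 _ v.2.1, fun k => v.2.2 (by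
        simpa [← Module.End.mul_apply, ← map_mul] using congrArg (ρ g.1⁻¹) k)⟩
      one_smul := fun v => Subtype.ext (show ρ 1 v.1 = v.1 by simp)
      mul_smul := fun g k v => Subtype.ext (show ρ (g.1 * k.1) v.1 = ρ g.1 (ρ k.1 v.1) by simp) }
  have h2 := H4.DG.dvd_card (Y := S) (K.subgroupOf L) fun y g hg => by_contra fun c =>
    y.2.2 (h.fpf g.1 c _ (congrArg Subtype.val hg))
  obtain ⟨w, hw, w0⟩ := (Submodule.ne_bot_iff U).1 U0
  have : Nonempty S := ⟨⟨w, hw, w0⟩⟩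
  have h3 : Nat.card S < Nat.card U := Set.ncard_lt_ncard (s := {v : V | v ∈ U ∧ v ≠ 0}) (t := U)
    ⟨fun _ k => k.1, fun k => (k U.zero_mem).2 rfl⟩
  have h4 : K.index ≤ K.relIndex L * L.index := by
    rw [← inf_relIndex_right, relIndex_mul_index inf_le_right]
    exact index_antitone inf_le_left
  have h5 : K.relIndex L ≤ Nat.card S := Nat.le_of_dvd Nat.card_pos h2
  have h6 : 0 < L.index := Nat.pos_of_ne_zero index_ne_zero_of_finite
  have h7 := num (Module.finrank (ZMod p) V) hc (by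
    rw [Module.natCard_eq_pow_finrank (K := ZMod p), Nat.card_zmod]
    exact Nat.pow_le_pow_left (Fact.out : p.Prime).two_le _)
  unfold Gd
  generalize Module.finrank (ZMod p) V = d at *
  have h8 : K.index + 1 ≤ Nat.card U * (4 * d ^ 4) := by nlinarith
  refine (Nat.pow_le_pow_iff_left (n := 3) (by norm_num)).1 ((Nat.pow_le_pow_left (Nat.pow_le_pow_left h8 2) 3).trans ?_)
  calc _ = (Nat.card U ^ 3) ^ 2 * (4096 * d ^ 24) := by ring
    _ ≤ Nat.card V ^ 2 * Nat.card V := Nat.mul_le_mul (Nat.pow_le_pow_left U3 2) h7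
    _ = _ := by ring

end Cfsg.Agent.H6.DG
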