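import Cfsg.Agent.H6.E7e
import Cfsg.Agent.H7.Bit2
import Cfsg.Prelude.Def_ChevE7

/-!
The adjoint group `E₇(2)` lifts to the 56-dimensional module; it has no element of order 65.
-/

set_option autoImplicit false
set_option linter.unusedSectionVars false
set_option linter.unusedSimpArgs false
set_option maxRecDepth 100000

namespace Cfsg.Agent.H6.E7

open Cfsg.Agent.H1.E8 Cfsg.Agent.H7.Bit Cfsg.Lie Matrix

attribute [-simp] zsmul_eq_mul

/-- table of the roots -/
def Rz : ℕ := 0x89abcbaa89abcba989abcaa989abbaa989aabaa9899abaa9889abaa989abba9989aaba99899aba99889aba9989aaaa99899aaa99889aaa998999aa998899aa998889aa9989aaa999899aa999889aa9998999a9998899a9998889a9998999999988999999888999998888999989999989889999898889998988889989888889898888888989aaa998899aa998889aa9988999a9988899a9988889a998899999988899999888899998888899988999989888999898888998988888989888888898899999888899998888899988888899888888898889999888889998888889988888889888899988888899888888898888899888888898888889888888878888888878888887788888888788888877888887778888888878888887788888777888877778888888878888887788888777888877778887777788888888788888787888877878887778788777787888887778888777788877777887777778888767788877677887776778887667788776677887666778888888878888878788887787888777878877778787777787888877778887777788777777877777778887677788776777877767778876677787766777876667778887667788776677877766778876667787766677876666778876567787765677876656778765567788765667877656678766566787655667876546678765456787654566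

/-- the roots of the datum -/
def R (r : ℕ) : L := fun j => ((Rz >>> (4 * (8 * r + j.val)) % 16 : ℕ) : ℤ) - 8

/-- simple roots -/
def alN (n : ℕ) : L := fun j => if j.val = n then 1 else 0

/-- the shape of a column of a root element -/
def Spec (r c : ℕ) (l : List (ℕ × ℕ × ℤ)) : Prop :=
  (l = [(c, 0, 1)] ∧ 7 ≤ c ∧ 0 ≤ B (R r) (R (c - 7))) ∨
  ((l = [(c, 0, 1), ((l.getD 1 (0, 0, 0)).1, 1, 1)] ∨ l = [(c, 0, 1), ((l.getD 1 (0, 0, 0)).1, 1, -1)]) ∧ 7 ≤ c ∧
    7 ≤ (l.getD 1 (0, 0, 0)).1 ∧ (l.getD 1 (0, 0, 0)).1 < 133 ∧ R ((l.getD 1 (0, 0, 0)).1 - 7) = R r + R (c - 7)) ∨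
  (c < 7 ∧ l = [(c, 0, 1), (7 + r, 1, -B (R r) (alN c))]) ∨
  (7 ≤ c ∧ R (c - 7) = -R r ∧ l = [(c, 0, 1), (7 + r, 2, -1), (0, 1, R r 0), (1, 1, R r 1), (2, 1, R r 2),
    (3, 1, R r 3), (4, 1, R r 4), (5, 1, R r 5), (6, 1, R r 6)])

instance instDecSpec (r c : ℕ) (l : List (ℕ × ℕ × ℤ)) : Decidable (Spec r c l) := by
  unfold Spec; infer_instance

theorem isR_R : ∀ r < 126, IsR (R r) := by decide +kernel

theorem R_inj : ∀ r < 126, ∀ s < 126, R r = R s → r = s := by decide +kernel

theorem spec0 : ∀ r < 21, ∀ c < 133, Spec r c (terms chevE7 r c) := by decide +kernel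
theorem spec1 : ∀ r < 21, ∀ c < 133, Spec (r + 21) c (terms chevE7 (r + 21) c) := by decide +kernel
theorem spec2 : ∀ r < 21, ∀ c < 133, Spec (r + 42) c (terms chevE7 (r + 42) c) := by decide +kernel
theorem spec3 : ∀ r < 21, ∀ c < 133, Spec (r + 63) c (terms chevE7 (r + 63) c) := by decide +kernel
theorem spec4 : ∀ r < 21, ∀ c < 133, Spec (r + 84) c (terms chevE7 (r + 84) c) := by decide +kernel
theorem spec5 : ∀ r < 21, ∀ c < 133, Spec (r + 105) c (terms chevE7 (r + 105) c) := by decide +kernel

theorem spec {r c : ℕ} (hr : r < 126) (hc : c < 133) : Spec r c (terms chevE7 r c) := by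
  obtain ⟨a, b, hb, rfl⟩ : ∃ a b, b < 21 ∧ r = b + 21 * a := ⟨r / 21, r % 21, by omega, by omega⟩
  have : a < 6 := by omega
  interval_cases a
  exacts [spec0 b hb c hc, spec1 b hb c hc, spec2 b hb c hc, spec3 b hb c hc, spec4 b hb c hc, spec5 b hb c hc]

end Cfsg.Agent.H6.E7
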