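import Mathlib

/-! Elements of prime order `p ∣ q² - q + 1` in seven-dimensional linear groups over the field with `q` elements. -/

set_option autoImplicit false

namespace Cfsg.Agent.H6.Eigen

open Matrix Polynomial

/-- A matrix commuting with a matrix having a full set of distinct eigenvalues is diagonal in the eigenbasis. -/
theorem eigen_of_commute {F ι : Type*} [Field F] [Fintype ι] {n : ℕ} (hn : Fintype.card ι = n) [Nonempty ι]
    (A : Matrix (Fin n) (Fin n) F) (d : ι → F) (hd : Function.Injective d) (e : ι → Fin n → F) (he0 : ∀ i, e i ≠ 0)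
    (he : ∀ i, A *ᵥ e i = d i • e i) (Y : Matrix (Fin n) (Fin n) F) (hY : Y * A = A * Y) :
    ∃ c : ι → F, (∀ i, Y *ᵥ e i = c i • e i) ∧ Y.det = ∏ i, c i ∧ ((∀ i, c i = 1) → Y = 1) := by
  classical
  have hli : LinearIndependent F e :=
    Module.End.eigenvectors_linearIndependent' (Matrix.toLin' A) d hd e fun i =>
      ⟨Module.End.mem_eigenspace_iff.2 (by simpa using he i), he0 i⟩
  let b : Module.Basis ι F (Fin n → F) := basisOfLinearIndependentOfCardEqFinrank hli (by simp [hn])
  have hb : ∀ i, b i = e i := fun i => by simp [b]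
  have h1 : ∀ i, Y *ᵥ e i = b.repr (Y *ᵥ e i) i • e i := by
    intro i
    have h2 : A *ᵥ (Y *ᵥ e i) = d i • (Y *ᵥ e i) := by
      rw [Matrix.mulVec_mulVec, ← hY, ← Matrix.mulVec_mulVec, he, Matrix.mulVec_smul]
    have h3 := b.sum_repr (Y *ᵥ e i)
    have h4 : ∀ j, j ≠ i → b.repr (Y *ᵥ e i) j = 0 := by
      intro j hj
      have h5 : b.repr (A *ᵥ (Y *ᵥ e i)) j = d j * b.repr (Y *ᵥ e i) j := by
        conv_lhs => rw [← h3]
        rw [Matrix.mulVec_sum]
        simp only [Matrix.mulVec_smul, hb, he, smul_smul]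
        simp only [← hb, map_sum, map_smul, Module.Basis.repr_self]
        simp [Finsupp.single_apply, mul_comm]
      rw [h2, map_smul, Finsupp.smul_apply, smul_eq_mul] at h5
      have : (d i - d j) * b.repr (Y *ᵥ e i) j = 0 := by linear_combination h5
      rcases mul_eq_zero.1 this with h | h
      · exact absurd (hd (sub_eq_zero.1 h)).symm hj
      · exact h
    conv_lhs => rw [← h3]
    rw [Finset.sum_eq_single i (fun j _ hj => by rw [h4 j hj, zero_smul]) (by simp), hb]
  refine ⟨fun i => b.repr (Y *ᵥ e i) i, h1, ?_, ?_⟩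
  · rw [← LinearMap.det_toLin', ← LinearMap.det_toMatrix b, ← Matrix.det_diagonal]
    congr 1
    ext i j
    have e1 : b.repr (e j) = Finsupp.single j 1 := by rw [← hb, Module.Basis.repr_self]
    rw [LinearMap.toMatrix_apply, hb, Matrix.toLin'_apply]
    conv_lhs => rw [h1, map_smul, e1]
    by_cases h : i = j
    · subst h; simp
    · simp [h, Finsupp.single_apply, Ne.symm h]
  · intro h
    apply Matrix.toLin'.injective
    apply b.ext
    intro i
    have := h i
    simp only at this
    rw [hb, Matrix.toLin'_apply, h1, this]; simp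

theorem orderOf_six {p q : ℕ} [Fact p.Prime] (h2 : p ≠ 2) (h3 : p ≠ 3) (hp : p ∣ q ^ 2 - q + 1) :
    orderOf (q : ZMod p) = 6 := by
  have hq : q ≤ q ^ 2 := by nlinarith [Nat.le_self_pow (two_ne_zero) q]
  have h : (q : ZMod p) ^ 2 - q + 1 = 0 := by
    have := (ZMod.natCast_eq_zero_iff _ _).2 hp
    push_cast [hq] at this
    exact this
  have c2 : (2 : ZMod p) ≠ 0 := by
    intro h
    exact h2 ((Nat.prime_dvd_prime_iff_eq Fact.out Nat.prime_two).1 ((ZMod.natCast_eq_zero_iff 2 p).1 (by simpa using h)))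
  have c3 : (3 : ZMod p) ≠ 0 := by
    intro h
    exact h3 ((Nat.prime_dvd_prime_iff_eq Fact.out Nat.prime_three).1
      ((ZMod.natCast_eq_zero_iff 3 p).1 (by simpa using h)))
  apply orderOf_eq_of_pow_and_pow_div_prime (by norm_num)
  · linear_combination ((q : ZMod p) ^ 4 + q ^ 3 - q - 1) * h
  · intro r hr hr6
    have : r = 2 ∨ r = 3 := by
      have := Nat.le_of_dvd (by norm_num) hr6
      have h1 := hr.two_le
      interval_cases r <;> first | (norm_num at hr; done) | (norm_num at hr6; done) | simp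
    rcases this with rfl | rfl
    · intro h'
      apply c2
      norm_num at h'
      linear_combination ((q : ZMod p) + 1) * h - h'
    · intro h'
      apply c3
      norm_num at h'
      rcases h' with h' | h'
      · rw [h'] at h; simp at h
      · rw [h'] at h; linear_combination h

variable {K : Type*} [Field K] [Fintype K] [CharP K 3] {G : Type*} [Group G] [Finite G]

theorem main (ρ : G →* Matrix (Fin 7) (Fin 7) K) (hρ : Function.Injective ρ) (hdet : ∀ g, (ρ g).det = 1)
    {g : G} {p : ℕ} (hp : p.Prime) (hg : orderOf g = p) (h2 : p ≠ 2) (h3 : p ≠ 3)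
    (hpq : p ∣ Fintype.card K ^ 2 - Fintype.card K + 1) :
    IsCyclic (Subgroup.centralizer {g}) ∧
      ∀ (y : G) (j : ℕ), y * g * y⁻¹ = g ^ j → ∃ i, g ^ j = g ^ (Fintype.card K ^ i) := by
  classical
  have : Fact p.Prime := ⟨hp⟩
  set q := Fintype.card K with hq
  let F := AlgebraicClosure K
  let ρ' : G →* Matrix (Fin 7) (Fin 7) F := (algebraMap K F).mapMatrix.toMonoidHom.comp ρ
  have hρ'_def : ∀ y, ρ' y = (ρ y).map (algebraMap K F) := fun y => rfl
  have hρ' : Function.Injective ρ' := (Matrix.map_injective (algebraMap K F).injective).comp hρ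
  have hdet' : ∀ y, (ρ' y).det = 1 := fun y => by
    rw [hρ'_def, ← RingHom.mapMatrix_apply, ← RingHom.map_det, hdet, map_one]
  let Φ : F →+* F := (FiniteField.frobeniusAlgHom K F).toRingHom
  have hΦ : ∀ x, Φ x = x ^ q := fun x => rfl
  have hΦv : ∀ (y : G) (v : Fin 7 → F), ρ' y *ᵥ (fun i => Φ (v i)) = fun i => Φ ((ρ' y *ᵥ v) i) := by
    intro y v
    ext i
    simp only [Matrix.mulVec, dotProduct, map_sum, map_mul, hρ'_def, Matrix.map_apply]
    refine Finset.sum_congr rfl fun k _ => ?_
    congr 1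
    exact ((FiniteField.frobeniusAlgHom K F).commutes _).symm
  have hΦe : ∀ (y : G) (v : Fin 7 → F) (c : F), ρ' y *ᵥ v = c • v → ∀ k : ℕ,
      ρ' y *ᵥ (fun i => v i ^ q ^ k) = c ^ q ^ k • fun i => v i ^ q ^ k := by
    intro y v c h k
    induction k with
    | zero => simpa using h
    | succ k ih =>
      have := hΦv y (fun i => v i ^ q ^ k)
      rw [ih] at this
      simp only [hΦ, ← pow_mul, ← pow_succ] at this
      rw [this]
      ext i
      simp [mul_pow, ← pow_mul, ← pow_succ]
  set A := ρ' g with hA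
  have hroot : ∀ μ : F, μ ∈ A.charpoly.roots ↔ ∃ v ≠ 0, A *ᵥ v = μ • v := by
    intro μ
    rw [mem_roots A.charpoly_monic.ne_zero, IsRoot.def, Matrix.eval_charpoly, ← Matrix.exists_mulVec_eq_zero_iff]
    refine exists_congr fun v => and_congr_right fun _ => ?_
    rw [Matrix.sub_mulVec, sub_eq_zero, eq_comm]
    simp
  have hpow : ∀ (v : Fin 7 → F) (μ : F), A *ᵥ v = μ • v → ∀ k : ℕ, ρ' (g ^ k) *ᵥ v = μ ^ k • v := by
    intro v μ h k
    induction k with
    | zero => simp
    | succ k ih => rw [pow_succ', map_mul, ← Matrix.mulVec_mulVec, ih, Matrix.mulVec_smul, ← hA, h, smul_smul, pow_succ]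
  have hcard : A.charpoly.roots.card = 7 := by
    rw [IsAlgClosed.card_roots_eq_natDegree, Matrix.charpoly_natDegree_eq_dim]; simp
  obtain ⟨l, hl, hl1⟩ : ∃ l ∈ A.charpoly.roots, l ≠ 1 := by
    by_contra hcon
    push Not at hcon
    have h1 : A.charpoly = (X - C 1) ^ 7 := by
      rw [(IsAlgClosed.splits A.charpoly).eq_prod_roots_of_monic A.charpoly_monic,
        Multiset.eq_replicate.2 ⟨hcard, hcon⟩, Multiset.map_replicate, Multiset.prod_replicate]
    have h2 := Matrix.aeval_self_charpoly A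
    rw [h1] at h2
    simp only [map_pow, map_sub, aeval_X, map_one] at h2
    have h3' : (A - 1) ^ 3 ^ 2 = 0 := by rw [show 3 ^ 2 = 7 + 2 by norm_num, pow_add, h2, zero_mul]
    rw [sub_pow_char_pow_of_commute 3 2 (Commute.one_right A), one_pow, sub_eq_zero, hA, ← map_pow,
      ← map_one ρ'] at h3'
    have h4 := orderOf_dvd_of_pow_eq_one (hρ' h3')
    rw [hg] at h4
    exact h3 ((Nat.prime_dvd_prime_iff_eq hp Nat.prime_three).1 (hp.dvd_of_dvd_pow h4))
  obtain ⟨v, hv0, hv⟩ := (hroot l).1 hl
  have hlp : orderOf l = p := by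
    apply orderOf_eq_prime _ hl1
    have := hpow v l hv p
    rw [← hg, pow_orderOf_eq_one, map_one, Matrix.one_mulVec, hg] at this
    have h2 : (l ^ p - 1) • v = 0 := by rw [sub_smul, ← this]; simp
    exact sub_eq_zero.1 ((smul_eq_zero.1 h2).resolve_right hv0)
  have ho := orderOf_six h2 h3 hpq
  have hfin : IsOfFinOrder l := orderOf_pos_iff.1 (by rw [hlp]; exact hp.pos)
  have hinj : Function.Injective fun i : Fin 6 => l ^ q ^ i.val := by
    intro i j hij
    simp only at hij
    rw [hfin.pow_eq_pow_iff_modEq, hlp, ← ZMod.natCast_eq_natCast_iff] at hij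
    push_cast at hij
    exact Fin.ext (pow_injOn_Iio_orderOf (by simp [ho]) (by simp [ho]) hij)
  have hne : ∀ k : ℕ, l ^ q ^ k ≠ 1 := by
    intro k h
    rw [← orderOf_dvd_iff_pow_eq_one, hlp, ← ZMod.natCast_eq_zero_iff] at h
    push_cast at h
    have h' := pow_eq_zero_iff (show 6 ≠ 0 by norm_num) |>.2 (pow_eq_zero_iff (n := k) (by rintro rfl; simp at h) |>.1 h)
    rw [← ho, pow_orderOf_eq_one] at h'
    simp at h'
  have hvk : ∀ k : ℕ, (fun i => v i ^ q ^ k) ≠ 0 := by
    intro k h
    apply hv0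
    ext i
    exact pow_eq_zero_iff (pow_ne_zero k Fintype.card_ne_zero) |>.1 (congrFun h i)
  have hl3 : l ^ q ^ 3 * l = 1 := by
    rw [← pow_succ, ← orderOf_dvd_iff_pow_eq_one, hlp]
    have hq2 : q ≤ q ^ 2 := Nat.le_self_pow two_ne_zero q
    have : q ^ 3 + 1 = (q ^ 2 - q + 1) * (q + 1) := by zify [hq2]; ring
    rw [this]
    exact hpq.mul_right _
  let L : Finset F := Finset.univ.image fun i : Fin 6 => l ^ q ^ i.val
  have hL : L.val ≤ A.charpoly.roots := by
    rw [Finset.val_le_iff_val_subset]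
    intro x hx
    obtain ⟨i, -, rfl⟩ := Finset.mem_image.1 (show x ∈ L from hx)
    exact (hroot _).2 ⟨_, hvk i, hΦe g v l hv i⟩
  obtain ⟨T, hT⟩ := Multiset.le_iff_exists_add.1 hL
  have hLc : L.val.card = 6 := by
    rw [← Finset.card_def, Finset.card_image_of_injective _ hinj]; simp
  obtain ⟨c, rfl⟩ : ∃ c, T = {c} := Multiset.card_eq_one.1 (by
    have := congrArg Multiset.card hT
    rw [Multiset.card_add, hcard, hLc] at this; omega)
  have hc : c = 1 := by
    have h1 := Matrix.det_eq_prod_roots_charpoly A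
    rw [hA, hdet', ← hA, hT, Multiset.prod_add, Multiset.prod_singleton] at h1
    have h2 : L.val.prod = 1 := by
      have : L.val.prod = ∏ i : Fin 6, l ^ q ^ i.val := by
        have e := Finset.prod_image (s := Finset.univ) (g := fun i : Fin 6 => l ^ q ^ i.val) (f := fun x => x)
          hinj.injOn
        rw [← e, Finset.prod_eq_multiset_prod, Multiset.map_id']
      rw [this, Fin.prod_univ_six]
      have e1 : (l ^ q ^ 3 * l) ^ q = 1 := by rw [hl3, one_pow]
      have e2 : (l ^ q ^ 3 * l) ^ q ^ 2 = 1 := by rw [hl3, one_pow]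
      rw [mul_pow, ← pow_mul, ← pow_succ] at e1
      rw [mul_pow, ← pow_mul, ← pow_add] at e2
      simp only [Fin.val_zero, Fin.val_one, Fin.val_two, pow_zero, pow_one]
      show l * l ^ q * l ^ q ^ 2 * l ^ q ^ 3 * l ^ q ^ 4 * l ^ q ^ 5 = 1
      linear_combination (l ^ q * l ^ q ^ 2 * l ^ q ^ 4 * l ^ q ^ 5) * hl3 + (l ^ q ^ 2 * l ^ q ^ 5) * e1 + e2
    rw [h2, one_mul] at h1
    exact h1.symm
  subst hc
  obtain ⟨u, hu0, hu⟩ := (hroot 1).1 (by rw [hT]; simp)
  constructor
  · have key : ∀ y : Subgroup.centralizer {g}, ∃ c : Option (Fin 6) → F,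
        (∀ i, ρ' y *ᵥ (Option.elim i u fun k : Fin 6 => fun i => v i ^ q ^ k.val) =
          c i • (Option.elim i u fun k : Fin 6 => fun i => v i ^ q ^ k.val)) ∧ (ρ' y).det = ∏ i, c i ∧
          ((∀ i, c i = 1) → ρ' y = 1) := by
      intro y
      refine eigen_of_commute (by simp) A (fun i => Option.elim i 1 fun k : Fin 6 => l ^ q ^ k.val) ?_ _ ?_ ?_ _ ?_
      · rintro (_ | i) (_ | j) h
        · rfl
        · exact absurd h.symm (hne j)
        · exact absurd h (hne i)
        · rw [hinj h]
      · rintro (_ | i)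
        · exact hu0
        · exact hvk i
      · rintro (_ | i)
        · exact hu
        · exact hΦe g v l hv i
      · rw [hA, ← map_mul, ← map_mul, Subgroup.mem_centralizer_singleton_iff.1 y.2]
    choose c hc1 hc2 hc3 using key
    have hc0 : ∀ y : Subgroup.centralizer {g}, ρ' y *ᵥ v = c y (some 0) • v := fun y => by simpa using hc1 y (some 0)
    have huniq : ∀ {a b : F} {w : Fin 7 → F}, w ≠ 0 → a • w = b • w → a = b := fun hw h =>
      smul_left_injective F hw h
    let χ : Subgroup.centralizer {g} →* F :=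
      { toFun := fun y => c y (some 0)
        map_one' := huniq hv0 (by rw [← hc0]; simp)
        map_mul' := fun y y' => huniq hv0 (by
          rw [← hc0, Subgroup.coe_mul, map_mul, ← Matrix.mulVec_mulVec, hc0, Matrix.mulVec_smul, hc0, smul_smul,
            mul_comm]) }
    apply isCyclic_of_injective_ringHom χ
    rw [injective_iff_map_eq_one]
    intro y hy
    have hy' : c y (some 0) = 1 := hy
    have h1 : ∀ k : Fin 6, c y (some k) = 1 := by
      intro k
      apply huniq (hvk k)
      have := hΦe y v _ (hc0 y) k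
      rw [hy', one_pow] at this
      rw [← this]
      exact (hc1 y (some k)).symm
    have h2 : c y none = 1 := by
      have := hc2 y
      rw [hdet', Fintype.prod_option] at this
      simpa [h1] using this.symm
    apply Subtype.ext
    apply hρ'
    rw [hc3 y (by rintro (_ | k); exacts [h2, h1 k])]
    simp
  · intro y j hy
    have hmm : ∀ (a b : G) (w : Fin 7 → F), ρ' a *ᵥ (ρ' b *ᵥ w) = ρ' (a * b) *ᵥ w := fun a b w => by
      rw [map_mul, Matrix.mulVec_mulVec]
    have h1 : l ^ j ∈ A.charpoly.roots := by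
      refine (hroot _).2 ⟨ρ' y⁻¹ *ᵥ v, ?_, ?_⟩
      · intro h
        apply hv0
        have := congrArg (fun w => ρ' y *ᵥ w) h
        simp only [hmm] at this
        simpa using this
      · rw [hA, hmm, show g * y⁻¹ = y⁻¹ * g ^ j by rw [← hy]; group, ← hmm, hpow v l hv, Matrix.mulVec_smul]
    rw [hT, Multiset.mem_add, Multiset.mem_singleton] at h1
    rcases h1 with h1 | h1
    · obtain ⟨i, -, hi⟩ := Finset.mem_image.1 (show l ^ j ∈ L from h1)
      refine ⟨i, ?_⟩
      rw [hfin.pow_eq_pow_iff_modEq, hlp] at hi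
      rw [pow_eq_pow_iff_modEq, hg]
      exact hi.symm
    · exfalso
      rw [← orderOf_dvd_iff_pow_eq_one, hlp, ← hg, orderOf_dvd_iff_pow_eq_one, ← hy] at h1
      have : g = 1 := by simpa using h1
      rw [this, orderOf_one] at hg
      exact hp.one_lt.ne hg

/-- The automiser of such an element has order dividing six. -/
theorem relIndex_dvd (ρ : G →* Matrix (Fin 7) (Fin 7) K) (hρ : Function.Injective ρ) (hdet : ∀ g, (ρ g).det = 1)
    {g : G} {p : ℕ} (hp : p.Prime) (hg : orderOf g = p) (h2 : p ≠ 2) (h3 : p ≠ 3)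
    (hpq : p ∣ Fintype.card K ^ 2 - Fintype.card K + 1) :
    (Subgroup.centralizer {g}).relIndex (Subgroup.normalizer (Subgroup.zpowers g : Set G)) ∣ 6 := by
  have : Fact p.Prime := ⟨hp⟩
  have ho := orderOf_six h2 h3 hpq
  set q := Fintype.card K with hq
  have hcomm : ∀ x y : Subgroup.zpowers g, x * y = y * x := fun x y => mul_comm' x y
  have hcop : (Nat.card (Subgroup.zpowers g)).Coprime q := by
    rw [Nat.card_zpowers, hg, hp.coprime_iff_not_dvd, ← ZMod.natCast_eq_zero_iff]
    intro h
    have := pow_orderOf_eq_one (q : ZMod p)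
    rw [ho, h] at this
    simp at this
  let α : MulAut (Subgroup.zpowers g) :=
    { powCoprime hcop with
      map_mul' := fun x y => by
        show (x * y) ^ q = x ^ q * y ^ q
        exact Commute.mul_pow (hcomm x y) q }
  have hα : ∀ (k : ℕ) (x : Subgroup.zpowers g), (α ^ k) x = x ^ q ^ k := by
    intro k
    induction k with
    | zero => simp
    | succ k ih =>
      intro x
      rw [pow_succ', MulAut.mul_apply, ih, pow_succ, pow_mul]
      rfl
  have hext : ∀ β γ : MulAut (Subgroup.zpowers g), β ⟨g, Subgroup.mem_zpowers g⟩ = γ ⟨g, Subgroup.mem_zpowers g⟩ →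
      β = γ := by
    intro β γ h
    ext ⟨x, k, rfl⟩
    have : (⟨g ^ k, k, rfl⟩ : Subgroup.zpowers g) = ⟨g, Subgroup.mem_zpowers g⟩ ^ k := rfl
    simp only [this, map_zpow, h]
  have hα6 : α ^ 6 = 1 := by
    apply hext
    rw [hα]
    apply Subtype.ext
    show g ^ q ^ 6 = g
    conv_rhs => rw [← pow_one g]
    rw [pow_eq_pow_iff_modEq, hg, ← ZMod.natCast_eq_natCast_iff]
    push_cast
    rw [← ho, pow_orderOf_eq_one]
  have hle : (Subgroup.zpowers g).normalizerMonoidHom.range ≤ Subgroup.zpowers α := by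
    rintro _ ⟨y, rfl⟩
    have h1 : (y : G) * g * (y : G)⁻¹ ∈ Subgroup.zpowers g :=
      (Subgroup.mem_normalizer_iff.1 y.2 g).1 (Subgroup.mem_zpowers g)
    obtain ⟨j, hj⟩ := (mem_powers_iff_mem_zpowers.2 h1)
    obtain ⟨i, hi⟩ := (main ρ hρ hdet hp hg h2 h3 hpq).2 y j hj.symm
    refine ⟨i, ?_⟩
    simp only [zpow_natCast]
    apply hext
    rw [hα]
    apply Subtype.ext
    show g ^ q ^ i = (y : G) * g * (y : G)⁻¹
    rw [← hi]; exact hj
  have h1 := Subgroup.card_dvd_of_le hle
  rw [Nat.card_zpowers, ← Subgroup.index_ker, Subgroup.normalizerMonoidHom_ker] at h1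
  have h2 : Subgroup.centralizer (Subgroup.zpowers g : Set G) = Subgroup.centralizer {g} := by
    rw [Subgroup.zpowers_eq_closure, Subgroup.centralizer_closure]
  rw [h2] at h1
  exact h1.trans (orderOf_dvd_of_pow_eq_one hα6)

end Cfsg.Agent.H6.Eigen
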