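import Cfsg.Agent.H6.Gl

/-!
Further tests for characters of the root lattice of `E₈`.
-/

set_option autoImplicit false
set_option maxRecDepth 100000

namespace Cfsg.Agent.H6.Gs

open Cfsg.Agent.Chv Cfsg.Agent.Chv.E8 Cfsg.Agent.H1.E8

attribute [-simp] zsmul_eq_mul

variable {N : ℕ}

/-- packed coordinates -/
def r0 : ℕ := 0x200020002000200020002000200020002000200020002000200020001000100010001000100010001000100010001000100010001000100010001000100010001000100010001000100010001000100010001000100010001000100010001000100010001000100010001000100010001000100010001000100010001000100010001000100010001000100010001000100010001000100010001000000000000000000000000000000000000000000000000000000000000000000000000000000000000000000000000000000000000000000000000000000000000000000000000000000000000000000000000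
/-- packed coordinates -/
def r1 : ℕ := 0x300030003000300030003000300020002000200020002000200020003000200020002000200020002000200020002000200020002000200020002000200020002000200020002000100010001000100010001000100010001000100010001000100010001000100010001000100010001000100010001000100010001000100010001000100010001000100010000000000000000000000000000000100010001000100010001000100010001000100010001000100010001000100010001000100010001000000000000000000000000000000000000000000000000000000000000000000000000000000000000
/-- packed coordinates -/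
def r2 : ℕ := 0x400040004000400040004000300040003000300030003000300030003000300030003000300030003000200020002000200020002000200020002000200020002000200020002000200020002000200020002000200020002000200020002000200020002000200020002000200020001000100010001000100010001000100010001000100010001000100010001000100010001000100010000000100010001000100010001000100010001000100010001000100010001000000000000000000000000000100010001000100010001000000000000000000000000000000000000000000000000000000000000
/-- packed coordinates -/
def r3 : ℕ := 0x600060006000600060005000500050005000400040004000400040005000500040004000400040004000400040004000400040003000300030003000300030003000300030003000300030003000300030003000300030003000300020002000200020002000200020002000200020002000200020002000200020002000200020002000100010001000100010001000100010001000100000000000200020002000200020002000200020002000200010001000100010001000100010001000100010000000100010001000100010000000100010001000100010000000000000000000000000000000000000000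
/-- packed coordinates -/
def r4 : ℕ := 0x500050005000500040004000400040004000400030003000300030004000400040003000300030003000400030003000300030003000300030003000200020002000200020002000300030003000300020002000200020002000200020002000200020002000200010001000100010002000200020002000200020001000100010001000100010001000100000001000100010001000000000000000200020002000200020002000100010001000100010001000100010000000100010001000100000000000100010001000100000000000100010001000100000001000100010001000000000000000000000000
/-- packed coordinates -/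
def r5 : ℕ := 0x400040004000300030003000300030003000300030002000200020003000300030003000200020002000300030002000200020003000200020002000200020002000100010001000300020002000200020002000200010001000100020002000200010001000100010001000100000002000200020001000100010001000100010000000100010001000000000001000100010000000000000000000200020002000100010001000100010001000000010001000100000000000100010001000000000000000100010001000000000000000100010001000000000001000100010000000100010001000000000000
/-- packed coordinates -/
def r6 : ℕ := 0x300030002000200020002000200020002000200020002000100010002000200020002000200010001000200020002000100010002000200010001000200010001000100010000000200020001000100020001000100010001000000020001000100010001000000010001000000000002000100010001000100000001000100000000000100010000000000000001000100000000000000000000000200010001000100010000000100010000000000010001000000000000000100010000000000000000000100010000000000000000000100010000000000000001000100000000000100010000000100010000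
/-- packed coordinates -/
def r7 : ℕ := 0x200010001000100010001000100010001000100010001000100000001000100010001000100010000000100010001000100000001000100010000000100010000000100000000000100010001000000010001000000010000000000010001000000010000000000010000000000000001000100000001000000000001000000000000000100000000000000000001000000000000000000000000000100010000000100000000000100000000000000010000000000000000000100000000000000000000000100000000000000000000000100000000000000000001000000000000000100000000000100000001

/-- packed values -/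
def VL (a : List ℕ) : ℕ := Nat.add (Nat.add (Nat.add (Nat.add (Nat.add (Nat.add (Nat.add (Nat.mul (a.getD 0 0) r0)
  (Nat.mul (a.getD 1 0) r1)) (Nat.mul (a.getD 2 0) r2)) (Nat.mul (a.getD 3 0) r3)) (Nat.mul (a.getD 4 0) r4))
  (Nat.mul (a.getD 5 0) r5)) (Nat.mul (a.getD 6 0) r6)) (Nat.mul (a.getD 7 0) r7)

theorem VL_eq (a : List ℕ) : VL a = VV pos a := by
  have : RR pos 0 = r0 ∧ RR pos 1 = r1 ∧ RR pos 2 = r2 ∧ RR pos 3 = r3 ∧ RR pos 4 = r4 ∧ RR pos 5 = r5 ∧
    RR pos 6 = r6 ∧ RR pos 7 = r7 := by decide +kernel
  simp only [VV, this]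
  rfl

/-- tables of differences -/
def OkH (N : ℕ) (f G : ℕ → ℕ) : Prop := ∀ v < N, (G v + (f v + f ((N - 1) * v % N))) % 65521 =
  (f (3 * v % N) + f ((N - 1) * 3 * v % N)) % 65521

instance (N : ℕ) (f G : ℕ → ℕ) : Decidable (OkH N f G) := by unfold OkH; infer_instance

theorem Inv.sum [NeZero N] {x : L →+ ZMod N} (h : Inv x) {a : List ℕ} (ha : Has x a) {f G : ℕ → ℕ} (hG : OkH N f G) :
    (pos.map fun l => G (val a l % N)).sum % 65521 = 0 := by
  have := h ℕ fun v => f v.val
  rw [ha.sum, show (fun r => f (x (R.rt r)).val) = fun r => f (1 • x (R.rt r)).val by simp, ha.sum] at this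
  have h2 : ∀ P : List (List ℕ), ((P.map fun l => G (val a l % N)).sum +
      (P.map fun l => f (1 * val a l % N) + f ((N - 1) * 1 * val a l % N)).sum) % 65521 =
      (P.map fun l => f (3 * val a l % N) + f ((N - 1) * 3 * val a l % N)).sum % 65521 := fun P => by
    induction P with
    | nil => rfl
    | cons l P ih =>
      have := hG _ (Nat.mod_lt (val a l) (NeZero.pos N))
      simp only [Nat.mul_mod_mod, List.map_cons, List.sum_cons, one_mul, mul_one] at this ih ⊢
      omega
  have := h2 pos
  omega

/-- the test with a table of differences -/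
noncomputable def hsh (N t V : ℕ) : Bool := Nat.beq (Nat.mod (sumL (fun v => col 16 t (Nat.mod v N)) V) 65521) 0

theorem Inv.hsh [NeZero N] {x : L →+ ZMod N} (h : Inv x) {a : List ℕ} (ha : Has x a) (ha' : ∀ j < 8, a.getD j 0 < 400)
    {f : ℕ → ℕ} {t : ℕ} (hG : OkH N f (col 16 t)) : hsh N t (VL a) = true := by
  rw [Gs.hsh, VL_eq, sumL_eq _ ha', Nat.beq_eq]
  exact h.sum ha hG

theorem Inv.cast {p : ℕ} (hp : p ∣ N) {x : L →+ ZMod N} (h : Inv x) :
    Inv ((ZMod.castHom hp (ZMod p)).toAddMonoidHom.comp x) := fun M _ f => by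
  have := h M fun v => f (ZMod.castHom hp (ZMod p) v)
  simp only [map_nsmul] at this
  exact this

/-- the quadratic form -/
def qq (a0 a1 a2 a3 a4 a5 a6 a7 : ℕ) : ℕ := a0 * (2 * a0 + 5 * a1 + 7 * a2 + 10 * a3 + 8 * a4 + 6 * a5 + 4 * a6 + 2 * a7) +
  a1 * (4 * a1 + 10 * a2 + 15 * a3 + 12 * a4 + 9 * a5 + 6 * a6 + 3 * a7) +
  a2 * (7 * a2 + 20 * a3 + 16 * a4 + 12 * a5 + 8 * a6 + 4 * a7) +
  a3 * (15 * a3 + 24 * a4 + 18 * a5 + 12 * a6 + 6 * a7) +
  a4 * (10 * a4 + 15 * a5 + 10 * a6 + 5 * a7) +
  a5 * (6 * a5 + 8 * a6 + 4 * a7) +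
  a6 * (3 * a6 + 3 * a7) +
  a7 * (1 * a7)

theorem Inv.qq [Fact N.Prime] {x : L →+ ZMod N} (h : Inv x) {a0 a1 a2 a3 a4 a5 a6 a7 : ℕ}
    (ha : Has x [a0, a1, a2, a3, a4, a5, a6, a7]) (h2 : (2 : ZMod N) * (3 ^ 2 - 1) ≠ 0) :
    60 * qq a0 a1 a2 a3 a4 a5 a6 a7 % N = 0 := by
  refine (congrArg (· % N) ?_).trans (h.pow ha even_two h2)
  simp only [pos, List.map_cons, List.map_nil, List.sum_cons, List.sum_nil, val, Gs.qq, List.getD_cons_succ,
    List.getD_cons_zero]
  ring

/-- enumeration of the points of the alcove -/
noncomputable def enu (p : ℕ) (lf : List ℕ → Bool) (n : ℕ) : Bool :=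
  force (n % 13) fun a3 => force (n / 13 % 15) fun a4 => force (n / 195) fun a2 =>
  force (6 * a3 + 5 * a4 + 4 * a2) fun s => Bool.rec true (force (p - s) fun r =>
  all2 (r / 4 + 1) fun a5 => force (r - 4 * a5) fun r1 => all2 (r1 / 3 + 1) fun a1 => force (r1 - 3 * a1) fun r2 =>
  all2 (r2 / 3 + 1) fun a6 => force ((r2 - 3 * a6) / 2 + 1) fun r3 => force (qq 0 a1 a2 a3 a4 a5 a6 0) fun q0 =>
  force (5 * a1 + 7 * a2 + 10 * a3 + 8 * a4 + 6 * a5 + 4 * a6) fun l0 =>
  force (3 * a1 + 4 * a2 + 6 * a3 + 5 * a4 + 4 * a5 + 3 * a6) fun l7 =>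
  all2 r3 fun a0 => force (Nat.add q0 (Nat.mul a0 (Nat.add (Nat.mul 2 a0) l0))) fun q1 =>
  force (Nat.add l7 (Nat.mul 2 a0)) fun l8 => all2 (Nat.sub r3 a0) fun a7 =>
  Bool.rec true (lf [a0, a1, a2, a3, a4, a5, a6, a7])
    (Nat.beq (Nat.mod (Nat.add q1 (Nat.mul a7 (Nat.add a7 l8))) p) 0)) (Nat.ble s p)

theorem enu_spec {p : ℕ} {lf : List ℕ → Bool} (h : ∀ n < 3705, enu p lf n = true) (hp : p ≤ 73)
    {a0 a1 a2 a3 a4 a5 a6 a7 : ℕ} (hb : 2 * a0 + 3 * a1 + 4 * a2 + 6 * a3 + 5 * a4 + 4 * a5 + 3 * a6 + 2 * a7 ≤ p)
    (hq : qq a0 a1 a2 a3 a4 a5 a6 a7 % p = 0) : lf [a0, a1, a2, a3, a4, a5, a6, a7] = true := by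
  have h1 := h (a3 + 13 * (a4 + 15 * a2)) (by omega)
  rw [enu, show (a3 + 13 * (a4 + 15 * a2)) % 13 = a3 by omega, show (a3 + 13 * (a4 + 15 * a2)) / 13 = a4 + 15 * a2 by omega,
    show (a4 + 15 * a2) % 15 = a4 by omega,
    show (a3 + 13 * (a4 + 15 * a2)) / 195 = a2 by omega] at h1
  simp only [force_eq, Nat.ble_eq.symm ▸ show 6 * a3 + 5 * a4 + 4 * a2 ≤ p by omega] at h1
  have h2 := all2_spec (all2_spec (all2_spec (all2_spec (all2_spec h1 (k := a5) (by omega)) (k := a1) (by omega))
    (k := a6) (by omega)) (k := a0) (by omega)) (k := a7) (by simp only [Nat.sub_eq]; omega)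
  have h3 : Nat.add (Nat.add (qq 0 a1 a2 a3 a4 a5 a6 0) (Nat.mul a0 (Nat.add (Nat.mul 2 a0)
      (5 * a1 + 7 * a2 + 10 * a3 + 8 * a4 + 6 * a5 + 4 * a6)))) (Nat.mul a7 (Nat.add a7 (Nat.add
      (3 * a1 + 4 * a2 + 6 * a3 + 5 * a4 + 4 * a5 + 3 * a6) (Nat.mul 2 a0)))) = qq a0 a1 a2 a3 a4 a5 a6 a7 := by
    simp only [Nat.add_eq, Nat.mul_eq, qq]; ring
  rwa [h3, show Nat.mod _ p = 0 from hq] at h2

theorem Inv.alc {p : ℕ} [Fact p.Prime] {lf : List ℕ → Bool} (h : ∀ n < 3705, enu p lf n = true) (hp : p ≤ 73)
    (h2 : (2 : ZMod p) * (3 ^ 2 - 1) ≠ 0) (h3 : p.Coprime 60) {x : L →+ ZMod p} (hx : Inv x) :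
    ∃ w, Iso w ∧ ∃ a, Has (x.comp w.toAddMonoidHom) a ∧ (∀ j < 8, a.getD j 0 < 400) ∧ lf a = true := by
  obtain ⟨w, hw, a0, a1, a2, a3, a4, a5, a6, a7, hb, ha⟩ := alcove p x
  refine ⟨w, hw, _, ha, fun j hj => ?_, enu_spec h hp hb (Nat.mod_eq_zero_of_dvd (h3.dvd_of_dvd_mul_left
    (Nat.dvd_of_mod_eq_zero ((hx.comp hw).qq ha h2))))⟩
  interval_cases j <;> simp <;> omega

/-- multiplicities -/
def cnt (x : L →+ ZMod N) (c : ZMod N) : ℕ := ∑ r, if x (R.rt r) = c then 1 else 0

/-- the roots in small classes generate the lattice -/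
def Sm (x : L →+ ZMod N) : Prop := ∀ A : AddSubgroup L, (∀ v, B v v = 2 → cnt x (x v) < 5 → v ∈ A) → ∀ v, v ∈ A

theorem Sm.of_comp {x : L →+ ZMod N} {w : L ≃+ L} (hw : Iso w) (h : Sm (x.comp w.toAddMonoidHom)) : Sm x :=
  fun A hA v => w.apply_symm_apply v ▸ h (A.comap w.toAddMonoidHom) (fun u hu hc => hA _ ((hw _ _).trans hu)
    ((hw.sum fun t => if x t = x (w u) then 1 else 0).symm.trans_lt hc)) _

/-- zero or a root in a small class -/
noncomputable def okS (N : ℕ) (a l : List ℕ) : Bool := l == [] || (decide (B (toL l) (toL l) = 2) &&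
  force (val a l % N) fun c => Nat.blt (sumL (fun v => (if v % N = c then 1 else 0) +
    if (N - 1) * v % N = c then 1 else 0) (VL a)) 5)

theorem Has.sm [NeZero N] {x : L →+ ZMod N} {a : List ℕ} (ha : Has x a) (ha' : ∀ j < 8, a.getD j 0 < 400)
    {c : Fin 8 → List ℕ × List ℕ}
    (h : ∀ j, toL (c j).1 = toL (c j).2 + al j ∧ okS N a (c j).1 = true ∧ okS N a (c j).2 = true) : Sm x := fun A hA v => by
  have h1 : ∀ l, okS N a l = true → toL l ∈ A := fun l hl => by
    simp only [okS, force_eq, Bool.or_eq_true, beq_iff_eq, Bool.and_eq_true, decide_eq_true_eq, Nat.blt_eq, VL_eq,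
      sumL_eq _ ha'] at hl
    rcases hl with rfl | ⟨h1, h2⟩
    · exact A.zero_mem
    · refine hA _ h1 (lt_of_eq_of_lt ?_ h2)
      have := ha.sum (fun v => if v = Gs.val a l % N then 1 else 0) 1
      simp only [one_smul, one_mul, mul_one] at this
      rw [← this, cnt, ha.val]
      simp only [← ZMod.val_natCast, (ZMod.val_injective N).eq_iff]
  rw [pi_eq_sum_univ' v]
  exact A.sum_mem fun j _ => A.zsmul_mem ((A.add_mem_cancel_left (h1 _ (h j).2.2)).1 ((h j).1 ▸ h1 _ (h j).2.1)) _

/-- enumeration of lists -/
noncomputable def allL (ns : List ℕ) : (List ℕ → Bool) → Bool :=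
  List.rec (fun p => p []) (fun n _ ih p => all2 n fun i => ih fun b => p (i :: b)) ns

theorem allL_spec {b ns : List ℕ} (hb : List.Forall₂ (· < ·) b ns) : ∀ {p : List ℕ → Bool}, allL ns p = true → p b = true := by
  induction hb with
  | nil => exact id
  | cons h _ ih => exact fun hp => ih (all2_spec hp h)

theorem Inv.solve {p m : ℕ} [NeZero p] (hp : p ∣ N) (hm : m ∣ N) {x : L →+ ZMod N} (h : Inv x) {a : List ℕ}
    (ha : Has ((ZMod.castHom hp (ZMod p)).toAddMonoidHom.comp x) a) {g : ℕ → ℕ} {j : Fin 8} {M b : List ℕ}
    (hM : ∀ k : Fin 8, ((M.getD k 0 : ℤ) + tau p a g k - if j = k then 1 else 0) % m = 0)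
    (hb : ∀ k : Fin 8, M.getD k 0 = 0 ∨ ZMod.castHom hm (ZMod m) (x (al k)) = (b.getD k 0 : ℕ)) :
    ZMod.castHom hm (ZMod m) (x (al j)) = (val M b % m : ℕ) := by
  have h1 : ∀ k : Fin 8, (tau p a g k : ZMod m) = (if j = k then 1 else 0) - (M.getD k 0 : ℕ) := fun k => by
    have := (ZMod.intCast_zmod_eq_zero_iff_dvd _ m).2 (Int.dvd_of_emod_eq_zero (hM k))
    push_cast at this
    linear_combination this
  have h2 : ∀ k : Fin 8, (M.getD k 0 : ZMod m) * ZMod.castHom hm (ZMod m) (x (al k)) = (M.getD k 0 * b.getD k 0 : ℕ) :=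
    fun k => by rcases hb k with e | e <;> rw [e] <;> simp
  have h3 := h.lin hp hm ha g
  simp only [h1, sub_mul, h2, Finset.sum_sub_distrib, ite_mul, one_mul, zero_mul, Finset.sum_ite_eq, Finset.mem_univ,
    if_true, sub_eq_zero] at h3
  rw [h3, ZMod.natCast_mod, ← Nat.cast_sum, Fin.sum_univ_eight]
  rfl

end Cfsg.Agent.H6.Gs
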