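import Cfsg.Prelude.Def_LieTwisted
import Cfsg.Agent.H6.ChevE
import Cfsg.Agent.H6.ReeCore

/-! The Ree group of `7 × 7` matrices and the twisted subgroup of the adjoint Chevalley group `G₂`. -/

set_option autoImplicit false

namespace Cfsg.Agent.H6.Ree

open Matrix Cfsg.Lie Cfsg.Agent.H6.MP Cfsg.Agent.H6.ChevE

/-- linear coefficients of the root elements on the seven-dimensional module -/
def T1 : List (List (List ℤ)) :=
  [[[0, 0, 0, 0, 0, 0, 0], [0, 0, 0, 0, 0, 0, 0], [0, 0, 0, 0, 0, 0, 0], [0, 0, 0, 0, 0, 0, 0], [0, 0, 0, 0, 0, 0, 0], [-1, 0, 0, 0, 0, 0, 0], [0, 1, 0, 0, 0, 0, 0]],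
   [[0, 0, 0, 0, 0, 0, 0], [0, 0, 0, 0, 0, 0, 0], [0, 0, 0, 0, 0, 0, 0], [0, 0, 0, 0, 0, 0, 0], [-1, 0, 0, 0, 0, 0, 0], [0, 0, 0, 0, 0, 0, 0], [0, 0, 1, 0, 0, 0, 0]],
   [[0, 0, 0, 0, 0, 0, 0], [0, 0, 0, 0, 0, 0, 0], [0, 0, 0, 0, 0, 0, 0], [1, 0, 0, 0, 0, 0, 0], [0, -1, 0, 0, 0, 0, 0], [0, 0, 1, 0, 0, 0, 0], [0, 0, 0, 1, 0, 0, 0]],
   [[0, 0, 0, 0, 0, 0, 0], [0, 0, 0, 0, 0, 0, 0], [-1, 0, 0, 0, 0, 0, 0], [0, -1, 0, 0, 0, 0, 0], [0, 0, 0, 0, 0, 0, 0], [0, 0, 0, -1, 0, 0, 0], [0, 0, 0, 0, 1, 0, 0]],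
   [[0, 0, 0, 0, 0, 0, 0], [1, 0, 0, 0, 0, 0, 0], [0, 0, 0, 0, 0, 0, 0], [0, 0, -1, 0, 0, 0, 0], [0, 0, 0, -1, 0, 0, 0], [0, 0, 0, 0, 0, 0, 0], [0, 0, 0, 0, 0, -1, 0]],
   [[0, 0, 0, 0, 0, 0, 0], [0, 0, 0, 0, 0, 0, 0], [0, 1, 0, 0, 0, 0, 0], [0, 0, 0, 0, 0, 0, 0], [0, 0, 0, 0, 0, 0, 0], [0, 0, 0, 0, -1, 0, 0], [0, 0, 0, 0, 0, 0, 0]],
   [[0, 0, 0, 0, 0, 0, 0], [0, 0, 1, 0, 0, 0, 0], [0, 0, 0, 0, 0, 0, 0], [0, 0, 0, 0, 0, 0, 0], [0, 0, 0, 0, 0, -1, 0], [0, 0, 0, 0, 0, 0, 0], [0, 0, 0, 0, 0, 0, 0]],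
   [[0, 1, 0, 0, 0, 0, 0], [0, 0, 0, 0, 0, 0, 0], [0, 0, 0, 1, 0, 0, 0], [0, 0, 0, 0, 1, 0, 0], [0, 0, 0, 0, 0, 0, 0], [0, 0, 0, 0, 0, 0, -1], [0, 0, 0, 0, 0, 0, 0]],
   [[0, 0, -1, 0, 0, 0, 0], [0, 0, 0, 1, 0, 0, 0], [0, 0, 0, 0, 0, 0, 0], [0, 0, 0, 0, 0, 1, 0], [0, 0, 0, 0, 0, 0, 1], [0, 0, 0, 0, 0, 0, 0], [0, 0, 0, 0, 0, 0, 0]],
   [[0, 0, 0, -1, 0, 0, 0], [0, 0, 0, 0, -1, 0, 0], [0, 0, 0, 0, 0, 1, 0], [0, 0, 0, 0, 0, 0, -1], [0, 0, 0, 0, 0, 0, 0], [0, 0, 0, 0, 0, 0, 0], [0, 0, 0, 0, 0, 0, 0]],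
   [[0, 0, 0, 0, -1, 0, 0], [0, 0, 0, 0, 0, 0, 0], [0, 0, 0, 0, 0, 0, 1], [0, 0, 0, 0, 0, 0, 0], [0, 0, 0, 0, 0, 0, 0], [0, 0, 0, 0, 0, 0, 0], [0, 0, 0, 0, 0, 0, 0]],
   [[0, 0, 0, 0, 0, -1, 0], [0, 0, 0, 0, 0, 0, 1], [0, 0, 0, 0, 0, 0, 0], [0, 0, 0, 0, 0, 0, 0], [0, 0, 0, 0, 0, 0, 0], [0, 0, 0, 0, 0, 0, 0], [0, 0, 0, 0, 0, 0, 0]]]

/-- quadratic coefficients of the root elements on the seven-dimensional module -/
def T2 : List (List (List ℤ)) :=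
  [[[0, 0, 0, 0, 0, 0, 0], [0, 0, 0, 0, 0, 0, 0], [0, 0, 0, 0, 0, 0, 0], [0, 0, 0, 0, 0, 0, 0], [0, 0, 0, 0, 0, 0, 0], [0, 0, 0, 0, 0, 0, 0], [0, 0, 0, 0, 0, 0, 0]],
   [[0, 0, 0, 0, 0, 0, 0], [0, 0, 0, 0, 0, 0, 0], [0, 0, 0, 0, 0, 0, 0], [0, 0, 0, 0, 0, 0, 0], [0, 0, 0, 0, 0, 0, 0], [0, 0, 0, 0, 0, 0, 0], [0, 0, 0, 0, 0, 0, 0]],
   [[0, 0, 0, 0, 0, 0, 0], [0, 0, 0, 0, 0, 0, 0], [0, 0, 0, 0, 0, 0, 0], [0, 0, 0, 0, 0, 0, 0], [0, 0, 0, 0, 0, 0, 0], [0, 0, 0, 0, 0, 0, 0], [-1, 0, 0, 0, 0, 0, 0]],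
   [[0, 0, 0, 0, 0, 0, 0], [0, 0, 0, 0, 0, 0, 0], [0, 0, 0, 0, 0, 0, 0], [0, 0, 0, 0, 0, 0, 0], [0, 0, 0, 0, 0, 0, 0], [0, -1, 0, 0, 0, 0, 0], [0, 0, 0, 0, 0, 0, 0]],
   [[0, 0, 0, 0, 0, 0, 0], [0, 0, 0, 0, 0, 0, 0], [0, 0, 0, 0, 0, 0, 0], [0, 0, 0, 0, 0, 0, 0], [0, 0, -1, 0, 0, 0, 0], [0, 0, 0, 0, 0, 0, 0], [0, 0, 0, 0, 0, 0, 0]],
   [[0, 0, 0, 0, 0, 0, 0], [0, 0, 0, 0, 0, 0, 0], [0, 0, 0, 0, 0, 0, 0], [0, 0, 0, 0, 0, 0, 0], [0, 0, 0, 0, 0, 0, 0], [0, 0, 0, 0, 0, 0, 0], [0, 0, 0, 0, 0, 0, 0]],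
   [[0, 0, 0, 0, 0, 0, 0], [0, 0, 0, 0, 0, 0, 0], [0, 0, 0, 0, 0, 0, 0], [0, 0, 0, 0, 0, 0, 0], [0, 0, 0, 0, 0, 0, 0], [0, 0, 0, 0, 0, 0, 0], [0, 0, 0, 0, 0, 0, 0]],
   [[0, 0, 0, 0, 0, 0, 0], [0, 0, 0, 0, 0, 0, 0], [0, 0, 0, 0, -1, 0, 0], [0, 0, 0, 0, 0, 0, 0], [0, 0, 0, 0, 0, 0, 0], [0, 0, 0, 0, 0, 0, 0], [0, 0, 0, 0, 0, 0, 0]],
   [[0, 0, 0, 0, 0, 0, 0], [0, 0, 0, 0, 0, -1, 0], [0, 0, 0, 0, 0, 0, 0], [0, 0, 0, 0, 0, 0, 0], [0, 0, 0, 0, 0, 0, 0], [0, 0, 0, 0, 0, 0, 0], [0, 0, 0, 0, 0, 0, 0]],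
   [[0, 0, 0, 0, 0, 0, -1], [0, 0, 0, 0, 0, 0, 0], [0, 0, 0, 0, 0, 0, 0], [0, 0, 0, 0, 0, 0, 0], [0, 0, 0, 0, 0, 0, 0], [0, 0, 0, 0, 0, 0, 0], [0, 0, 0, 0, 0, 0, 0]],
   [[0, 0, 0, 0, 0, 0, 0], [0, 0, 0, 0, 0, 0, 0], [0, 0, 0, 0, 0, 0, 0], [0, 0, 0, 0, 0, 0, 0], [0, 0, 0, 0, 0, 0, 0], [0, 0, 0, 0, 0, 0, 0], [0, 0, 0, 0, 0, 0, 0]],
   [[0, 0, 0, 0, 0, 0, 0], [0, 0, 0, 0, 0, 0, 0], [0, 0, 0, 0, 0, 0, 0], [0, 0, 0, 0, 0, 0, 0], [0, 0, 0, 0, 0, 0, 0], [0, 0, 0, 0, 0, 0, 0], [0, 0, 0, 0, 0, 0, 0]]]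

/-- positive exponents of the diagonal elements -/
def Ep : List (List ℕ) :=
  [[0, 0, 0, 0, 0, 1, 1],
   [0, 0, 0, 0, 1, 0, 1],
   [0, 0, 0, 0, 1, 1, 2],
   [0, 0, 1, 0, 0, 2, 1],
   [0, 1, 0, 0, 2, 0, 1],
   [0, 0, 1, 0, 0, 1, 0],
   [0, 1, 0, 0, 1, 0, 0],
   [1, 0, 2, 0, 0, 1, 0],
   [1, 2, 0, 0, 1, 0, 0],
   [2, 1, 1, 0, 0, 0, 0],
   [1, 0, 1, 0, 0, 0, 0],
   [1, 1, 0, 0, 0, 0, 0]]

/-- negative exponents of the diagonal elements -/
def Em : List (List ℕ) :=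
  [[1, 1, 0, 0, 0, 0, 0],
   [1, 0, 1, 0, 0, 0, 0],
   [2, 1, 1, 0, 0, 0, 0],
   [1, 2, 0, 0, 1, 0, 0],
   [1, 0, 2, 0, 0, 1, 0],
   [0, 1, 0, 0, 1, 0, 0],
   [0, 0, 1, 0, 0, 1, 0],
   [0, 1, 0, 0, 2, 0, 1],
   [0, 0, 1, 0, 0, 2, 1],
   [0, 0, 0, 0, 1, 1, 2],
   [0, 0, 0, 0, 1, 0, 1],
   [0, 0, 0, 0, 0, 1, 1]]

/-- table lookup -/
def tab (T : List (List (List ℤ))) (r i j : ℕ) : ℤ := ((T.getD r []).getD i []).getD j 0

/-- root elements on the seven-dimensional module -/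
def SK {K : Type*} [CommRing K] (r : ℕ) (t : K) : Matrix (Fin 7) (Fin 7) K :=
  Matrix.of fun i j => (((if i = j then 1 else 0 : ℤ)) : K) + (tab T1 r i j : K) * t + (tab T2 r i j : K) * t ^ 2

/-- the same as expressions -/
def SE (r : ℕ) (t : Expr) : Matrix (Fin 7) (Fin 7) Expr :=
  Matrix.of fun i j => Expr.int (if i = j then 1 else 0) + Expr.int (tab T1 r i j) * t + Expr.int (tab T2 r i j) * t ^ 2

theorem SE_eval {K : Type*} [CommRing K] (l : List K) (r : ℕ) (t : Expr) :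
    (SE r t).map (Expr.eval l) = SK r (t.eval l) := rfl

/-- diagonal matrices of the `h_r(t)` -/
def DM {R : Type*} [Zero R] [Mul R] [Pow R ℕ] (r : ℕ) (t t' : R) : Matrix (Fin 7) (Fin 7) R :=
  Matrix.of fun i j => if i = j then t ^ ((Ep.getD r []).getD i 0) * t' ^ ((Em.getD r []).getD i 0) else 0

theorem DM_eval {K : Type*} [CommRing K] (l : List K) (r : ℕ) (t t' : Expr) :
    (DM r t t').map (Expr.eval l) = DM r (t.eval l) (t'.eval l) := by
  ext i j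
  simp only [DM, Matrix.map_apply, Matrix.of_apply]
  split_ifs <;> rfl

/-- basis vectors of the short-root ideal -/
def sIdx : Fin 7 → chevG2.Idx :=
  ![Sum.inr (9 : Fin 12), Sum.inr (8 : Fin 12), Sum.inr (7 : Fin 12), Sum.inl (0 : Fin 2), Sum.inr (4 : Fin 12),
    Sum.inr (3 : Fin 12), Sum.inr (2 : Fin 12)]

/-- basis vectors of the quotient by the short-root ideal -/
def qIdx : Fin 7 → chevG2.Idx :=
  ![Sum.inr (11 : Fin 12), Sum.inr (10 : Fin 12), Sum.inr (6 : Fin 12), Sum.inl (1 : Fin 2), Sum.inr (5 : Fin 12),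
    Sum.inr (1 : Fin 12), Sum.inr (0 : Fin 12)]

/-- the Lie algebra as skew matrices -/
def A14 {R : Type*} [Zero R] [Add R] [Neg R] [Sub R] (c : chevG2.Idx → R) : Matrix (Fin 7) (Fin 7) R :=
  AM (fun i => c (sIdx i)) (fun i => c (qIdx i))

/-- a vector from its two halves -/
def glue {R : Type*} (y z : Fin 7 → R) : chevG2.Idx → R :=
  Sum.elim (fun i : Fin 2 => ![y 3, z 3] i)
    (fun u : Fin 12 => ![z 6, z 5, y 6, y 5, y 4, z 4, z 2, y 2, y 1, y 0, z 1, z 0] u)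

theorem glue_s {R : Type*} (y z : Fin 7 → R) : (fun i => glue y z (sIdx i)) = y := by
  ext i; fin_cases i <;> rfl

theorem glue_q {R : Type*} (y z : Fin 7 → R) : (fun i => glue y z (qIdx i)) = z := by
  ext i; fin_cases i <;> rfl

theorem glue_eta {R : Type*} (c : chevG2.Idx → R) : glue (fun i => c (sIdx i)) (fun i => c (qIdx i)) = c := by
  ext k
  rcases k with i | u
  · revert i
    show ∀ i : Fin 2, _
    intro i; fin_cases i <;> rfl
  · revert u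
    show ∀ u : Fin 12, _
    intro u; fin_cases u <;> rfl

theorem glue_eval {K : Type*} [CommRing K] (l : List K) (y z : Fin 7 → Expr) (k : chevG2.Idx) :
    (glue y z k).eval l = glue (fun i => (y i).eval l) (fun i => (z i).eval l) k := by
  rcases k with i | u
  · revert i
    show ∀ i : Fin 2, _
    intro i; fin_cases i <;> rfl
  · revert u
    show ∀ u : Fin 12, _
    intro u; fin_cases u <;> rfl

variable {K : Type*} [Field K]

theorem A14_glue (y z : Fin 7 → K) : A14 (glue y z) = AM y z := by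
  rw [A14, glue_s, glue_q]

theorem A14_inj {c c' : chevG2.Idx → K} (h : A14 c = A14 c') : c = c' := by
  obtain ⟨h1, h2⟩ := AM_inj h
  rw [← glue_eta c, ← glue_eta c', h1, h2]

/-- `g` is the action of `s` on the Lie algebra -/
def Rel (g : Matrix chevG2.Idx chevG2.Idx K) (s : Matrix (Fin 7) (Fin 7) K) : Prop :=
  ∀ c, s * A14 c * sᵀ = A14 (g *ᵥ c)

theorem Rel.mul {g g' : Matrix chevG2.Idx chevG2.Idx K} {s s' : Matrix (Fin 7) (Fin 7) K} (h : Rel g s)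
    (h' : Rel g' s') : Rel (g * g') (s * s') := by
  intro c
  rw [← Matrix.mulVec_mulVec, ← h, ← h']
  simp only [Matrix.transpose_mul, Matrix.mul_assoc]

theorem rel_one : Rel (1 : Matrix chevG2.Idx chevG2.Idx K) 1 := by
  intro c; simp

theorem Rel.unique {g g' : Matrix chevG2.Idx chevG2.Idx K} {s : Matrix (Fin 7) (Fin 7) K} (h : Rel g s)
    (h' : Rel g' s) : g = g' := by
  apply Matrix.toLin'.injective
  apply LinearMap.ext
  intro c
  simp only [Matrix.toLin'_apply]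
  exact A14_inj (by rw [← h, ← h'])

theorem check_K1 : ∀ r : Fin chevG2.nroots, MExpr.check 3 [] 0
    (.mul (.mul (.mat (SE r (v 14))) (.mat (AM (vv 0) (vv 7)))) (.tr (.mat (SE r (v 14)))))
    (.mat (A14 fun k => sumIdx chevG2 fun k' => xE chevG2 r (v 14) k k' * glue (vv 0) (vv 7) k')) = true := by
  decide +kernel

theorem SK_big {r : ℕ} (hr : 12 ≤ r) (t : K) : SK r t = 1 := by
  have h1 : T1.getD r [] = [] := List.getD_eq_default _ _ hr
  have h2 : T2.getD r [] = [] := List.getD_eq_default _ _ hr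
  ext i j
  simp only [SK, tab, h1, h2, Matrix.one_apply, Matrix.of_apply]
  simp

variable [CharP K 3]

theorem rel_x (r : ℕ) (t : K) : Rel (chevG2.x K r t) (SK r t) := by
  by_cases hr : r < 12
  · intro c
    have hx : chevG2.x K r t = chevG2.xMat K ⟨r, hr⟩ t := dif_pos hr
    set y := fun i => c (sIdx i)
    set z := fun i => c (qIdx i)
    have := MExpr.sound' 3 (yz y z [t]) (by simp [yz]) _ _ (check_K1 ⟨r, hr⟩)
    simp only [MExpr.eval, SE_eval, AM_eval, A14, yz_y, yz_z, eval_sumIdx, Expr.eval_mul, eval_xE, glue_eval] at this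
    rw [glue_eta] at this
    rw [hx]
    exact this
  · have hx : chevG2.x K r t = 1 := dif_neg hr
    rw [hx, SK_big (not_lt.1 hr)]
    exact rel_one

/-- the seven-dimensional matrix of a word -/
def wordS (w : List (ℕ × K)) : Matrix (Fin 7) (Fin 7) K := (w.map fun p => SK p.1 p.2).prod

theorem rel_word (w : List (ℕ × K)) : Rel (chevG2.wordMat K w) (wordS w) := by
  induction w with
  | nil => exact rel_one
  | cons p w ih => exact (rel_x p.1 p.2).mul ih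

theorem check_inv : ∀ r : Fin 12, MExpr.check 3 [] 0 (.mul (.mat (SE r (v 0))) (.mat (SE r (- v 0)))) .one = true := by
  decide +kernel

theorem SK_mul_neg (r : ℕ) (t : K) : SK r t * SK r (-t) = 1 := by
  by_cases hr : r < 12
  · exact MExpr.sound' 3 [t] (by simp) _ _ (check_inv ⟨r, hr⟩)
  · rw [SK_big (not_lt.1 hr), SK_big (not_lt.1 hr), one_mul]

theorem x_mul_neg (r : ℕ) (t : K) : chevG2.x K r t * chevG2.x K r (-t) = 1 := by
  have := (rel_x r t).mul (rel_x r (-t))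
  rw [SK_mul_neg] at this
  exact this.unique rel_one

/-- root elements as units -/
def xu (r : ℕ) (t : K) : GL chevG2.Idx K :=
  ⟨chevG2.x K r t, chevG2.x K r (-t), x_mul_neg r t, by simpa using x_mul_neg r (-t)⟩

/-- words as units -/
def wordU (w : List (ℕ × K)) : GL chevG2.Idx K := (w.map fun p => xu p.1 p.2).prod

theorem val_wordU (w : List (ℕ × K)) : (wordU w : Matrix chevG2.Idx chevG2.Idx K) = chevG2.wordMat K w := by
  induction w with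
  | nil => rfl
  | cons p w ih =>
    show (xu p.1 p.2 * wordU w : GL chevG2.Idx K).val = chevG2.x K p.1 p.2 * chevG2.wordMat K w
    rw [Units.val_mul, ih]; rfl

theorem word_x (a b c A B C : K) :
    SK 7 a * (SK 6 A * (SK 8 (a * A + b) * (SK 9 (a ^ 2 * A + c) * (SK 10 B * (SK 11 C * 1))))) = xM a b c A B C := by
  have := MExpr.sound' 3 [a, b, c, A, B, C] (by simp)
    (.mul (.mat (SE 7 (v 0))) (.mul (.mat (SE 6 (v 3))) (.mul (.mat (SE 8 (v 0 * v 3 + v 1)))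
      (.mul (.mat (SE 9 (v 0 ^ 2 * v 3 + v 2))) (.mul (.mat (SE 10 (v 4))) (.mul (.mat (SE 11 (v 5))) .one))))))
    (.mat (xM (v 0) (v 1) (v 2) (v 3) (v 4) (v 5))) (by decide +kernel)
  simp only [MExpr.eval, SE_eval, xM_eval] at this
  exact this

theorem word_v (a b c A B C : K) :
    SK 4 (-a) * (SK 5 (-A) * (SK 3 (-(a * A + b)) * (SK 2 (-(a ^ 2 * A + c)) * (SK 1 (-B) * (SK 0 (-C) * 1))))) =
      nM * xM a b c A B C * nM := by
  have := MExpr.sound' 3 [a, b, c, A, B, C] (by simp)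
    (.mul (.mat (SE 4 (-v 0))) (.mul (.mat (SE 5 (-v 3))) (.mul (.mat (SE 3 (-(v 0 * v 3 + v 1))))
      (.mul (.mat (SE 2 (-(v 0 ^ 2 * v 3 + v 2)))) (.mul (.mat (SE 1 (-v 4))) (.mul (.mat (SE 0 (-v 5))) .one))))))
    (.mul (.mul (.mat nM) (.mat (xM (v 0) (v 1) (v 2) (v 3) (v 4) (v 5)))) (.mat nM)) (by decide +kernel)
  simp only [MExpr.eval, SE_eval, xM_eval, nM_eval] at this
  exact this

theorem check_h : ∀ r : Fin 12, MExpr.check 3 [⟨0, 1, 1⟩] 6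
    (.mul (.mat (SE r (v 0))) (.mul (.mat (SE (chevG2.neg r) (-v 1))) (.mul (.mat (SE r (v 0)))
      (.mul (.mat (SE r (-1))) (.mul (.mat (SE (chevG2.neg r) 1)) (.mul (.mat (SE r (-1))) .one))))))
    (.mat (DM r (v 0) (v 1))) = true := by
  decide +kernel

theorem wordS_hWord {r : ℕ} (hr : r < 12) {t : K} (ht : t ≠ 0) : wordS (chevG2.hWord r t) = DM r t t⁻¹ := by
  have := MExpr.sound 3 [t, t⁻¹] (by simp) [⟨0, 1, 1⟩]
    (by simp only [List.forall_mem_cons]; exact ⟨mul_inv_cancel₀ ht, by simp⟩) 6 _ _ (check_h ⟨r, hr⟩)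
  simp only [MExpr.eval, SE_eval, DM_eval] at this
  have e : -(-1 : K)⁻¹ = 1 := by simp
  simp only [wordS, ChevalleyDatum.hWord, ChevalleyDatum.nWord, e, List.cons_append, List.nil_append, List.map_cons,
    List.map_nil, List.prod_cons, List.prod_nil]
  exact this

theorem DM_hM (k κ k' κ' : K) : DM 7 k k' * DM 6 κ κ' = hM k κ k' κ' := by
  have := MExpr.sound' 3 [k, κ, k', κ'] (by simp)
    (.mul (.mat (DM 7 (v 0) (v 2))) (.mat (DM 6 (v 1) (v 3)))) (.mat (hM (v 0) (v 1) (v 2) (v 3)))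
    (by decide +kernel)
  simp only [MExpr.eval, DM_eval, hM_eval] at this
  exact this

/-- the coordinates of a matrix in the Lie algebra -/
def coord (X : Matrix (Fin 7) (Fin 7) K) : chevG2.Idx → K := glue (yOf X) (zOf X)

omit [CharP K 3] in
theorem exists_rel {ψ : K →+* K} {s : Matrix (Fin 7) (Fin 7) K} (h : IsRee ψ s) : ∃ g, Rel g s := by
  have h1 : ∀ c : chevG2.Idx → K, ∃ c', s * A14 c * sᵀ = A14 c' := by
    intro c
    obtain ⟨y', e⟩ := h.2 (fun i => c (sIdx i)) (fun i => c (qIdx i))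
    exact ⟨glue y' _, by rw [A14_glue]; exact e⟩
  choose f hf using h1
  have hadd : ∀ c c' : chevG2.Idx → K, A14 (c + c') = A14 c + A14 c' := by
    intro c c'
    ext i j; fin_cases i <;> fin_cases j <;> simp [A14, AM] <;> ring
  have hsmul : ∀ (a : K) (c : chevG2.Idx → K), A14 (a • c) = a • A14 c := by
    intro a c
    ext i j; fin_cases i <;> fin_cases j <;> simp [A14, AM] <;> ring
  let F : (chevG2.Idx → K) →ₗ[K] (chevG2.Idx → K) :=
    { toFun := f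
      map_add' := fun c c' => A14_inj (by rw [hadd, ← hf, ← hf, ← hf, hadd, Matrix.mul_add, Matrix.add_mul])
      map_smul' := fun a c => A14_inj (by
        rw [RingHom.id_apply, hsmul, ← hf, ← hf, hsmul, Matrix.mul_smul, Matrix.smul_mul]) }
  refine ⟨LinearMap.toMatrix' F, fun c => ?_⟩
  rw [LinearMap.toMatrix'_mulVec]
  exact hf c

omit [CharP K 3] in
theorem Rel.z_eq {ψ : K →+* K} {s : Matrix (Fin 7) (Fin 7) K} (h : IsRee ψ s)
    {g : Matrix chevG2.Idx chevG2.Idx K} (hg : Rel g s) (y z : Fin 7 → K) :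
    (fun i => (g *ᵥ glue y z) (qIdx i)) = s.map ψ *ᵥ z := by
  obtain ⟨y', e⟩ := h.2 y z
  have := hg (glue y z)
  rw [A14_glue, e] at this
  exact (AM_inj this).2.symm

omit [CharP K 3] in
/-- comparison of two matrices with the same adjoint action, one of them in the Ree group -/
theorem Rel.compare {ψ : K →+* K} {s s' : Matrix (Fin 7) (Fin 7) K} (h : IsRee ψ s)
    {g : Matrix chevG2.Idx chevG2.Idx K} (hg : Rel g s) (hg' : Rel g s') :
    ψ (s 6 0) = s' 5 0 * s' 6 1 - s' 5 1 * s' 6 0 ∧ ψ (s 0 0) = s' 0 0 * s' 1 1 - s' 0 1 * s' 1 0 ∧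
      ψ (s 0 6) = s' 0 5 * s' 1 6 - s' 0 6 * s' 1 5 := by
  have h0 := hg' (glue 0 (Pi.single 0 1))
  have h6 := hg' (glue 0 (Pi.single 6 1))
  rw [A14_glue, A14, hg.z_eq h] at h0 h6
  have e1 := congrFun (congrFun h0 5) 6
  have e2 := congrFun (congrFun h0 0) 1
  have e3 := congrFun (congrFun h6 0) 1
  simp [AM, Matrix.mul_apply, Fin.sum_univ_seven] at e1 e2 e3
  exact ⟨by linear_combination e1, by linear_combination e2, by linear_combination e3⟩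

namespace Model

variable {G : Type*} [Group G] {ψ : K →+* K} (M : Model G ψ)

/-- the adjoint action -/
noncomputable def adM : G →* Matrix chevG2.Idx chevG2.Idx K where
  toFun g := (exists_rel (M.isRee g)).choose
  map_one' := (exists_rel (M.isRee 1)).choose_spec.unique (by rw [map_one]; exact rel_one)
  map_mul' g g' := (exists_rel (M.isRee (g * g'))).choose_spec.unique (by
    rw [map_mul]; exact (exists_rel (M.isRee g)).choose_spec.mul (exists_rel (M.isRee g')).choose_spec)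

omit [CharP K 3] in
theorem rel_adM (g : G) : Rel (M.adM g) (M.ρ g) := (exists_rel (M.isRee g)).choose_spec

/-- the adjoint action, with values in the general linear group -/
noncomputable def ad : G →* GL chevG2.Idx K := M.adM.toHomUnits

omit [CharP K 3] in
theorem rel_ad (g : G) : Rel (M.ad g : Matrix chevG2.Idx chevG2.Idx K) (M.ρ g) := M.rel_adM g

omit [CharP K 3] in
theorem ad_injective : Function.Injective M.ad := by
  rw [injective_iff_map_eq_one]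
  intro g hg
  have h1 := M.rel_ad g
  rw [hg, Units.val_one] at h1
  have h2 : (M.ρ g).map ψ = 1 := by
    apply Matrix.toLin'.injective
    apply LinearMap.ext
    intro z
    simp only [Matrix.toLin'_apply]
    rw [← h1.z_eq (M.isRee g) 0 z, Matrix.one_mulVec, Matrix.one_mulVec, glue_q]
  apply M.inj
  rw [map_one]
  ext i j
  apply ψ.injective
  have := congrFun (congrFun h2 i) j
  rw [Matrix.map_apply] at this
  rw [this, Matrix.one_apply]
  split_ifs <;> simp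

theorem ad_eq_wordU {g : G} {w : List (ℕ × K)} (h : wordS w = M.ρ g) : M.ad g = wordU w := by
  apply Units.ext
  rw [val_wordU]
  exact (M.rel_ad g).unique (h ▸ rel_word w)

theorem ad_x (a b c : K) : M.ad (M.x a b c) =
    wordU [(7, a), (6, ψ a), (8, a * ψ a + b), (9, a ^ 2 * ψ a + c), (10, ψ b), (11, ψ c)] :=
  M.ad_eq_wordU (by rw [ρ_x, ← word_x]; rfl)

theorem ad_v (a b c : K) : M.ad (M.n * M.x a b c * M.n) =
    wordU [(4, -a), (5, -ψ a), (3, -(a * ψ a + b)), (2, -(a ^ 2 * ψ a + c)), (1, -ψ b), (0, -ψ c)] :=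
  M.ad_eq_wordU (by rw [map_mul, map_mul, ρ_x, ρ_n, ← word_v]; rfl)

theorem ad_h (k : Kˣ) : M.ad (M.h k) = wordU (chevG2.hWord 7 (k : K)) * wordU (chevG2.hWord 6 (ψ k)) := by
  apply Units.ext
  rw [Units.val_mul, val_wordU, val_wordU]
  refine (M.rel_ad _).unique ?_
  rw [ρ_h, ← DM_hM, ← wordS_hWord (by norm_num) k.ne_zero, ← wordS_hWord (by norm_num) (by simp)]
  exact (rel_word _).mul (rel_word _)

theorem range_ad [Finite K] {e : ℕ} (he : ∀ t : K, ψ (t ^ e) = t) : M.ad.range = twistedG2 K e := by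
  have hw : ∀ t u v : K, reeWordU e t u v = [(7, t ^ e), (6, ψ (t ^ e)), (8, t ^ e * ψ (t ^ e) + u ^ e),
      (9, (t ^ e) ^ 2 * ψ (t ^ e) + v ^ e), (10, ψ (u ^ e)), (11, ψ (v ^ e))] := by
    intro t u v
    simp only [he, reeWordU, pow_succ, mul_comm 2 e, pow_mul]
    rfl
  have hU : ∀ t u v : K, M.ad (M.x (t ^ e) (u ^ e) (v ^ e)) = wordU (reeWordU e t u v) := by
    intro t u v; rw [hw, ad_x]
  have hV : ∀ t u v : K, M.ad (M.n * M.x (t ^ e) (u ^ e) (v ^ e) * M.n) = wordU (reeWordV e t u v) := by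
    intro t u v; rw [reeWordV, hw, ad_v]; rfl
  have hs : ∀ a : K, ψ a ^ e = a := fun a => ψ.injective (he _)
  apply le_antisymm
  · rw [MonoidHom.range_eq_map, Subgroup.map_le_iff_le_comap, top_le_iff]
    apply M.eq_top_of_U_V
    · intro a b c
      rw [Subgroup.mem_comap, ← hs a, ← hs b, ← hs c, hU]
      exact Subgroup.subset_closure ⟨_, ⟨_, _, _, Or.inl rfl⟩, val_wordU _⟩
    · intro a b c
      rw [Subgroup.mem_comap, ← hs a, ← hs b, ← hs c, hV]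
      exact Subgroup.subset_closure ⟨_, ⟨_, _, _, Or.inr rfl⟩, val_wordU _⟩
  · rw [twistedG2, ChevalleyDatum.genSubgroup, Subgroup.closure_le]
    rintro g ⟨w, ⟨t, u, v, rfl | rfl⟩, hg⟩
    · exact ⟨_, by rw [hU]; exact Units.ext (by rw [val_wordU, hg])⟩
    · exact ⟨_, by rw [hV]; exact Units.ext (by rw [val_wordU, hg])⟩

end Model

theorem closure_ind {Γ : Type*} [Group Γ] [Finite Γ] {s : Set Γ} {p : Γ → Prop} (h1 : p 1)
    (hmul : ∀ x y, p x → p y → p (x * y)) (hs : ∀ x ∈ s, p x) {x : Γ} (hx : x ∈ Subgroup.closure s) : p x := by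
  have : x ∈ Submonoid.closure s := by
    rw [← Subgroup.closure_toSubmonoid_of_finite]; exact hx
  clear hx
  induction this using Submonoid.closure_induction with
  | mem x hx => exact hs x hx
  | one => exact h1
  | mul x y _ _ hx hy => exact hmul x y hx hy

theorem pos_tab : ∀ r < 12, chevG2.IsPosRoot r → ∀ i j : Fin 7, j ≤ i → tab T1 r i j = 0 ∧ tab T2 r i j = 0 := by
  decide +kernel

omit [CharP K 3] in
theorem SK_pos {r : ℕ} (hr : chevG2.IsPosRoot r) (t : K) :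
    (SK r t).BlockTriangular id ∧ ∀ i, SK r t i i = 1 := by
  constructor
  · intro i j hij
    have := pos_tab r hr.1 hr i j (le_of_lt hij)
    simp [SK, this.1, this.2, (ne_of_gt hij : i ≠ j)]
  · intro i
    have := pos_tab r hr.1 hr i i le_rfl
    simp [SK, this.1, this.2]

omit [CharP K 3] in
theorem diag_mul {s s' : Matrix (Fin 7) (Fin 7) K} (h : s.BlockTriangular id) (h' : s'.BlockTriangular id)
    (i : Fin 7) : (s * s') i i = s i i * s' i i := by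
  rw [Matrix.mul_apply]
  apply Finset.sum_eq_single
  · intro j _ hj
    rcases lt_or_gt_of_ne hj with hj | hj
    · rw [h (show id j < id i from hj), zero_mul]
    · rw [h' (show id i < id j from hj), mul_zero]
  · simp

theorem rel_of_posUnipotent [Finite K] {g : GL chevG2.Idx K} (hg : g ∈ chevG2.posUnipotent K) :
    ∃ s, Rel (g : Matrix chevG2.Idx chevG2.Idx K) s ∧ s.BlockTriangular id ∧ ∀ i, s i i = 1 := by
  refine closure_ind (p := fun g : GL chevG2.Idx K => ∃ s, Rel (g : Matrix chevG2.Idx chevG2.Idx K) s ∧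
    s.BlockTriangular id ∧ ∀ i, s i i = 1) ?_ ?_ ?_ hg
  · exact ⟨1, rel_one, Matrix.blockTriangular_one, by simp⟩
  · rintro x y ⟨s, h1, h2, h3⟩ ⟨s', h1', h2', h3'⟩
    exact ⟨s * s', h1.mul h1', h2.mul h2', fun i => by rw [diag_mul h2 h2', h3, h3', one_mul]⟩
  · rintro x ⟨r, t, hr, e⟩
    exact ⟨SK r t, e ▸ rel_x r t, SK_pos hr t⟩

theorem rel_of_diagonal [Finite K] {g : GL chevG2.Idx K} (hg : g ∈ chevG2.diagonalSubgroup K) :
    ∃ s, Rel (g : Matrix chevG2.Idx chevG2.Idx K) s ∧ s.IsDiag := by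
  refine closure_ind (p := fun g : GL chevG2.Idx K => ∃ s, Rel (g : Matrix chevG2.Idx chevG2.Idx K) s ∧
    s.IsDiag) ?_ ?_ ?_ hg
  · exact ⟨1, rel_one, Matrix.isDiag_one⟩
  · rintro x y ⟨s, h1, h2⟩ ⟨s', h1', h2'⟩
    refine ⟨s * s', h1.mul h1', ?_⟩
    rw [← h2.diagonal_diag, ← h2'.diagonal_diag, Matrix.diagonal_mul_diagonal]
    exact Matrix.isDiag_diagonal _
  · rintro x ⟨r, t, hr, ht, e⟩
    refine ⟨DM r t t⁻¹, ?_, ?_⟩
    · rw [e, ← wordS_hWord hr ht]; exact rel_word _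
    · intro i j hij
      simp [DM, hij]

theorem rel_of_borel [Finite K] {g : GL chevG2.Idx K} (hg : g ∈ chevG2.borelSubgroup K) :
    ∃ s, Rel (g : Matrix chevG2.Idx chevG2.Idx K) s ∧ s.BlockTriangular id := by
  rw [ChevalleyDatum.borelSubgroup, Subgroup.sup_eq_closure] at hg
  refine closure_ind (p := fun g : GL chevG2.Idx K => ∃ s, Rel (g : Matrix chevG2.Idx chevG2.Idx K) s ∧
    s.BlockTriangular id) ?_ ?_ ?_ hg
  · exact ⟨1, rel_one, Matrix.blockTriangular_one⟩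
  · rintro x y ⟨s, h1, h2⟩ ⟨s', h1', h2'⟩
    exact ⟨s * s', h1.mul h1', h2.mul h2'⟩
  · rintro x (hx | hx)
    · obtain ⟨s, h1, h2, -⟩ := rel_of_posUnipotent hx
      exact ⟨s, h1, h2⟩
    · obtain ⟨s, h1, h2⟩ := rel_of_diagonal hx
      exact ⟨s, h1, fun i j hij => h2 (ne_of_gt hij)⟩

namespace Model

variable [Finite K] {G : Type*} [Group G] {ψ : K →+* K} (M : Model G ψ)

omit [Finite K] in
theorem ad_x_mem (a b c : K) : M.ad (M.x a b c) ∈ chevG2.posUnipotent K := by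
  have h : ∀ r t, chevG2.IsPosRoot r → xu r t ∈ chevG2.posUnipotent K := fun r t hr =>
    Subgroup.subset_closure ⟨r, t, hr, rfl⟩
  rw [ad_x]
  apply Subgroup.list_prod_mem
  simp only [List.map_cons, List.map_nil, List.forall_mem_cons]
  exact ⟨h _ _ (by decide), h _ _ (by decide), h _ _ (by decide), h _ _ (by decide), h _ _ (by decide),
    h _ _ (by decide), by simp⟩

omit [Finite K] in
theorem ad_h_mem (k : Kˣ) : M.ad (M.h k) ∈ chevG2.diagonalSubgroup K := by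
  rw [ad_h]
  exact Subgroup.mul_mem _ (Subgroup.subset_closure ⟨7, k, by decide, k.ne_zero, val_wordU _⟩)
    (Subgroup.subset_closure ⟨6, ψ k, by decide, by simp, val_wordU _⟩)

theorem ad_mem_borel (g : G) : M.ad g ∈ chevG2.borelSubgroup K ↔ g ∈ M.B := by
  constructor
  · intro h
    obtain ⟨s, h1, h2⟩ := rel_of_borel h
    have := ((M.rel_ad g).compare (M.isRee g) h1).1
    rw [h2 (show id (0 : Fin 7) < id 5 by decide), h2 (show id (0 : Fin 7) < id 6 by decide)] at this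
    rw [mem_B_iff]
    simpa using this
  · intro h
    obtain ⟨a, b, c, k, rfl, -⟩ := M.exists_xh g h
    rw [map_mul]
    exact Subgroup.mul_mem_sup (M.ad_x_mem a b c) (M.ad_h_mem k)

theorem ad_mem_pos (g : G) : M.ad g ∈ chevG2.posUnipotent K ↔ g ∈ M.U := by
  constructor
  · intro h
    have hB := (M.ad_mem_borel g).1 (Subgroup.mem_sup_left h)
    obtain ⟨s, h1, h2, h3⟩ := rel_of_posUnipotent h
    have := ((M.rel_ad g).compare (M.isRee g) h1).2.1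
    rw [h2 (show id (0 : Fin 7) < id 1 by decide), h3, h3] at this
    obtain ⟨a, b, c, k, rfl, hk⟩ := M.exists_xh g hB
    have hk1 : k = 1 := Units.ext (ψ.injective (by rw [hk, this]; simp))
    rw [hk1, h_one, mul_one]
    exact M.x_mem_U a b c
  · rintro ⟨a, b, c, rfl⟩
    exact M.ad_x_mem a b c

theorem ad_mem_diag (g : G) : M.ad g ∈ chevG2.diagonalSubgroup K ↔ g ∈ M.H := by
  constructor
  · intro h
    have hB := (M.ad_mem_borel g).1 (Subgroup.mem_sup_right h)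
    obtain ⟨s, h1, h2⟩ := rel_of_diagonal h
    have := ((M.rel_ad g).compare (M.isRee g) h1).2.2
    rw [h2 (show (0 : Fin 7) ≠ 5 by decide), h2 (show (0 : Fin 7) ≠ 6 by decide)] at this
    obtain ⟨k, rfl, -⟩ := M.eq_h g hB (by simpa using this)
    exact M.h_mem_H k
  · rintro ⟨k, rfl⟩
    exact M.ad_h_mem k

/-- transport of a model along an isomorphism -/
def congr {G' : Type*} [Group G'] (e : G' ≃* G) : Model G' ψ where
  ρ := M.ρ.comp e.toMonoidHom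
  inj := M.inj.comp e.injective
  isRee g := M.isRee _
  surj s hs := by
    obtain ⟨g, hg⟩ := M.surj s hs
    exact ⟨e.symm g, by simpa using hg⟩
  hψ := M.hψ

end Model

/-- The twisted group is a model of the Ree group, and its adjoint action is the inclusion. -/
theorem exists_model [Finite K] {ψ : K →+* K} (hψ : ∀ x, ψ (ψ x) = x ^ 3) {e : ℕ} (he : ∀ t : K, ψ (t ^ e) = t) :
    ∃ M : Model (twistedG2 K e) ψ, ∀ g, M.ad g = g := by
  let M₀ := reeModel hψ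
  let f : ReeG ψ ≃* twistedG2 K e :=
    (MonoidHom.ofInjective M₀.ad_injective).trans (MulEquiv.subgroupCongr (M₀.range_ad he))
  refine ⟨M₀.congr f.symm, fun g => ?_⟩
  apply Units.ext
  refine ((M₀.congr f.symm).rel_ad g).unique ?_
  have h1 := M₀.rel_ad (f.symm g)
  have h2 : M₀.ad (f.symm g) = g := by
    conv_rhs => rw [← f.apply_symm_apply g]
    rfl
  rw [h2] at h1
  exact h1

omit [CharP K 3] in
theorem exists_model' [Fintype K] {m : ℕ} (hK : Fintype.card K = 3 ^ (2 * m + 1)) :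
    ∃ (_ : CharP K 3) (ψ : K →+* K) (M : Model (twistedG2 K (3 ^ m)) ψ), (∀ g, M.ad g = g) ∧
      ∀ x, ψ x = x ^ 3 ^ (m + 1) := by
  have : CharP K 3 := charP_of_card_eq_prime_pow hK
  have h1 : ∀ x : K, x ^ 3 ^ (2 * m + 1) = x := fun x => by rw [← hK, FiniteField.pow_card]
  obtain ⟨M, hM⟩ := exists_model (ψ := iterateFrobenius K 3 (m + 1)) (e := 3 ^ m) (fun x => by
    rw [iterateFrobenius_def, iterateFrobenius_def, ← pow_mul, ← pow_add,
      show m + 1 + (m + 1) = (2 * m + 1) + 1 by ring, pow_succ, pow_mul, h1]) (fun x => by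
    rw [iterateFrobenius_def, ← pow_mul, ← pow_add, show m + (m + 1) = 2 * m + 1 by ring, h1])
  exact ⟨this, _, M, hM, fun x => iterateFrobenius_def ..⟩

end Cfsg.Agent.H6.Ree
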