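import Cfsg.Agent.H6.ReeTori

/-! Counting the elements of the small Ree groups: the tori of orders `q ± r + 1`. -/

set_option autoImplicit false

namespace Cfsg.Agent.H6.Ree

open Cfsg.Agent.H6.RankOne Cfsg.Agent.H6.Grp MulAction

section Arith

variable {l q : ℕ}

theorem cast_ne_of_prime [Fact l.Prime] {p : ℕ} (hp : p.Prime) (h : l ≠ p) : (p : ZMod l) ≠ 0 := fun h' =>
  h ((Nat.prime_dvd_prime_iff_eq Fact.out hp).1 ((ZMod.natCast_eq_zero_iff p l).1 h'))

theorem arith_sub (hl : l.Prime) (hq : 1 ≤ q) (h2 : l ≠ 2) (h : l ∣ q - 1) : ¬ l ∣ q ^ 3 * (q ^ 3 + 1) := by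
  have := Fact.mk hl
  have c2 := cast_ne_of_prime Nat.prime_two h2
  rw [← ZMod.natCast_eq_zero_iff] at h ⊢
  push_cast [hq] at h c2 ⊢
  rw [sub_eq_zero.1 h]
  intro h'; apply c2; linear_combination h'

theorem arith_add (hl : l.Prime) (hq : 1 ≤ q) (h2 : l ≠ 2) (h3 : l ≠ 3) (h : l ∣ q + 1) :
    ¬ l ∣ 2 * (q ^ 3 * (q - 1) * (q ^ 2 - q + 1)) := by
  have := Fact.mk hl
  have c2 := cast_ne_of_prime Nat.prime_two h2
  have c3 := cast_ne_of_prime Nat.prime_three h3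
  have hq2 : q ≤ q ^ 2 := Nat.le_self_pow two_ne_zero q
  rw [← ZMod.natCast_eq_zero_iff] at h ⊢
  push_cast [hq, hq2] at h c2 c3 ⊢
  rw [add_eq_zero_iff_eq_neg.1 h]
  intro h'; apply mul_ne_zero c2 (mul_ne_zero c2 c3); linear_combination h'

theorem arith_M (hl : l.Prime) (hq : 1 ≤ q) (h3 : l ≠ 3) (h : l ∣ q ^ 2 - q + 1) :
    ¬ l ∣ q ^ 3 * (q - 1) * (q + 1) := by
  have := Fact.mk hl
  have c3 := cast_ne_of_prime Nat.prime_three h3
  have hq2 : q ≤ q ^ 2 := Nat.le_self_pow two_ne_zero q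
  rw [← ZMod.natCast_eq_zero_iff] at h ⊢
  push_cast [hq, hq2] at h c3 ⊢
  intro h'
  simp only [mul_eq_zero, pow_eq_zero_iff (show 3 ≠ 0 by norm_num), sub_eq_zero, add_eq_zero_iff_eq_neg] at h'
  rcases h' with (h' | h') | h' <;> rw [h'] at h
  · simp at h
  · simp at h
  · apply c3; linear_combination h

theorem not_three_dvd_M (h : 3 ∣ q) : ¬ 3 ∣ q ^ 2 - q + 1 := by
  have h1 : 3 ∣ q ^ 2 - q := Nat.dvd_sub (h.pow two_ne_zero) h
  omega

theorem coprime_M (hq : 1 ≤ q) (h : 3 ∣ q) : (q ^ 2 - q + 1).Coprime (q ^ 3 * (q - 1) * (q + 1)) := by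
  apply Nat.coprime_of_dvd
  intro l hl h1
  exact arith_M hl hq (by rintro rfl; exact not_three_dvd_M h h1) h1

theorem not_two_dvd_M : ¬ 2 ∣ q ^ 2 - q + 1 := by
  have h1 : 2 ∣ q ^ 2 - q := by
    rw [sq, ← Nat.mul_pred]
    exact (Nat.even_mul_pred_self q).two_dvd
  omega

theorem cube_add_one (q : ℕ) : q ^ 3 + 1 = (q ^ 2 - q + 1) * (q + 1) := by
  have hq2 : q ≤ q ^ 2 := Nat.le_self_pow two_ne_zero q
  zify [hq2]; ring

end Arith

theorem sum_ite_ncard {G : Type*} [Fintype G] (S : Set G) [DecidablePred (· ∈ S)] (c : ℤ) :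
    ∑ x, (if x ∈ S then c else 0) = S.ncard * c := by
  rw [← Finset.sum_filter, Finset.sum_const, nsmul_eq_mul, Set.ncard_eq_toFinset_card']
  congr 3
  ext; simp

theorem orderOf_dvd_of_conj_mem {G : Type*} [Group G] {L : Subgroup G} {g z : G} (h : g⁻¹ * z * g ∈ L) :
    orderOf z ∣ Nat.card L := by
  have := Subgroup.orderOf_dvd_natCard _ h
  rwa [show g⁻¹ * z * g = MulAut.conj g⁻¹ z by simp, MulEquiv.orderOf_eq] at this

theorem conj_comm {G : Type*} [Group G] {y z : G} (h : z * y = y * z) (g : G) :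
    g⁻¹ * z * g * (g⁻¹ * y * g) = g⁻¹ * y * g * (g⁻¹ * z * g) := by
  calc g⁻¹ * z * g * (g⁻¹ * y * g) = g⁻¹ * (z * y) * g := by group
    _ = _ := by rw [h]; group

namespace Model

variable {K : Type*} [Field K] [CharP K 3] [Finite K] {G : Type*} [Group G] {ψ : K →+* K} (M : Model G ψ)
  {m : ℕ} (hK : Nat.card K = 3 ^ (2 * m + 1))

include M in
theorem card_G' : Nat.card G = (Nat.card K ^ 2 - Nat.card K + 1) *
    (Nat.card K ^ 3 * (Nat.card K - 1) * (Nat.card K + 1)) := by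
  rw [M.card_G, cube_add_one]; ring

theorem index_H : M.H.index = Nat.card K ^ 3 * (Nat.card K ^ 3 + 1) := by
  have := M.finite
  have h := M.H.card_mul_index
  rw [M.card_G] at h
  apply Nat.eq_of_mul_eq_mul_left (Nat.card_pos (α := M.H))
  rw [h, card_H]; ring

include M in
theorem index_zpowers {γ : G} (h2 : 2 * orderOf γ = Nat.card K + 1) : (Subgroup.zpowers γ).index =
    2 * (Nat.card K ^ 3 * (Nat.card K - 1) * (Nat.card K ^ 2 - Nat.card K + 1)) := by
  have := M.finite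
  have h := (Subgroup.zpowers γ).card_mul_index
  rw [M.card_G'] at h
  apply Nat.eq_of_mul_eq_mul_left (Nat.card_pos (α := Subgroup.zpowers γ))
  rw [h, Nat.card_zpowers, ← h2]; ring

omit [Finite K] in
theorem a_mem_B : M.a ∈ M.B := M.h_mem_B _

omit [Finite K] in
theorem card_B : Nat.card M.B = Nat.card K ^ 3 * (Nat.card K - 1) := by
  rw [← split_B, M.split.card_B, split_U, split_H, card_U, card_H]

include hK in
theorem conj_cases {y z : G} (hl : (orderOf y).Prime)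
    (hR : orderOf y ∣ Nat.card K ^ 3 * (Nat.card K - 1) * (Nat.card K + 1)) (hz : z * y = y * z) :
    (orderOf y = 2 ∧ ∃ g, g⁻¹ * z * g ∈ Subgroup.centralizer {M.a}) ∨ (∃ g, g⁻¹ * z * g ∈ M.B) ∨
      ∃ g, g⁻¹ * z * g ∈ M.T := by
  have := M.finite
  have := Fact.mk hl
  have hq : Nat.card K % 8 = 3 := hK ▸ pow_mod_eight m
  have hy1 : ∀ g, g⁻¹ * y * g ≠ 1 := by
    intro g h
    have : y = 1 := by simpa [mul_eq_one_iff_eq_inv] using h
    rw [this, orderOf_one] at hl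
    exact Nat.not_prime_one hl
  by_cases h2 : orderOf y = 2
  · left
    obtain ⟨g, hg⟩ := M.conj_a_of_inv hq (t := y) (by rw [← sq, ← h2, pow_orderOf_eq_one]) (by simpa using hy1 1)
    refine ⟨h2, g, ?_⟩
    rw [← mem_centralizer_conj, hg]
    exact Subgroup.mem_centralizer_singleton_iff.2 hz
  right
  have hy2 : ∀ g, g⁻¹ * y * g * (g⁻¹ * y * g) ≠ 1 := by
    intro g h
    have : y ^ 2 = 1 := by
      calc y ^ 2 = g * (g⁻¹ * y * g * (g⁻¹ * y * g)) * g⁻¹ := by rw [sq]; group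
        _ = 1 := by rw [h]; group
    exact h2 ((Nat.prime_dvd_prime_iff_eq hl Nat.prime_two).1 (orderOf_dvd_of_pow_eq_one this))
  by_cases h3 : orderOf y = 3
  · left
    obtain ⟨g, hg⟩ := exists_conj_mem_sylow (M.sylowU hK) (x := y) (k := 1) (by rw [pow_one, ← h3, pow_orderOf_eq_one])
    exact ⟨g, M.split.mem_B_of_commute hg (hy1 g) (conj_comm hz g)⟩
  rcases (Nat.Prime.dvd_mul hl).1 hR with h | h
  · rcases (Nat.Prime.dvd_mul hl).1 h with h | h
    · rw [hK, ← pow_mul] at h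
      exact absurd ((Nat.prime_dvd_prime_iff_eq hl Nat.prime_three).1 (hl.dvd_of_dvd_pow h)) h3
    · left
      obtain ⟨g, hg⟩ := exists_conj_mem_of_index M.H (by
        rw [index_H]; exact arith_sub hl Nat.card_pos h2 h) (x := y) (k := 1) (by simp)
      obtain ⟨k, hk⟩ := M.mem_H.1 hg
      refine ⟨g, M.split.H_le_B ?_⟩
      rw [split_H, ← M.centralizer_h (k := k), ← hk]
      · exact Subgroup.mem_centralizer_singleton_iff.2 (conj_comm hz g)
      · rintro rfl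
        exact hy1 g (hk.trans M.h_one)
      · rintro rfl
        exact hy2 g (by rw [hk]; exact M.a_mul_a)
  · right
    obtain ⟨γ, h4, h5, -⟩ := M.exists_gen
    obtain ⟨g, hg⟩ := exists_conj_mem_of_index (Subgroup.zpowers γ) (by
      rw [M.index_zpowers h5]; exact arith_add hl Nat.card_pos h2 h3 h) (x := y) (k := 1) (by simp)
    refine ⟨g, ?_⟩
    rw [← M.centralizer_T hq ((Subgroup.zpowers_le).2 h4 hg) (hy2 g)]
    exact Subgroup.mem_centralizer_singleton_iff.2 (conj_comm hz g)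

include M hK in
theorem order_dvd_R {y z : G} (hl : (orderOf y).Prime)
    (hR : orderOf y ∣ Nat.card K ^ 3 * (Nat.card K - 1) * (Nat.card K + 1)) (hz : z * y = y * z) :
    orderOf z ∣ Nat.card K ^ 3 * (Nat.card K - 1) * (Nat.card K + 1) := by
  rcases M.conj_cases hK hl hR hz with ⟨-, g, h⟩ | ⟨g, h⟩ | ⟨g, h⟩ <;> refine (orderOf_dvd_of_conj_mem h).trans ?_
  · rw [card_centralizer_a]
    exact Nat.mul_dvd_mul_right (Nat.mul_dvd_mul_right (dvd_pow_self _ three_ne_zero) _) _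
  · rw [card_B]; exact dvd_mul_right _ _
  · rw [card_T]; exact dvd_mul_left _ _

include M hK in
theorem torus_hyp (g : G) (hp : (orderOf g).Prime) (hM : orderOf g ∣ Nat.card K ^ 2 - Nat.card K + 1) :
    IsCyclic (Subgroup.centralizer {g}) ∧
    (Nat.card (Subgroup.centralizer {g})).Coprime (Nat.card K ^ 3 * (Nat.card K - 1) * (Nat.card K + 1)) ∧
    (Subgroup.centralizer {g}).relIndex (Subgroup.normalizer (Subgroup.zpowers g : Set G)) ∣ 6 ∧ 7 ≤ orderOf g := by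
  have := M.finite
  have := Fintype.ofFinite K
  have h3q : 3 ∣ Nat.card K := hK ▸ dvd_pow_self 3 (by omega)
  have h2 : orderOf g ≠ 2 := fun h => not_two_dvd_M (h ▸ hM)
  have h3 : orderOf g ≠ 3 := fun h => not_three_dvd_M h3q (h ▸ hM)
  have hM' := hM
  rw [Nat.card_eq_fintype_card] at hM'
  refine ⟨(Eigen.main M.ρ M.inj M.det_ρ hp rfl h2 h3 hM').1, ?_,
    Eigen.relIndex_dvd M.ρ M.inj M.det_ρ hp rfl h2 h3 hM', ?_⟩
  · apply Nat.coprime_of_dvd
    intro l hl h4 h5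
    have := Fact.mk hl
    obtain ⟨⟨y, hy⟩, hyl⟩ := exists_prime_orderOf_dvd_card' l h4
    have hyl' : orderOf y = l := by rw [← hyl]; exact Subgroup.orderOf_coe (⟨y, hy⟩ : Subgroup.centralizer {g})
    exact arith_M hp Nat.card_pos h3 hM (M.order_dvd_R hK (hyl' ▸ hl) (hyl' ▸ h5)
      (Subgroup.mem_centralizer_singleton_iff.1 hy).symm)
  · have := Fact.mk hp
    have h6 := Eigen.orderOf_six h2 h3 hM
    have h0 : ((Nat.card K : ℕ) : ZMod (orderOf g)) ≠ 0 := by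
      intro h
      have := pow_orderOf_eq_one ((Nat.card K : ℕ) : ZMod (orderOf g))
      rw [h6, h] at this
      simp at this
    have h7 := orderOf_dvd_of_pow_eq_one (ZMod.pow_card_sub_one_eq_one h0)
    rw [h6] at h7
    have := hp.two_le
    have := Nat.le_of_dvd (by omega) h7
    omega

include hK in
theorem trichotomy (z : G) : z ^ (Nat.card K ^ 2 - Nat.card K + 1) = 1 ∨ (∃ g, g⁻¹ * z * g ∈ M.B) ∨
    ∃ g, g⁻¹ * z * g ∈ M.T := by
  have := M.finite
  have hq : Nat.card K % 8 = 3 := hK ▸ pow_mod_eight m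
  by_cases h : (orderOf z).Coprime (Nat.card K ^ 3 * (Nat.card K - 1) * (Nat.card K + 1))
  · left
    rw [← orderOf_dvd_iff_pow_eq_one]
    exact h.dvd_of_dvd_mul_right (M.card_G' ▸ orderOf_dvd_natCard z)
  right
  have key : ∀ l, l.Prime → l ∣ orderOf z → l ∣ Nat.card K ^ 3 * (Nat.card K - 1) * (Nat.card K + 1) →
      (l = 2 ∧ orderOf z ∣ Nat.card K ^ 3 * (Nat.card K - 1) * (Nat.card K + 1)) ∨ (∃ g, g⁻¹ * z * g ∈ M.B) ∨
        ∃ g, g⁻¹ * z * g ∈ M.T := by
    intro l hl h1 h2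
    obtain ⟨k, hk⟩ := exists_prime_pow h1
    have hc : z * z ^ k = z ^ k * z := Commute.self_pow z k
    rcases M.conj_cases hK (hk ▸ hl) (hk ▸ h2) hc with ⟨h3, -⟩ | h3
    · exact Or.inl ⟨hk ▸ h3, M.order_dvd_R hK (hk ▸ hl) (hk ▸ h2) hc⟩
    · exact Or.inr h3
  by_contra hcon
  obtain ⟨l, hl, h1, h2⟩ := Nat.Prime.not_coprime_iff_dvd.1 h
  obtain ⟨-, h3⟩ := (key l hl h1 h2).resolve_right hcon
  have h4 := Nat.eq_prime_pow_of_unique_prime_dvd (orderOf_pos z).ne' (p := 2)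
    (fun {d} hd hdz => ((key d hd hdz (hdz.trans h3)).resolve_right hcon).1)
  obtain ⟨g, hg⟩ := exists_conj_mem_sylow (M.sylowE hq) (x := z) (by rw [← h4, pow_orderOf_eq_one])
  apply hcon
  left
  by_cases h5 : g⁻¹ * z * g = 1
  · exact ⟨g, h5 ▸ M.B.one_mem⟩
  · obtain ⟨g', hg'⟩ := M.conj_a_of_inv hq (M.E_sq hg) h5
    refine ⟨g * g', ?_⟩
    rw [show (g * g')⁻¹ * z * (g * g') = g'⁻¹ * (g⁻¹ * z * g) * g' by group, ← hg']
    simpa [mul_assoc] using M.a_mem_B

theorem card_fixed_eq_zero {z : G} : Nat.card (fixedBy (G ⧸ M.split.B) z) = 0 ↔ ¬ ∃ g, g⁻¹ * z * g ∈ M.B := by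
  have := M.finite
  rw [Finite.card_eq_zero_iff, not_exists]
  have key : ∀ g, (QuotientGroup.mk g : G ⧸ M.split.B) ∈ fixedBy (G ⧸ M.split.B) z ↔ g⁻¹ * z * g ∈ M.B := by
    intro g
    rw [mem_fixedBy, M.split.smul_mk, eq_comm, QuotientGroup.eq, mul_assoc, split_B]
  constructor
  · intro h g hg
    exact h.false ⟨_, (key g).2 hg⟩
  · intro h
    refine ⟨fun ⟨ω, hω⟩ => ?_⟩
    induction ω using QuotientGroup.induction_on with
    | H g => exact h g ((key g).1 hω)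

theorem card_fixed_a (g : G) : Nat.card (fixedBy (G ⧸ M.split.B) (g * M.a * g⁻¹)) = Nat.card K + 1 := by
  rw [← smul_fixedBy, Nat.card_coe_set_eq, Set.ncard_smul_set, ← Nat.card_coe_set_eq, ← Finite.card_option]
  symm
  refine Nat.card_congr (Equiv.ofBijective (fun o => o.elim ⟨M.split.inf, (M.split.smul_inf_iff _).2 (M.h_mem_B _)⟩
    fun b => ⟨M.split.pt (M.x 0 b 0), ?_⟩) ⟨?_, ?_⟩)
  · rw [mem_fixedBy, M.split.H_smul_pt (show M.a ∈ M.split.H from M.h_mem_H _), a_x]; simp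
  · rintro (_ | b) (_ | b') h
    · rfl
    · exact absurd (congrArg Subtype.val h).symm (M.split.pt_ne_inf (M.x_mem_U ..))
    · exact absurd (congrArg Subtype.val h) (M.split.pt_ne_inf (M.x_mem_U ..))
    · rw [(M.x_inj (M.split.pt_inj (M.x_mem_U ..) (M.x_mem_U ..) (congrArg Subtype.val h))).2.1]
  · rintro ⟨ω, hω⟩
    rcases M.split.eq_inf_or ω with rfl | ⟨_, ⟨a, b, c, rfl⟩, rfl⟩
    · exact ⟨none, rfl⟩
    · have h := hω
      rw [mem_fixedBy, M.split.H_smul_pt (show M.a ∈ M.split.H from M.h_mem_H _)] at h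
      obtain ⟨rfl, rfl⟩ := M.x_fix_a
        (M.split.pt_inj (M.split.conj_U _ (M.h_mem_H _) _ (M.x_mem_U ..)) (M.x_mem_U ..) h)
      exact ⟨some b, rfl⟩

theorem card_fixed_le {z : G} (hz : z * z ≠ 1) : Nat.card (fixedBy (G ⧸ M.split.B) z) ≤ 2 := by
  have := M.finite
  by_contra h
  rw [not_le, Nat.card_coe_set_eq, Set.two_lt_ncard] at h
  obtain ⟨x, hx, y, hy, w, hw, h1, h2, h3⟩ := h
  have h4 := M.three_point_le x y w h1 h2 h3
  have h5 := Subgroup.orderOf_dvd_natCard (stabilizer G x ⊓ stabilizer G y ⊓ stabilizer G w) (x := z) ⟨⟨hx, hy⟩, hw⟩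
  have h6 : orderOf z ≤ 2 := (Nat.le_of_dvd Nat.card_pos h5).trans h4
  have h7 := orderOf_pos z
  apply hz
  rw [← sq, ← orderOf_dvd_iff_pow_eq_one]
  interval_cases orderOf z <;> simp

include hK in
theorem card_derangements : 2 * ({z : G | ¬ ∃ g, g⁻¹ * z * g ∈ M.B}.ncard : ℤ) =
    Nat.card K ^ 3 * (Nat.card K - 1) * (Nat.card K ^ 3 - 2 * Nat.card K ^ 2 - 1) := by
  classical
  have := M.finite
  have := Fintype.ofFinite G
  have hq : Nat.card K % 8 = 3 := hK ▸ pow_mod_eight m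
  have := M.split.isMultiplyPretransitive
  have : Nontrivial (G ⧸ M.split.B) := ⟨⟨_, _, M.split.pt_ne_inf (Subgroup.one_mem _)⟩⟩
  have h := sum_fixed_two (G := G) (β := G ⧸ M.split.B)
  have hq1 : 1 ≤ Nat.card K := Nat.card_pos
  have hq2 : Nat.card K ≤ Nat.card K ^ 2 := Nat.le_self_pow two_ne_zero _
  have h1 : ∀ z : G, ((Nat.card (fixedBy (G ⧸ M.split.B) z) : ℤ) - 1) * (Nat.card (fixedBy (G ⧸ M.split.B) z) - 2) =
      (if z ∈ ({1} : Set G) then (Nat.card K : ℤ) ^ 3 * (Nat.card K ^ 3 - 1) else 0) +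
      (if z ∈ {t | ∃ g ∈ (⊤ : Subgroup G), g * M.a * g⁻¹ = t} then (Nat.card K : ℤ) * (Nat.card K - 1) else 0) +
      (if z ∈ {z : G | ¬ ∃ g, g⁻¹ * z * g ∈ M.B} then 2 else 0) := by
    intro z
    by_cases h1 : z = 1
    · subst h1
      rw [if_pos (Set.mem_singleton _), if_neg (by simpa using M.a_ne_one), if_neg (by simp), fixedBy_one_eq_univ,
        Nat.card_univ, ← Subgroup.index, M.split.index_B, split_U, card_U]
      push_cast; ring
    rw [if_neg (show z ∉ ({1} : Set G) from h1)]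
    by_cases h2 : z * z = 1
    · obtain ⟨g, rfl⟩ := M.conj_a_of_inv hq h2 h1
      rw [if_pos ⟨g, trivial, rfl⟩, if_neg (fun h => h ⟨g, by simpa [mul_assoc] using M.a_mem_B⟩), card_fixed_a]
      push_cast; ring
    rw [if_neg (by
      rintro ⟨g, -, rfl⟩
      apply h2
      calc g * M.a * g⁻¹ * (g * M.a * g⁻¹) = g * (M.a * M.a) * g⁻¹ := by group
        _ = 1 := by rw [a_mul_a]; group)]
    have h3 := M.card_fixed_le h2
    simp only [Set.mem_ofPred_eq, ← card_fixed_eq_zero]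
    interval_cases Nat.card (fixedBy (G ⧸ M.split.B) z) <;> simp
  simp only [h1, Finset.sum_add_distrib, sum_ite_ncard, Set.ncard_singleton] at h
  have h2 := card_conj_orbit ⊤ M.a
  rw [top_inf_eq, card_centralizer_a, Subgroup.card_top, M.card_G'] at h2
  have h3 : {t | ∃ g ∈ (⊤ : Subgroup G), g * M.a * g⁻¹ = t}.ncard =
      Nat.card K ^ 2 * (Nat.card K ^ 2 - Nat.card K + 1) := by
    apply Nat.eq_of_mul_eq_mul_right (show 0 < Nat.card K * (Nat.card K - 1) * (Nat.card K + 1) by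
      have : 0 < Nat.card K - 1 := by omega
      positivity)
    rw [← h2]; ring
  rw [h3, M.card_G] at h
  push_cast [hq1, hq2] at h
  linear_combination h

include M hK in
theorem card_X (hm : 1 ≤ m) : 3 * (Nat.card K ^ 2 - Nat.card K + 1) *
    {z : G | z ≠ 1 ∧ z ^ (Nat.card K ^ 2 - Nat.card K + 1) = 1}.ncard =
      Nat.card G * (Nat.card K * (Nat.card K - 2)) := by
  have := M.finite
  have hq : Nat.card K % 8 = 3 := hK ▸ pow_mod_eight m
  have hq' : 8 ≤ Nat.card K := by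
    rw [hK]
    exact le_trans (by norm_num) (Nat.pow_le_pow_right (by norm_num) (show 3 ≤ 2 * m + 1 by omega))
  have h3q : 3 ∣ Nat.card K := hK ▸ dvd_pow_self 3 (by omega)
  have hcop := coprime_M (show 1 ≤ Nat.card K by omega) h3q
  have hinv : ∀ g s : G, g * s * g⁻¹ * (g * s * g⁻¹) = 1 ↔ s * s = 1 := by
    intro g s
    rw [show g * s * g⁻¹ * (g * s * g⁻¹) = g * (s * s) * g⁻¹ by group]
    simp
  have h1 := card_conjSet (A := M.T) (S := {z | z ∈ M.T ∧ z * z ≠ 1}) (fun x hx => M.centralizer_T hq hx.1 hx.2)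
    (fun y hy x hx => ⟨(Subgroup.mem_normalizer_iff.1 hy x).1 hx.1, fun h => hx.2 ((hinv _ _).1 h)⟩)
  have h2 : {z | z ∈ M.T ∧ z * z ≠ 1}.ncard + 4 = Nat.card K + 1 := by
    have e1 : {z | z ∈ M.T ∧ z * z ≠ 1} = (M.T : Set G) \ {1, M.n, M.a, M.a * M.n} := by
      ext z
      refine and_congr_right fun hz => not_congr ⟨M.T_inv_cases hz, ?_⟩
      rintro (rfl | rfl | rfl | rfl)
      · simp
      · exact M.n_mul_n
      · exact M.a_mul_a
      · exact M.E_sq (M.E.mul_mem M.a_mem_E M.n_mem_E)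
    have n1 : M.n ≠ 1 := M.seven_ne_one (by simp)
    have an1 : M.a * M.n ≠ 1 := M.seven_ne_one (by simp)
    have e2 : ({1, M.n, M.a, M.a * M.n} : Set G).ncard = 4 := by
      rw [Set.ncard_insert_of_notMem (by simp [n1.symm, an1.symm, M.a_ne_one.symm]), Set.ncard_eq_three.2
        ⟨_, _, _, fun h => M.φ_ne_a w0 (by rw [φ_w0, h]), by simpa using M.a_ne_one, by simpa using n1, rfl⟩]
    rw [e1, ← e2, Set.ncard_sdiff_add_ncard_of_subset, ← M.card_T, ← Nat.card_coe_set_eq]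
    · rfl
    · rintro _ (rfl | rfl | rfl | rfl)
      exacts [M.T.one_mem, M.n_mem_T, M.a_mem_T, M.T.mul_mem M.a_mem_T M.n_mem_T]
  have hX : ∀ z : G, z ^ (Nat.card K ^ 2 - Nat.card K + 1) = 1 →
      orderOf z ∣ Nat.card K ^ 3 * (Nat.card K - 1) * (Nat.card K + 1) → z = 1 := by
    intro z h1 h2
    exact orderOf_eq_one_iff.1 (Nat.eq_one_of_dvd_coprimes hcop (orderOf_dvd_of_pow_eq_one h1) h2)
  have h3 : {z : G | ¬ ∃ g, g⁻¹ * z * g ∈ M.B} = {z | ∃ g, g⁻¹ * z * g ∈ {z | z ∈ M.T ∧ z * z ≠ 1}} ∪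
      {z : G | z ≠ 1 ∧ z ^ (Nat.card K ^ 2 - Nat.card K + 1) = 1} := by
    ext z
    constructor
    · intro h
      rcases M.trichotomy hK z with h' | h' | ⟨g, hg⟩
      · exact Or.inr ⟨by rintro rfl; exact h ⟨1, by simp⟩, h'⟩
      · exact absurd h' h
      · refine Or.inl ⟨g, hg, fun h2 => h ?_⟩
        by_cases h5 : g⁻¹ * z * g = 1
        · exact ⟨g, h5 ▸ M.B.one_mem⟩
        · obtain ⟨g', hg'⟩ := M.conj_a_of_inv hq h2 h5
          refine ⟨g * g', ?_⟩
          rw [show (g * g')⁻¹ * z * (g * g') = g'⁻¹ * (g⁻¹ * z * g) * g' by group, ← hg']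
          simpa [mul_assoc] using M.a_mem_B
    · rintro (⟨g, hg, hg2⟩ | ⟨h1, h2⟩) ⟨g', hg'⟩
      · apply hg2
        have e1 := orderOf_dvd_of_conj_mem hg
        have e2 := orderOf_dvd_of_conj_mem hg'
        rw [card_T] at e1
        rw [card_B] at e2
        have e3 : orderOf z ∣ 2 := by
          have e4 : (orderOf z).Coprime (Nat.card K ^ 3) :=
            Nat.Coprime.pow_right _ (Nat.Coprime.coprime_dvd_left e1 (by simp))
          have := Nat.dvd_sub e1 (e4.dvd_of_dvd_mul_left e2)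
          rwa [show Nat.card K + 1 - (Nat.card K - 1) = 2 by omega] at this
        have := (hinv g⁻¹ z).2 (by rw [← sq]; exact orderOf_dvd_iff_pow_eq_one.1 e3)
        rwa [inv_inv] at this
      · exact h1 (hX z h2 ((orderOf_dvd_of_conj_mem hg').trans (by rw [card_B]; exact dvd_mul_right _ _)))
  have h4 := M.card_derangements hK
  rw [h3, Set.ncard_union_eq (Set.disjoint_left.2 (by
    rintro z ⟨g, hg, -⟩ ⟨h1, h2⟩
    exact h1 (hX z h2 ((orderOf_dvd_of_conj_mem hg).trans (by rw [card_T]; exact dvd_mul_left _ _)))))] at h4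
  rw [M.card_normalizer_T hq hq', M.card_G'] at h1
  rw [M.card_G']
  have hq1 : 1 ≤ Nat.card K := Nat.card_pos
  have hq2 : Nat.card K ≤ Nat.card K ^ 2 := Nat.le_self_pow two_ne_zero _
  zify [hq1, hq2, show 2 ≤ Nat.card K by omega] at h1 h2 h4 ⊢
  generalize (Nat.card K : ℤ) = q at *
  have hq0 : (q + 1) * 2 ≠ 0 := by omega
  apply mul_left_cancel₀ hq0
  linear_combination (3 * (q + 1) * (q ^ 2 - q + 1)) * h4 - (q ^ 2 - q + 1) * h1 -
    (q ^ 2 - q + 1) ^ 2 * (q ^ 3 * (q - 1) * (q + 1)) * h2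

include M hK in
theorem isCyclic_sylow {p : ℕ} [Fact p.Prime] (hp : 3 < p) (P : Sylow p G) : IsCyclic P := by
  have := M.finite
  have hl : p.Prime := Fact.out
  by_cases h1 : p ∣ Nat.card K - 1
  · exact isCyclic_sylow_of_index M.H (by rw [index_H]; exact arith_sub hl Nat.card_pos (by omega) h1)
      M.isCyclic_H P
  by_cases h2 : p ∣ Nat.card K + 1
  · obtain ⟨γ, h4, h5, -⟩ := M.exists_gen
    exact isCyclic_sylow_of_index (Subgroup.zpowers γ) (by
      rw [M.index_zpowers h5]; exact arith_add hl Nat.card_pos (by omega) (by omega) h2) inferInstance P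
  rcases subsingleton_or_nontrivial P with h | h
  · infer_instance
  obtain ⟨⟨c, hc⟩, hc1⟩ := Subgroup.ne_bot_iff_exists_ne_one.1
    ((Subgroup.nontrivial_iff_ne_bot _).1 P.isPGroup'.center_nontrivial)
  have hc1' : (c : G) ≠ 1 := fun h => hc1 (Subtype.ext (Subtype.ext h))
  obtain ⟨k, hk⟩ := P.isPGroup'.exists_orderOf_eq_pow c
  have hk' : orderOf (c : G) = p ^ k := by rw [← hk]; exact Subgroup.orderOf_coe c
  obtain ⟨j, hj⟩ := exists_prime_pow (x := (c : G)) (p := p) (by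
    rw [hk']
    exact dvd_pow_self p (by rintro rfl; exact hc1' (orderOf_eq_one_iff.1 hk')))
  have h3 : p ∣ Nat.card K ^ 2 - Nat.card K + 1 := by
    have h4 := orderOf_dvd_natCard ((c : G) ^ j)
    rw [hj, M.card_G'] at h4
    rcases (Nat.Prime.dvd_mul hl).1 h4 with h | h
    · exact h
    rcases (Nat.Prime.dvd_mul hl).1 h with h | h
    · rcases (Nat.Prime.dvd_mul hl).1 h with h | h
      · rw [hK, ← pow_mul] at h
        have := (Nat.prime_dvd_prime_iff_eq hl Nat.prime_three).1 (hl.dvd_of_dvd_pow h)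
        omega
      · exact absurd h h1
    · exact absurd h h2
  have := (M.torus_hyp hK _ (by rw [hj]; exact hl) (by rw [hj]; exact h3)).1
  refine Subgroup.isCyclic_of_le (H' := Subgroup.centralizer {(c : G) ^ j}) fun z hz => ?_
  have h5 : Commute z c := congrArg Subtype.val (Subgroup.mem_center_iff.1 hc ⟨z, hz⟩)
  exact Subgroup.mem_centralizer_singleton_iff.2 (h5.pow_right j)

include M hK in
theorem exists_tori (hm : 1 ≤ m) : ∃ x y : G, x ≠ 1 ∧ x ^ (Nat.card K ^ 2 - Nat.card K + 1) = 1 ∧ y ≠ 1 ∧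
    y ^ (Nat.card K ^ 2 - Nat.card K + 1) = 1 ∧
    Nat.card (Subgroup.centralizer {x}) = 3 ^ (2 * m + 1) - 3 ^ (m + 1) + 1 ∧
    Nat.card (Subgroup.centralizer {y}) = 3 ^ (2 * m + 1) + 3 ^ (m + 1) + 1 ∧
    Nat.card (Subgroup.normalizer (Subgroup.centralizer {x} : Set G)) = 6 * Nat.card (Subgroup.centralizer {x}) ∧
    Nat.card (Subgroup.normalizer (Subgroup.centralizer {y} : Set G)) = 6 * Nat.card (Subgroup.centralizer {y}) ∧
    ∀ z, z ≠ 1 → z ^ (Nat.card K ^ 2 - Nat.card K + 1) = 1 → z ∈ Cl x ∨ z ∈ Cl y := by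
  have := M.finite
  have hq' : 8 ≤ Nat.card K := by
    rw [hK]
    exact le_trans (by norm_num) (Nat.pow_le_pow_right (by norm_num) (show 3 ≤ 2 * m + 1 by omega))
  obtain ⟨x, y, h1, h2, h3, h4, h5, h6, h7, h8, h9⟩ :=
    two_tori M.card_G' (M.torus_hyp hK) (by omega) rfl (M.card_X hK hm)
  have hr : 3 ^ (m + 1) * 3 ^ (m + 1) = 3 * Nat.card K := by rw [hK]; ring
  have hle : 3 ^ (m + 1) ≤ 3 ^ (2 * m + 1) := Nat.pow_le_pow_right (by norm_num) (by omega)
  have hq2 : Nat.card K ≤ Nat.card K ^ 2 := Nat.le_self_pow two_ne_zero _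
  have key : ((Nat.card (Subgroup.centralizer {x}) : ℤ) - (Nat.card K - 3 ^ (m + 1) + 1)) *
      (Nat.card (Subgroup.centralizer {x}) - (Nat.card K + 3 ^ (m + 1) + 1)) = 0 := by
    zify [hq2] at h5 h6 hr
    linear_combination (Nat.card (Subgroup.centralizer {x}) : ℤ) * h6 - h5 - hr
  rw [← hK] at hle ⊢
  rcases mul_eq_zero.1 key with h | h
  · refine ⟨x, y, h1, h2, h3, h4, ?_, ?_, h7, h8, h9⟩ <;> zify [hle] at h6 ⊢ <;> linarith
  · refine ⟨y, x, h3, h4, h1, h2, ?_, ?_, h8, h7, fun z a b => (h9 z a b).symm⟩ <;> zify [hle] at h6 ⊢ <;> linarith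

end Model

end Cfsg.Agent.H6.Ree
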