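import Cfsg.Agent.H6.ReeBasic
import Cfsg.Agent.H6.GrpLemmas

/-! Involutions of the small Ree groups: centraliser and Sylow 2-subgroups. -/

set_option autoImplicit false

namespace Cfsg.Agent.H6.Ree

open Matrix Cfsg.Agent.H6.RankOne Cfsg.Agent.H6.MP Cfsg.Agent.H6.Grp MulAction
open scoped MatrixGroups

variable {K : Type*} [Field K] [CharP K 3]

/-- the matrix `[[1, b], [0, 1]]` -/
def sU (b : K) : SL(2, K) := ⟨!![1, b; 0, 1], by simp [Matrix.det_fin_two]⟩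

/-- the matrix `[[t, 0], [0, t⁻¹]]` -/
def sD (t : Kˣ) : SL(2, K) := ⟨!![(t : K), 0; 0, (t : K)⁻¹], by simp [Matrix.det_fin_two]⟩

/-- the matrix `[[0, 1], [-1, 0]]` -/
def w0 : SL(2, K) := ⟨!![0, 1; -1, 0], by simp [Matrix.det_fin_two]⟩

/-- the matrix `[[1, 1], [1, -1]]` -/
def w1 : SL(2, K) := ⟨!![1, 1; 1, -1], by simp only [Matrix.det_fin_two_of]; grind⟩

omit [CharP K 3] in
theorem sl_det (g : SL(2, K)) : g 0 0 * g 1 1 = 1 + g 0 1 * g 1 0 := by
  have := g.det_coe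
  rw [Matrix.det_fin_two] at this
  linear_combination this

omit [CharP K 3] in
theorem sl_ext {g g' : SL(2, K)} (h00 : g 0 0 = g' 0 0) (h01 : g 0 1 = g' 0 1) (h10 : g 1 0 = g' 1 0)
    (h11 : g 1 1 = g' 1 1) : g = g' := by
  ext i j; fin_cases i <;> fin_cases j <;> assumption

omit [CharP K 3] in
theorem sl_mul (g g' : SL(2, K)) (i j : Fin 2) : (g * g') i j = g i 0 * g' 0 j + g i 1 * g' 1 j := by
  simp [Matrix.mul_apply, Fin.sum_univ_two]

omit [CharP K 3] in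
theorem sl_neg (g : SL(2, K)) (i j : Fin 2) : (-g) i j = - g i j := rfl

theorem commute_cases {g : SL(2, K)} (h0 : g * w0 = w0 * g ∨ g * w0 = -(w0 * g))
    (h1 : g * w1 = w1 * g ∨ g * w1 = -(w1 * g)) :
    (g = 1 ∨ g = -1) ∨ (g = w0 ∨ g = -w0) ∨ (g = w1 ∨ g = -w1) ∨ (g = w0 * w1 ∨ g = -(w0 * w1)) := by
  have hd := sl_det g
  have e0 : ∀ {x y : SL(2, K)}, x = y → x 0 0 = y 0 0 ∧ x 0 1 = y 0 1 := fun h => by rw [h]; exact ⟨rfl, rfl⟩
  rcases h0 with h0 | h0 <;> rcases h1 with h1 | h1 <;>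
    obtain ⟨a1, a2⟩ := e0 h0 <;> obtain ⟨b1, b2⟩ := e0 h1 <;>
    simp only [sl_neg, sl_mul] at a1 a2 b1 b2 <;> simp [w0, w1] at a1 a2 b1 b2
  · left
    have : g 0 0 = 1 ∨ g 0 0 = -1 := mul_self_eq_one_iff.1 (by grind)
    rcases this with h | h
    · left; apply sl_ext <;> simp <;> grind
    · right; apply sl_ext <;> simp <;> grind
  · right; left
    have : g 0 1 = 1 ∨ g 0 1 = -1 := mul_self_eq_one_iff.1 (by grind)
    rcases this with h | h
    · left; apply sl_ext <;> simp [w0] <;> grind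
    · right; apply sl_ext <;> simp only [sl_neg] <;> simp [w0] <;> grind
  · right; right; left
    have : g 0 1 = 1 ∨ g 0 1 = -1 := mul_self_eq_one_iff.1 (by grind)
    rcases this with h | h
    · left; apply sl_ext <;> simp [w1] <;> grind
    · right; apply sl_ext <;> simp only [sl_neg] <;> simp [w1] <;> grind
  · right; right; right
    have : g 0 1 = 1 ∨ g 0 1 = -1 := mul_self_eq_one_iff.1 (by grind)
    rcases this with h | h
    · right; apply sl_ext <;> simp only [sl_neg, sl_mul] <;> simp [w0, w1] <;> grind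
    · left; apply sl_ext <;> simp only [sl_mul] <;> simp [w0, w1] <;> grind

theorem not_sixteen_dvd {q : ℕ} (hq : q % 8 = 3) : ¬ 16 ∣ q ^ 3 * (q - 1) * (q ^ 3 + 1) := by
  obtain ⟨r, rfl⟩ : ∃ r, q = r + 1 := ⟨q - 1, by omega⟩
  rw [Nat.add_sub_cancel, Nat.dvd_iff_mod_eq_zero]
  have : r % 16 = 2 ∨ r % 16 = 10 := by omega
  rcases this with h | h <;> simp [Nat.mul_mod, Nat.pow_mod, Nat.add_mod, h]

namespace Model

variable {G : Type*} [Group G] {ψ : K →+* K} (M : Model G ψ)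

include M in
theorem isRee_phi (g : SL(2, K)) : IsRee ψ (phiM (g 0 0) (g 0 1) (g 1 0) (g 1 1)
    (ψ (g 0 0)) (ψ (g 0 1)) (ψ (g 1 0)) (ψ (g 1 1))) := by
  have h1 := sl_det g
  have h2 : ψ (g 0 0) * ψ (g 1 1) = 1 + ψ (g 0 1) * ψ (g 1 0) := by
    rw [← map_mul, h1]; simp
  refine ⟨phiM_J h1 h2, fun y z => ?_⟩
  rw [phiM_map, M.hψ, M.hψ, M.hψ, M.hψ]
  exact phiM_A h1 h2 y z

/-- the homomorphism from `SL₂` onto the derived group of the involution centraliser -/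
noncomputable def φ : SL(2, K) →* G where
  toFun g := M.mk' _ (M.isRee_phi g)
  map_one' := M.inj (by rw [ρ_mk', map_one]; simpa using phiM_one)
  map_mul' g g' := M.inj (by
    rw [map_mul, ρ_mk', ρ_mk', ρ_mk', phiM_mul]
    simp only [sl_mul, map_add, map_mul])

theorem ρ_φ (g : SL(2, K)) : M.ρ (M.φ g) = phiM (g 0 0) (g 0 1) (g 1 0) (g 1 1)
    (ψ (g 0 0)) (ψ (g 0 1)) (ψ (g 1 0)) (ψ (g 1 1)) := M.ρ_mk' _ (M.isRee_phi g)

attribute [irreducible] φ

theorem φ_sU (b : K) : M.φ (sU b) = M.x 0 b 0 := by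
  apply M.inj
  rw [ρ_φ, ρ_x]
  simpa [sU] using phiM_upper b (ψ b)

theorem φ_w0 : M.φ w0 = M.n := by
  apply M.inj
  rw [ρ_φ, ρ_n]
  simpa [w0] using phiM_w

theorem φ_neg_one : M.φ (-1) = 1 := by
  apply M.inj
  rw [ρ_φ, map_one]
  simpa using phiM_neg_one

theorem φ_neg (g : SL(2, K)) : M.φ (-g) = M.φ g := by
  rw [← neg_one_mul, map_mul, φ_neg_one, one_mul]

theorem φ_sD (t : Kˣ) : M.φ (sD t) = M.h (t * Units.map ψ.toMonoidHom t) := by
  apply M.inj
  rw [ρ_φ, ρ_h]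
  have := phiM_diag (K := K) (t := t) (T := ψ t) (t' := (t : K)⁻¹) (T' := (ψ t)⁻¹) (by simp) (by simp)
  simpa [sD, M.hψ, mul_comm] using this

theorem h_sq_eq (c : Kˣ) : ∃ t, M.h (c ^ 2) = M.φ (sD t) := by
  refine ⟨Units.map ψ.toMonoidHom c * c⁻¹, ?_⟩
  rw [φ_sD]
  congr 1
  apply Units.ext
  have : ψ c ≠ 0 := by simp
  simp [M.hψ]
  field_simp

theorem eq_pm_of_block {g : SL(2, K)} (h11 : M.ρ (M.φ g) 1 1 = 1) (h13 : M.ρ (M.φ g) 1 3 = 0)
    (h31 : M.ρ (M.φ g) 3 1 = 0) : g = 1 ∨ g = -1 := by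
  rw [ρ_φ] at h11 h13 h31
  simp only [phiM, Matrix.of_apply, Matrix.cons_val] at h11 h13 h31
  have hd := sl_det g
  have : g 0 0 = 1 ∨ g 0 0 = -1 := mul_self_eq_one_iff.1 (by grind)
  rcases this with h | h
  · left; apply sl_ext <;> simp <;> grind
  · right; apply sl_ext <;> simp <;> grind

theorem φ_eq_one {g : SL(2, K)} : M.φ g = 1 ↔ g = 1 ∨ g = -1 := by
  constructor
  · intro h
    apply M.eq_pm_of_block <;> rw [h, map_one] <;> simp
  · rintro (rfl | rfl)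
    · exact map_one _
    · exact M.φ_neg_one

theorem φ_eq_iff {g g' : SL(2, K)} : M.φ g = M.φ g' ↔ g = g' ∨ g = -g' := by
  rw [← mul_inv_eq_one, ← map_inv, ← map_mul, φ_eq_one, mul_inv_eq_one, mul_inv_eq_iff_eq_mul, neg_one_mul]

theorem φ_ne_a (g : SL(2, K)) : M.φ g ≠ M.a := by
  intro h
  have : g = 1 ∨ g = -1 := by
    apply M.eq_pm_of_block <;> rw [h, ρ_a] <;> simp [hM]
  rw [M.φ_eq_one.2 this] at h
  exact M.a_ne_one h.symm

theorem φ_ne_a_mul (g g' : SL(2, K)) : M.φ g ≠ M.a * M.φ g' := by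
  intro h
  apply M.φ_ne_a (g * g'⁻¹)
  rw [map_mul, map_inv, h]; simp

theorem a_φ (g : SL(2, K)) : M.a * M.φ g = M.φ g * M.a := by
  apply M.inj
  rw [map_mul, map_mul, ρ_a, ρ_φ, a_phiM]

theorem h_cases [Finite K] (k : Kˣ) : ∃ g, M.h k = M.φ g ∨ M.h k = M.a * M.φ g := by
  obtain ⟨c, rfl | rfl⟩ := M.unit_sq_or k
  · obtain ⟨t, ht⟩ := M.h_sq_eq c
    exact ⟨_, Or.inl ht⟩
  · obtain ⟨t, ht⟩ := M.h_sq_eq c
    exact ⟨_, Or.inr (by rw [← ht, a, h_mul, neg_one_mul])⟩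

theorem a_h (k : Kˣ) : M.a * M.h k = M.h k * M.a := M.h_comm _ _

theorem x_fix_a {a b c : K} (h : M.a * M.x a b c * M.a⁻¹ = M.x a b c) : a = 0 ∧ c = 0 := by
  rw [a_x] at h
  obtain ⟨h1, -, h3⟩ := M.x_inj h
  exact ⟨by grind, by grind⟩

theorem commute_a_cases {y : G} (hy : y * M.a = M.a * y) :
    (∃ b k, y = M.x 0 b 0 * M.h k) ∨ ∃ b b' k, y = M.x 0 b 0 * M.n * (M.x 0 b' 0 * M.h k) := by
  have hy' : M.a * y * M.a⁻¹ = y := by rw [← hy]; simp
  have hB : ∀ a b c k, M.a * (M.x a b c * M.h k) * M.a⁻¹ = M.x a b c * M.h k → a = 0 ∧ c = 0 := by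
    intro a b c k h
    have e : M.a * (M.x a b c * M.h k) * M.a⁻¹ = (M.a * M.x a b c * M.a⁻¹) * M.h k := by
      calc M.a * (M.x a b c * M.h k) * M.a⁻¹ = (M.a * M.x a b c * M.a⁻¹) * (M.a * M.h k * M.a⁻¹) := by group
        _ = _ := by rw [a_h]; group
    rw [e] at h
    exact M.x_fix_a (mul_right_cancel h)
  by_cases hg : M.ρ y 6 0 = 0
  · obtain ⟨a, b, c, k, rfl, -⟩ := M.exists_xh y hg
    obtain ⟨rfl, rfl⟩ := hB _ _ _ _ hy'
    exact Or.inl ⟨b, k, rfl⟩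
  · obtain ⟨a, b, c, a', b', c', k, rfl, -⟩ := M.bruhat y hg
    have e : M.a * (M.x a b c * M.n * (M.x a' b' c' * M.h k)) * M.a⁻¹ =
        (M.a * M.x a b c * M.a⁻¹) * M.n * (M.a * (M.x a' b' c' * M.h k) * M.a⁻¹) := by
      calc M.a * (M.x a b c * M.n * (M.x a' b' c' * M.h k)) * M.a⁻¹ =
          (M.a * M.x a b c * M.a⁻¹) * (M.a * M.n) * ((M.x a' b' c' * M.h k) * M.a⁻¹) := by group
        _ = _ := by rw [← n_a]; group
    rw [e] at hy'
    have hb := M.B.mul_mem (M.x_mem_B a' b' c') (M.h_mem_B k)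
    obtain ⟨h1, h2⟩ := M.split.unh_unique (M.split.conj_U _ (M.h_mem_H _) _ (M.x_mem_U ..)) (M.x_mem_U ..)
      (M.B.mul_mem (M.B.mul_mem (M.h_mem_B _) hb) (M.B.inv_mem (M.h_mem_B _))) hb hy'
    obtain ⟨rfl, rfl⟩ := M.x_fix_a h1
    obtain ⟨rfl, rfl⟩ := hB _ _ _ _ h2
    exact Or.inr ⟨b, b', k, rfl⟩

theorem commute_a_iff [Finite K] {y : G} : y * M.a = M.a * y ↔ ∃ g, y = M.φ g ∨ y = M.a * M.φ g := by
  constructor
  · intro hy
    rcases M.commute_a_cases hy with ⟨b, k, rfl⟩ | ⟨b, b', k, rfl⟩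
    · obtain ⟨g, h | h⟩ := M.h_cases k
      · exact ⟨sU b * g, Or.inl (by rw [h, map_mul, φ_sU])⟩
      · exact ⟨sU b * g, Or.inr (by rw [h, ← φ_sU, ← mul_assoc, ← a_φ, map_mul, mul_assoc])⟩
    · obtain ⟨g, h | h⟩ := M.h_cases k
      · exact ⟨sU b * w0 * (sU b' * g), Or.inl (by rw [h, map_mul, map_mul, map_mul, φ_sU, φ_sU, φ_w0])⟩
      · refine ⟨sU b * w0 * sU b' * g, Or.inr ?_⟩
        rw [h, ← φ_sU, ← φ_sU, ← φ_w0, ← mul_assoc, ← map_mul, ← map_mul, ← mul_assoc, ← a_φ, map_mul _ _ g,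
          mul_assoc]
  · rintro ⟨g, rfl | rfl⟩
    · exact (M.a_φ g).symm
    · rw [mul_assoc, ← a_φ]

theorem card_centralizer_a [Finite K] :
    Nat.card (Subgroup.centralizer {M.a}) = Nat.card K * (Nat.card K - 1) * (Nat.card K + 1) := by
  have hmem : ∀ y, y ∈ Subgroup.centralizer {M.a} ↔ y * M.a = M.a * y := fun y =>
    Subgroup.mem_centralizer_singleton_iff
  have hx : ∀ b, M.x 0 b 0 ∈ Subgroup.centralizer {M.a} := fun b => by rw [hmem, ← φ_sU, a_φ]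
  have hh : ∀ k, M.h k ∈ Subgroup.centralizer {M.a} := fun k => by rw [hmem, a_h]
  have hn : M.n ∈ Subgroup.centralizer {M.a} := by rw [hmem, n_a]
  have : Nat.card ((K × Kˣ) ⊕ (K × K × Kˣ)) = Nat.card (Subgroup.centralizer {M.a}) := by
    refine Nat.card_congr (Equiv.ofBijective (Sum.elim
      (fun p => ⟨M.x 0 p.1 0 * M.h p.2, mul_mem (hx _) (hh _)⟩)
      (fun p => ⟨M.x 0 p.1 0 * M.n * (M.x 0 p.2.1 0 * M.h p.2.2),
        mul_mem (mul_mem (hx _) hn) (mul_mem (hx _) (hh _))⟩)) ⟨?_, ?_⟩)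
    · have hB : ∀ b k, M.x 0 b 0 * M.h k ∈ M.split.B := fun b k => M.B.mul_mem (M.x_mem_B ..) (M.h_mem_B k)
      have hu : ∀ {b k b' k'}, M.x 0 b 0 * M.h k = M.x 0 b' 0 * M.h k' → b = b' ∧ k = k' := by
        intro b k b' k' e
        have := M.split.uh_unique (M.x_mem_U ..) (M.x_mem_U ..) (M.h_mem_H _) (M.h_mem_H _) e
        exact ⟨(M.x_inj this.1).2.1, M.h_inj this.2⟩
      rintro (p | p) (p' | p') e <;> simp only [Sum.elim_inl, Sum.elim_inr, Subtype.mk.injEq] at e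
      · have := hu e
        rw [Prod.ext this.1 this.2]
      · exact absurd (e ▸ hB _ _) (M.split.unb_notMem (M.x_mem_B ..) (hB _ _))
      · exact absurd (e.symm ▸ hB _ _) (M.split.unb_notMem (M.x_mem_B ..) (hB _ _))
      · have h1 := M.split.unh_unique (M.x_mem_U ..) (M.x_mem_U ..) (hB _ _) (hB _ _) e
        have h2 := hu h1.2
        rw [Prod.ext (M.x_inj h1.1).2.1 (Prod.ext h2.1 h2.2)]
    · rintro ⟨y, hy⟩
      rcases M.commute_a_cases ((hmem y).1 hy) with ⟨b, k, rfl⟩ | ⟨b, b', k, rfl⟩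
      · exact ⟨Sum.inl (b, k), rfl⟩
      · exact ⟨Sum.inr (b, b', k), rfl⟩
  rw [← this, Nat.card_sum, Nat.card_prod, Nat.card_prod, Nat.card_prod, Nat.card_units]
  ring

theorem ker_φ : Subgroup.center SL(2, K) = M.φ.ker := by
  ext g
  rw [MonoidHom.mem_ker, φ_eq_one, Matrix.SpecialLinearGroup.mem_center_iff]
  constructor
  · rintro ⟨r, hr, e⟩
    have : r = 1 ∨ r = -1 := mul_self_eq_one_iff.1 (by simpa [sq] using hr)
    rcases this with rfl | rfl
    · left; ext i j; rw [← e]; simp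
    · right; ext i j; rw [← e]; fin_cases i <;> fin_cases j <;> simp
  · rintro (rfl | rfl)
    · exact ⟨1, by simp, by simp⟩
    · refine ⟨-1, by simp, ?_⟩
      ext i j; fin_cases i <;> fin_cases j <;> simp

/-- the centraliser of the involution -/
noncomputable def centralizerEquiv [Finite K] :
    ↥(Subgroup.centralizer {M.a}) ≃* Multiplicative (ZMod 2) × PSL(2, K) := by
  let φ' : PSL(2, K) →* G := QuotientGroup.lift _ M.φ (M.ker_φ.le)
  have hφ' : ∀ g : SL(2, K), φ' (QuotientGroup.mk g) = M.φ g := fun g => rfl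
  let f : Multiplicative (ZMod 2) × PSL(2, K) →* G := (invHom M.a M.a_mul_a).noncommCoprod φ' (by
    intro z g
    induction g using QuotientGroup.induction_on with
    | H g =>
      rw [hφ']
      rcases invHom_cases M.a M.a_mul_a z with ⟨-, h⟩ | ⟨-, h⟩ <;> rw [h]
      · exact Commute.one_left _
      · exact M.a_φ g)
  have hf : Function.Injective f := by
    rw [injective_iff_map_eq_one]
    rintro ⟨z, g⟩ h
    induction g using QuotientGroup.induction_on with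
    | H g =>
      have h' : invHom M.a M.a_mul_a z * M.φ g = 1 := h
      rcases invHom_cases M.a M.a_mul_a z with ⟨h1, h2⟩ | ⟨-, h2⟩ <;> rw [h2] at h'
      · rw [one_mul] at h'
        refine Prod.ext h1 ?_
        show (QuotientGroup.mk g : PSL(2, K)) = 1
        rw [QuotientGroup.eq_one_iff, M.ker_φ]
        exact h'
      · exact absurd (by rw [h', map_one]) (M.φ_ne_a_mul 1 g)
  have hr : f.range = Subgroup.centralizer {M.a} := by
    ext y
    rw [Subgroup.mem_centralizer_singleton_iff, commute_a_iff]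
    constructor
    · rintro ⟨⟨z, g⟩, rfl⟩
      induction g using QuotientGroup.induction_on with
      | H g =>
        refine ⟨g, ?_⟩
        have h' : f (z, QuotientGroup.mk g) = invHom M.a M.a_mul_a z * M.φ g := rfl
        rw [h']
        rcases invHom_cases M.a M.a_mul_a z with ⟨-, h2⟩ | ⟨-, h2⟩ <;> rw [h2] <;> simp
    · rintro ⟨g, rfl | rfl⟩
      · exact ⟨(1, QuotientGroup.mk g), by
          show invHom M.a M.a_mul_a 1 * M.φ g = _
          simp⟩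
      · exact ⟨(Multiplicative.ofAdd 1, QuotientGroup.mk g), by
          show invHom M.a M.a_mul_a _ * M.φ g = _
          rw [invHom_gen]⟩
  exact ((MonoidHom.ofInjective hf).trans (MulEquiv.subgroupCongr hr)).symm

/-- a third involution -/
noncomputable def w : G := M.φ w1

theorem w_mul_w : M.w * M.w = 1 := by
  rw [w, ← map_mul, φ_eq_one]
  right
  apply sl_ext <;> simp only [sl_mul] <;> simp [w1] <;> grind

theorem n_w : M.n * M.w = M.w * M.n := by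
  rw [w, ← φ_w0, ← map_mul, ← map_mul, φ_eq_iff]
  right
  apply sl_ext <;> simp only [sl_mul, sl_neg] <;> simp [w0, w1]

theorem a_w : M.a * M.w = M.w * M.a := M.a_φ _

/-- the homomorphism onto the Sylow 2-subgroup -/
noncomputable def ε : Multiplicative (ZMod 2) × Multiplicative (ZMod 2) × Multiplicative (ZMod 2) →* G :=
  (invHom M.a M.a_mul_a).noncommCoprod
    ((invHom M.n M.n_mul_n).noncommCoprod (invHom M.w M.w_mul_w) (by
      intro x y
      rcases invHom_cases M.n M.n_mul_n x with ⟨-, h⟩ | ⟨-, h⟩ <;>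
        rcases invHom_cases M.w M.w_mul_w y with ⟨-, h'⟩ | ⟨-, h'⟩ <;> rw [h, h'] <;>
        first | exact M.n_w | simp)) (by
      rintro x ⟨y, z⟩
      rw [MonoidHom.noncommCoprod_apply]
      rcases invHom_cases M.a M.a_mul_a x with ⟨-, h⟩ | ⟨-, h⟩ <;> rw [h]
      · simp
      · refine Commute.mul_right ?_ ?_
        · rcases invHom_cases M.n M.n_mul_n y with ⟨-, h⟩ | ⟨-, h⟩ <;> rw [h]
          · simp
          · exact M.n_a.symm
        · rcases invHom_cases M.w M.w_mul_w z with ⟨-, h⟩ | ⟨-, h⟩ <;> rw [h]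
          · simp
          · exact M.a_w)

theorem ε_apply (x y z : Multiplicative (ZMod 2)) :
    M.ε (x, y, z) = invHom M.a M.a_mul_a x * (invHom M.n M.n_mul_n y * invHom M.w M.w_mul_w z) := rfl

/-- the Sylow 2-subgroup -/
noncomputable def E : Subgroup G := M.ε.range

theorem a_mem_E : M.a ∈ M.E := ⟨(Multiplicative.ofAdd 1, 1, 1), by simp [ε_apply, invHom_gen]⟩
theorem n_mem_E : M.n ∈ M.E := ⟨(1, Multiplicative.ofAdd 1, 1), by simp [ε_apply, invHom_gen]⟩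
theorem w_mem_E : M.w ∈ M.E := ⟨(1, 1, Multiplicative.ofAdd 1), by simp [ε_apply, invHom_gen]⟩

theorem mem_E_cases {y : G} (hy : y ∈ M.E) : y = 1 ∨ y = M.n ∨ y = M.w ∨ y = M.n * M.w ∨ y = M.a ∨
    y = M.a * M.n ∨ y = M.a * M.w ∨ y = M.a * (M.n * M.w) := by
  obtain ⟨⟨x, y, z⟩, rfl⟩ := hy
  rw [ε_apply]
  rcases invHom_cases M.a M.a_mul_a x with ⟨-, h⟩ | ⟨-, h⟩ <;>
    rcases invHom_cases M.n M.n_mul_n y with ⟨-, h'⟩ | ⟨-, h'⟩ <;>
    rcases invHom_cases M.w M.w_mul_w z with ⟨-, h''⟩ | ⟨-, h''⟩ <;> rw [h, h', h''] <;> simp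

theorem E_sq {y : G} (hy : y ∈ M.E) : y * y = 1 := by
  obtain ⟨p, rfl⟩ := hy
  rw [← map_mul]
  have : ∀ p : Multiplicative (ZMod 2) × Multiplicative (ZMod 2) × Multiplicative (ZMod 2), p * p = 1 := by decide
  rw [this, map_one]

theorem E_comm {y y' : G} (hy : y ∈ M.E) (hy' : y' ∈ M.E) : y * y' = y' * y := by
  obtain ⟨p, rfl⟩ := hy
  obtain ⟨p', rfl⟩ := hy'
  rw [← map_mul, ← map_mul, mul_comm]

/-- an element of order three permuting `a`, `n`, `a n` -/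
noncomputable def σ : G := M.x 1 0 0 * M.n * M.x (-1) 1 0

/-- an element of order three permuting `n`, `w`, `n w` -/
noncomputable def τ : G := M.φ (sU 1)

theorem ρ_σ : M.ρ M.σ = xM 1 0 0 1 0 0 * nM * xM (-1) 1 0 (-1) 1 0 := by
  rw [σ, map_mul, map_mul, ρ_x, ρ_x, ρ_n]; simp

theorem ρ_w : M.ρ M.w = phiM 1 1 1 (-1) 1 1 1 (-1) := by
  rw [w, ρ_φ]; simp [w1]

theorem σ_a : M.σ * M.a * M.σ⁻¹ = M.n := by
  rw [mul_inv_eq_iff_eq_mul]
  apply M.inj
  rw [map_mul, map_mul, ρ_σ, ρ_a, ρ_n, sigma_a]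

theorem σ_n : M.σ * M.n * M.σ⁻¹ = M.a * M.n := by
  rw [mul_inv_eq_iff_eq_mul]
  apply M.inj
  rw [map_mul, map_mul, map_mul, ρ_σ, ρ_a, ρ_n, sigma_n]

theorem σ_w : M.σ * M.w * M.σ⁻¹ = M.n * M.w := by
  rw [mul_inv_eq_iff_eq_mul]
  apply M.inj
  rw [map_mul, map_mul, map_mul, ρ_σ, ρ_w, ρ_n, sigma_w]

theorem τ_a : M.τ * M.a * M.τ⁻¹ = M.a := by
  rw [mul_inv_eq_iff_eq_mul, τ, a_φ]

theorem τ_n : M.τ * M.n * M.τ⁻¹ = M.w := by
  rw [mul_inv_eq_iff_eq_mul, τ, w, ← φ_w0, ← map_mul, ← map_mul, φ_eq_iff]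
  right
  apply sl_ext <;> simp only [sl_mul, sl_neg] <;> simp [w0, w1, sU] <;> grind

theorem τ_w : M.τ * M.w * M.τ⁻¹ = M.n * M.w := by
  rw [mul_inv_eq_iff_eq_mul, τ, w, ← φ_w0, ← map_mul, ← map_mul, ← map_mul, φ_eq_iff]
  right
  apply sl_ext <;> simp only [sl_mul, sl_neg] <;> simp [w0, w1, sU] <;> grind

theorem mem_normalizer_E [Finite K] {g : G} (ha : g * M.a * g⁻¹ ∈ M.E) (hn : g * M.n * g⁻¹ ∈ M.E)
    (hw : g * M.w * g⁻¹ ∈ M.E) : g ∈ Subgroup.normalizer (M.E : Set G) := by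
  have := M.finite
  apply Subgroup.mem_normalizer_fintype
  intro y hy
  have hc : ∀ x y : G, g * (x * y) * g⁻¹ = (g * x * g⁻¹) * (g * y * g⁻¹) := fun x y => by group
  rcases M.mem_E_cases hy with rfl | rfl | rfl | rfl | rfl | rfl | rfl | rfl <;> (try rw [hc]) <;> (try rw [hc M.n])
  · simp
  · exact hn
  · exact hw
  · exact M.E.mul_mem hn hw
  · exact ha
  · exact M.E.mul_mem ha hn
  · exact M.E.mul_mem ha hw
  · exact M.E.mul_mem ha (M.E.mul_mem hn hw)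

theorem σ_mem [Finite K] : M.σ ∈ Subgroup.normalizer (M.E : Set G) :=
  M.mem_normalizer_E (M.σ_a ▸ M.n_mem_E) (M.σ_n ▸ M.E.mul_mem M.a_mem_E M.n_mem_E)
    (M.σ_w ▸ M.E.mul_mem M.n_mem_E M.w_mem_E)

theorem τ_mem [Finite K] : M.τ ∈ Subgroup.normalizer (M.E : Set G) :=
  M.mem_normalizer_E (by rw [M.τ_a]; exact M.a_mem_E) (M.τ_n ▸ M.w_mem_E) (M.τ_w ▸ M.E.mul_mem M.n_mem_E M.w_mem_E)

theorem seven [Finite K] {y : G} (hy : y = M.n ∨ y = M.w ∨ y = M.n * M.w ∨ y = M.a ∨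
    y = M.a * M.n ∨ y = M.a * M.w ∨ y = M.a * (M.n * M.w)) :
    ∃ g ∈ Subgroup.normalizer (M.E : Set G), g * M.a * g⁻¹ = y := by
  have hσ := M.σ_mem
  have hτ := M.τ_mem
  have step : ∀ {s x x' : G}, s ∈ Subgroup.normalizer (M.E : Set G) → s * x * s⁻¹ = x' →
      (∃ g ∈ Subgroup.normalizer (M.E : Set G), g * M.a * g⁻¹ = x) →
      ∃ g ∈ Subgroup.normalizer (M.E : Set G), g * M.a * g⁻¹ = x' := by
    rintro s x x' hs rfl ⟨g, hg, rfl⟩
    exact ⟨s * g, mul_mem hs hg, by group⟩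
  have hc : ∀ g x y : G, g * (x * y) * g⁻¹ = (g * x * g⁻¹) * (g * y * g⁻¹) := fun g x y => by group
  have h0 : ∃ g ∈ Subgroup.normalizer (M.E : Set G), g * M.a * g⁻¹ = M.a := ⟨1, one_mem _, by simp⟩
  have h1 := step hσ M.σ_a h0
  have h2 := step hσ M.σ_n h1
  have h3 := step hτ M.τ_n h1
  have h4 := step hτ M.τ_w h3
  have h5 := step hτ (by rw [hc, τ_a, τ_n]) h2
  have h6 := step hτ (by rw [hc, τ_a, τ_w]) h5
  rcases hy with rfl | rfl | rfl | rfl | rfl | rfl | rfl <;> assumption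

theorem seven_ne_one [Finite K] {y : G} (hy : y = M.n ∨ y = M.w ∨ y = M.n * M.w ∨ y = M.a ∨
    y = M.a * M.n ∨ y = M.a * M.w ∨ y = M.a * (M.n * M.w)) : y ≠ 1 := by
  obtain ⟨g, -, rfl⟩ := M.seven hy
  simpa using M.a_ne_one

theorem ε_injective [Finite K] : Function.Injective M.ε := by
  rw [injective_iff_map_eq_one]
  rintro ⟨x, y, z⟩ h
  rw [ε_apply] at h
  rcases invHom_cases M.a M.a_mul_a x with ⟨e, h1⟩ | ⟨-, h1⟩ <;>
    rcases invHom_cases M.n M.n_mul_n y with ⟨e', h2⟩ | ⟨-, h2⟩ <;>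
    rcases invHom_cases M.w M.w_mul_w z with ⟨e'', h3⟩ | ⟨-, h3⟩ <;> rw [h1, h2, h3] at h <;>
    first
    | (rw [e, e', e'']; rfl)
    | exact absurd h (M.seven_ne_one (by simp))

theorem card_E [Finite K] : Nat.card M.E = 8 := by
  rw [E, ← Nat.card_congr (MonoidHom.ofInjective M.ε_injective).toEquiv]
  simp

/-- `E` as a Sylow 2-subgroup -/
noncomputable def sylowE [Finite K] (hq : Nat.card K % 8 = 3) : Sylow 2 G :=
  have := M.finite
  (IsPGroup.of_card (n := 3) M.card_E).toSylow (by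
    intro h
    apply not_sixteen_dvd hq
    rw [← M.card_G, ← M.E.card_mul_index, card_E]
    exact Nat.mul_dvd_mul_left 8 h)

theorem coe_sylowE [Finite K] (hq : Nat.card K % 8 = 3) : ((M.sylowE hq : Sylow 2 G) : Subgroup G) = M.E := rfl

include M in
theorem sylow_two [Finite K] (hq : Nat.card K % 8 = 3) (S : Sylow 2 G) : Nat.card S = 8 ∧ ∀ x ∈ S, x * x = 1 := by
  have := M.finite
  obtain ⟨g, rfl⟩ := MulAction.exists_smul_eq G (M.sylowE hq) S
  refine ⟨by rw [sylow_smul_eq_map, card_map_conj, coe_sylowE, card_E], fun x hx => ?_⟩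
  have := M.E_sq ((mem_smul_sylow _ g x).1 hx)
  calc x * x = g * (g⁻¹ * x * g * (g⁻¹ * x * g)) * g⁻¹ := by group
    _ = 1 := by rw [this]; simp

include M in
theorem sq_eq_one_of_four [Finite K] (hq : Nat.card K % 8 = 3) {x : G} (hx : x ^ 4 = 1) : x * x = 1 := by
  have := M.finite
  obtain ⟨g, hg⟩ := exists_conj_mem_sylow (M.sylowE hq) (k := 2) hx
  have := M.E_sq hg
  calc x * x = g * (g⁻¹ * x * g * (g⁻¹ * x * g)) * g⁻¹ := by group
    _ = 1 := by rw [this]; simp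

theorem conj_a_of_inv [Finite K] (hq : Nat.card K % 8 = 3) {t : G} (ht : t * t = 1) (ht1 : t ≠ 1) :
    ∃ g, g * M.a * g⁻¹ = t := by
  have := M.finite
  obtain ⟨g, hg⟩ := exists_conj_mem_sylow (M.sylowE hq) (k := 1) (x := t) (by simpa [sq] using ht)
  rcases M.mem_E_cases hg with h | h
  · exact absurd (by simpa [mul_assoc] using congrArg (fun y => g * y * g⁻¹) h) ht1
  · obtain ⟨g', -, e⟩ := M.seven h
    exact ⟨g * g', by rw [show g * g' * M.a * (g * g')⁻¹ = g * (g' * M.a * g'⁻¹) * g⁻¹ by group, e]; group⟩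

theorem mem_E_of_commute [Finite K] {y : G} (ha : y * M.a = M.a * y) (hn : y * M.n = M.n * y)
    (hw : y * M.w = M.w * y) : y ∈ M.E := by
  have key : ∀ g, M.φ g * M.n = M.n * M.φ g → M.φ g * M.w = M.w * M.φ g → M.φ g ∈ M.E := by
    intro g h0 h1
    rw [← φ_w0, ← map_mul, ← map_mul, φ_eq_iff] at h0
    rw [w, ← map_mul, ← map_mul, φ_eq_iff] at h1
    rcases commute_cases h0 h1 with h | h | h | h <;> rw [M.φ_eq_iff.2 h]
    · simp
    · rw [φ_w0]; exact M.n_mem_E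
    · exact M.w_mem_E
    · rw [map_mul, φ_w0]; exact M.E.mul_mem M.n_mem_E M.w_mem_E
  obtain ⟨g, rfl | rfl⟩ := M.commute_a_iff.1 ha
  · exact key g hn hw
  · refine M.E.mul_mem M.a_mem_E (key g ?_ ?_)
    · rw [← mul_assoc M.n, n_a, mul_assoc, mul_assoc] at hn
      exact mul_left_cancel hn
    · rw [← mul_assoc M.w, ← a_w, mul_assoc, mul_assoc] at hw
      exact mul_left_cancel hw

theorem centralizer_E [Finite K] : Subgroup.centralizer (M.E : Set G) = M.E := by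
  ext y
  rw [Subgroup.mem_centralizer_iff]
  constructor
  · intro h
    exact M.mem_E_of_commute (h _ M.a_mem_E).symm (h _ M.n_mem_E).symm (h _ M.w_mem_E).symm
  · intro h x hx
    exact M.E_comm hx h

theorem conj_φ_of_commute [Finite K] {y : G} (ha : y * M.a = M.a * y) (g : SL(2, K)) :
    ∃ g', y * M.φ g * y⁻¹ = M.φ g' := by
  obtain ⟨s, rfl | rfl⟩ := M.commute_a_iff.1 ha
  · exact ⟨s * g * s⁻¹, by simp⟩
  · refine ⟨s * g * s⁻¹, ?_⟩
    calc M.a * M.φ s * M.φ g * (M.a * M.φ s)⁻¹ = M.a * M.φ (s * g * s⁻¹) * M.a⁻¹ := by simp [mul_assoc]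
      _ = _ := by rw [a_φ]; simp

theorem φ_mem_E_cases {g : SL(2, K)} (h : M.φ g ∈ M.E) :
    M.φ g = 1 ∨ M.φ g = M.n ∨ M.φ g = M.w ∨ M.φ g = M.n * M.w := by
  rcases M.mem_E_cases h with h | h | h | h | h | h | h | h
  · tauto
  · tauto
  · tauto
  · tauto
  · exact absurd h (M.φ_ne_a g)
  · rw [← φ_w0] at h; exact absurd h (M.φ_ne_a_mul _ _)
  · exact absurd h (M.φ_ne_a_mul _ _)
  · rw [← φ_w0, w, ← map_mul] at h; exact absurd h (M.φ_ne_a_mul _ _)

theorem card_normalizer_E [Finite K] (hq : Nat.card K % 8 = 3) :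
    Nat.card (Subgroup.normalizer (M.E : Set G)) = 168 := by
  have := M.finite
  set N := Subgroup.normalizer (M.E : Set G) with hN
  have hconj : ∀ g ∈ N, ∀ y ∈ M.E, g * y * g⁻¹ ∈ M.E := fun g hg y hy => (Subgroup.mem_normalizer_iff.1 hg y).1 hy
  have n1 : M.n ≠ 1 := M.seven_ne_one (by simp)
  have w1' : M.w ≠ 1 := M.seven_ne_one (by simp)
  have nw1 : M.n * M.w ≠ 1 := M.seven_ne_one (by simp)
  have nw : M.n ≠ M.w := by
    intro h; apply nw1; rw [h, w_mul_w]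
  have h1 : {t | ∃ g ∈ N, g * M.a * g⁻¹ = t} = (M.E : Set G) \ {1} := by
    ext t
    constructor
    · rintro ⟨g, hg, rfl⟩
      exact ⟨hconj g hg _ M.a_mem_E, by simpa using M.a_ne_one⟩
    · rintro ⟨ht, ht1⟩
      rcases M.mem_E_cases ht with h | h
      · exact absurd h ht1
      · exact M.seven h
  have h1' : Set.ncard ((M.E : Set G) \ {1}) = 7 := by
    rw [Set.ncard_sdiff_singleton_of_mem M.E.one_mem, ← Nat.card_coe_set_eq]
    have := M.card_E
    simp only [SetLike.coe_sort_coe, this]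
  have h2 : {t | ∃ g ∈ N ⊓ Subgroup.centralizer {M.a}, g * M.n * g⁻¹ = t} = {M.n, M.w, M.n * M.w} := by
    ext t
    constructor
    · rintro ⟨g, ⟨hg, hg'⟩, rfl⟩
      obtain ⟨g', e⟩ := M.conj_φ_of_commute (Subgroup.mem_centralizer_singleton_iff.1 hg') w0
      rw [φ_w0] at e
      have h3 := hconj g hg _ M.n_mem_E
      rw [e] at h3 ⊢
      rcases M.φ_mem_E_cases h3 with h | h
      · rw [← e] at h; exact absurd (by simpa using h) n1
      · exact h
    · have hτ : M.τ ∈ N ⊓ Subgroup.centralizer {M.a} :=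
        ⟨M.τ_mem, Subgroup.mem_centralizer_singleton_iff.2 (M.a_φ _).symm⟩
      rintro (rfl | rfl | rfl)
      · exact ⟨1, one_mem _, by simp⟩
      · exact ⟨M.τ, hτ, M.τ_n⟩
      · exact ⟨M.τ * M.τ, mul_mem hτ hτ, by
          rw [show M.τ * M.τ * M.n * (M.τ * M.τ)⁻¹ = M.τ * (M.τ * M.n * M.τ⁻¹) * M.τ⁻¹ by group, τ_n, τ_w]⟩
  have h2' : Set.ncard ({M.n, M.w, M.n * M.w} : Set G) = 3 := by
    rw [Set.ncard_eq_three]
    exact ⟨_, _, _, nw, by simpa using w1', by simpa using n1, rfl⟩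
  have h4 : N ⊓ Subgroup.centralizer {M.a} ⊓ Subgroup.centralizer {M.n} ⊓ Subgroup.centralizer {M.w} = M.E := by
    ext y
    simp only [Subgroup.mem_inf, Subgroup.mem_centralizer_singleton_iff]
    constructor
    · rintro ⟨⟨⟨-, h1⟩, h2⟩, h3⟩
      exact M.mem_E_of_commute h1 h2 h3
    · intro h
      exact ⟨⟨⟨Subgroup.le_normalizer h, M.E_comm h M.a_mem_E⟩, M.E_comm h M.n_mem_E⟩, M.E_comm h M.w_mem_E⟩
  have h3 : Set.ncard {t | ∃ g ∈ N ⊓ Subgroup.centralizer {M.a} ⊓ Subgroup.centralizer {M.n}, g * M.w * g⁻¹ = t} = 1 := by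
    have hsub : {t | ∃ g ∈ N ⊓ Subgroup.centralizer {M.a} ⊓ Subgroup.centralizer {M.n}, g * M.w * g⁻¹ = t} ⊆
        {M.w, M.n * M.w} := by
      rintro _ ⟨g, ⟨⟨hg, hg'⟩, hg''⟩, rfl⟩
      obtain ⟨g', e⟩ := M.conj_φ_of_commute (Subgroup.mem_centralizer_singleton_iff.1 hg') w1
      have h3 := hconj g hg _ M.w_mem_E
      rw [w, e] at h3
      rw [← w] at e
      rcases M.φ_mem_E_cases h3 with h | h | h
      · rw [← e] at h; exact absurd (by simpa using h) w1'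
      · rw [← e, mul_inv_eq_iff_eq_mul, ← Subgroup.mem_centralizer_singleton_iff.1 hg''] at h
        exact absurd (mul_left_cancel h).symm nw
      · rw [e]; exact h
    have hle := Set.ncard_le_ncard hsub
    have hle2 : Set.ncard ({M.w, M.n * M.w} : Set G) ≤ 2 := (Set.ncard_insert_le _ _).trans (by simp)
    have hc := card_conj_orbit (N ⊓ Subgroup.centralizer {M.a} ⊓ Subgroup.centralizer {M.n}) M.w
    rw [h4, card_E] at hc
    have hdvd := Subgroup.card_subgroup_dvd_card (N ⊓ Subgroup.centralizer {M.a} ⊓ Subgroup.centralizer {M.n})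
    have hpos : 0 < Nat.card ↥(N ⊓ Subgroup.centralizer {M.a} ⊓ Subgroup.centralizer {M.n}) := Nat.card_pos
    rw [hc, M.card_G] at hdvd
    rw [hc] at hpos
    generalize Set.ncard {t | ∃ g ∈ N ⊓ Subgroup.centralizer {M.a} ⊓ Subgroup.centralizer {M.n},
      g * M.w * g⁻¹ = t} = k at *
    have : k = 1 ∨ k = 2 := by omega
    rcases this with rfl | rfl
    · rfl
    · exact absurd hdvd (not_sixteen_dvd hq)
  rw [card_conj_orbit N M.a, h1, h1', card_conj_orbit _ M.n, h2, h2', card_conj_orbit _ M.w, h3, h4, card_E]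

include M in
theorem sylow_two_normalizer [Finite K] (hq : Nat.card K % 8 = 3) (S : Sylow 2 G) :
    Subgroup.centralizer ((S : Subgroup G) : Set G) = S ∧
      Nat.card (Subgroup.normalizer ((S : Subgroup G) : Set G)) = 168 := by
  have := M.finite
  obtain ⟨g, rfl⟩ := MulAction.exists_smul_eq G (M.sylowE hq) S
  rw [sylow_smul_eq_map, centralizer_map_conj, normalizer_map_conj, card_map_conj, coe_sylowE, centralizer_E]
  exact ⟨rfl, M.card_normalizer_E hq⟩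

end Model

end Cfsg.Agent.H6.Ree
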