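import Cfsg.Agent.H6.ReeInv
import Cfsg.Agent.H6.Tori
import Cfsg.Agent.H6.Eigen

/-! The maximal tori of orders `q - 1` and `q + 1` of the small Ree groups. -/

set_option autoImplicit false

namespace Cfsg.Agent.H6.Ree

open Matrix Cfsg.Agent.H6.RankOne Cfsg.Agent.H6.MP Cfsg.Agent.H6.Grp MulAction
open scoped MatrixGroups

theorem phiM_congr {R : Type*} [CommRing R] {p q r s P Q R' S p' q' r' s' P' Q' R'' S' : R} (h1 : p = p')
    (h2 : q = q') (h3 : r = r') (h4 : s = s') (h5 : P = P') (h6 : Q = Q') (h7 : R' = R'') (h8 : S = S') :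
    phiM p q r s P Q R' S = phiM p' q' r' s' P' Q' R'' S' := by
  subst h1 h2 h3 h4 h5 h6 h7 h8; rfl

theorem commute_a_of_commute_diag {F : Type*} [Field F] {ν ν' μ μ' : F} (hν : ν * ν' = 1) (hμ : μ * μ' = 1)
    (h1 : μ ≠ ν) (h2 : μ ≠ ν') (h3 : μ ≠ ν ^ 3) (h4 : μ ≠ ν' ^ 3) {Y : Matrix (Fin 7) (Fin 7) F}
    (hY : Y * phiM ν 0 0 ν' μ 0 0 μ' = phiM ν 0 0 ν' μ 0 0 μ' * Y) :
    Y * hM (-1) (-1) (-1) (-1) = hM (-1) (-1) (-1) (-1) * Y := by
  have hD : phiM ν 0 0 ν' μ 0 0 μ' = Matrix.diagonal ![ν * μ, ν ^ 2, ν' * μ, 1, ν * μ', ν' ^ 2, ν' * μ'] := by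
    ext i j; fin_cases i <;> fin_cases j <;> simp [phiM, hν, mul_comm]
  have hA : (hM (-1) (-1) (-1) (-1) : Matrix _ _ F) = Matrix.diagonal ![-1, 1, -1, 1, -1, 1, -1] := by
    ext i j; fin_cases i <;> fin_cases j <;> simp [hM]
  rw [hD] at hY
  rw [hA]
  ext i j
  have := congrFun (congrFun hY i) j
  rw [Matrix.mul_diagonal, Matrix.diagonal_mul] at this ⊢
  by_cases h0 : Y i j = 0
  · simp [h0]
  rw [mul_comm] at this ⊢
  have h5 := mul_right_cancel₀ h0 this
  congr 1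
  fin_cases i <;> fin_cases j <;>
    first
    | rfl
    | (simp only [Matrix.cons_val, Fin.reduceFinMk] at h5; exfalso; grind)

variable {K : Type*} [Field K] [CharP K 3]

/-- the non-split torus of `SL₂` -/
def T0 : Subgroup SL(2, K) := Subgroup.centralizer {w0}

omit [CharP K 3] in
theorem mem_T0 {t : SL(2, K)} : t ∈ T0 ↔ t 1 1 = t 0 0 ∧ t 1 0 = - t 0 1 := by
  rw [T0, Subgroup.mem_centralizer_singleton_iff]
  constructor
  · intro h
    have h1 := congrArg (fun g : SL(2, K) => g 0 0) h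
    have h2 := congrArg (fun g : SL(2, K) => g 0 1) h
    simp only [sl_mul] at h1 h2
    simp [w0] at h1 h2
    exact ⟨h2.symm, h1.symm⟩
  · rintro ⟨h1, h2⟩
    apply sl_ext <;> simp only [sl_mul] <;> simp [w0, h1, h2]

omit [CharP K 3] in
theorem T0_det {t : SL(2, K)} (ht : t ∈ T0) : t 0 0 ^ 2 + t 0 1 ^ 2 = 1 := by
  have := sl_det t
  rw [(mem_T0.1 ht).1, (mem_T0.1 ht).2] at this
  linear_combination this

omit [CharP K 3] in
theorem T0_comm {t t' : SL(2, K)} (ht : t ∈ T0) (ht' : t' ∈ T0) : t * t' = t' * t := by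
  obtain ⟨h1, h2⟩ := mem_T0.1 ht
  obtain ⟨h3, h4⟩ := mem_T0.1 ht'
  apply sl_ext <;> simp only [sl_mul, h1, h2, h3, h4] <;> ring

omit [CharP K 3] in
theorem T0_neg {t : SL(2, K)} (ht : t ∈ T0) : -t ∈ T0 := by
  rw [mem_T0] at ht ⊢
  simp only [sl_neg, ht.1, ht.2, and_self]

omit [CharP K 3] in
theorem w0_mem_T0 : (w0 : SL(2, K)) ∈ T0 := Subgroup.mem_centralizer_singleton_iff.2 rfl

theorem T0_sq {t : SL(2, K)} (ht : t ∈ T0) (h : t * t = 1) : t = 1 ∨ t = -1 := by
  obtain ⟨h1, h2⟩ := mem_T0.1 ht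
  have h3 := T0_det ht
  have h4 : (t * t) 0 0 = 1 := by rw [h]; simp
  rw [sl_mul, h2] at h4
  have h5 : t 0 1 = 0 := by
    have : t 0 1 * t 0 1 = 0 := by grind
    simpa using this
  have : t 0 0 = 1 ∨ t 0 0 = -1 := mul_self_eq_one_iff.1 (by grind)
  rcases this with h | h
  · left; apply sl_ext <;> simp [h1, h2, h5, h]
  · right; apply sl_ext <;> simp [h1, h2, h5, h]

omit [CharP K 3] in
theorem T0_cases {t : SL(2, K)} (ht : t ∈ T0) (h : t 0 0 * t 0 1 = 0) : (t = 1 ∨ t = -1) ∨ (t = w0 ∨ t = -w0) := by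
  obtain ⟨h1, h2⟩ := mem_T0.1 ht
  have h3 := T0_det ht
  rcases mul_eq_zero.1 h with h | h
  · right
    have : t 0 1 = 1 ∨ t 0 1 = -1 := mul_self_eq_one_iff.1 (by grind)
    rcases this with h' | h'
    · left; apply sl_ext <;> simp [h1, h2, h', h, w0]
    · right; apply sl_ext <;> simp only [sl_neg] <;> simp [h1, h2, h', h, w0]
  · left
    have : t 0 0 = 1 ∨ t 0 0 = -1 := mul_self_eq_one_iff.1 (by grind)
    rcases this with h' | h'
    · left; apply sl_ext <;> simp [h1, h2, h', h]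
    · right; apply sl_ext <;> simp [h1, h2, h', h]

theorem w1_T0 {t : SL(2, K)} (ht : t ∈ T0) : t * w1 * t = w1 := by
  obtain ⟨h1, h2⟩ := mem_T0.1 ht
  have h3 := T0_det ht
  apply sl_ext <;> simp only [sl_mul, h1, h2] <;> simp [w1] <;> grind

omit [CharP K 3] in
theorem indep (hns : ¬ IsSquare (-1 : K)) {F : Type*} [Field F] [Algebra K F] {i : F} (hi : i * i = -1) {u v : K}
    (h : algebraMap K F u + i * algebraMap K F v = 0) : u = 0 ∧ v = 0 := by
  have h1 : u * u + v * v = 0 := by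
    apply (algebraMap K F).injective
    simp only [map_add, map_mul, map_zero]
    linear_combination (algebraMap K F u - i * algebraMap K F v) * h + (algebraMap K F v) ^ 2 * hi
  have hv : v = 0 := by
    by_contra hv
    exact hns ⟨u / v, by field_simp; linear_combination -h1⟩
  rw [hv] at h1
  exact ⟨by simpa using h1, hv⟩

omit [CharP K 3] in
theorem isCyclic_T0 [Finite K] (hns : ¬ IsSquare (-1 : K)) : IsCyclic (T0 (K := K)) := by
  obtain ⟨i, hi⟩ := IsAlgClosed.exists_eq_mul_self (-1 : AlgebraicClosure K)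
  let f := algebraMap K (AlgebraicClosure K)
  let χ : T0 (K := K) →* AlgebraicClosure K :=
    { toFun := fun t => f (t.1 0 0) + i * f (t.1 0 1)
      map_one' := by simp
      map_mul' := fun t t' => by
        simp only [Subgroup.coe_mul, sl_mul, (mem_T0.1 t'.2).1, (mem_T0.1 t'.2).2, map_add, map_mul, map_neg]
        linear_combination (f (t.1 0 1) * f (t'.1 0 1)) * hi }
  apply isCyclic_of_injective_ringHom χ
  rw [injective_iff_map_eq_one]
  intro t ht
  have h1 : f (t.1 0 0 - 1) + i * f (t.1 0 1) = 0 := by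
    have : f (t.1 0 0) + i * f (t.1 0 1) = 1 := ht
    rw [map_sub, map_one]; linear_combination this
  obtain ⟨h2, h3⟩ := indep hns hi.symm h1
  apply Subtype.ext
  apply sl_ext <;> simp [(mem_T0.1 t.2).1, (mem_T0.1 t.2).2, h3, sub_eq_zero.1 h2]

theorem card_T0 [Finite K] (hns : ¬ IsSquare (-1 : K)) : Nat.card (T0 (K := K)) = Nat.card K + 1 := by
  have h0 : ∀ s : K, 1 + s ^ 2 ≠ 0 := fun s h => hns ⟨s, by linear_combination -h⟩
  rw [← Finite.card_option]
  symm
  refine Nat.card_congr (Equiv.ofBijective (fun o => o.elim ⟨-1, T0_neg T0.one_mem⟩ fun s =>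
    ⟨⟨!![(1 - s ^ 2) / (1 + s ^ 2), 2 * s / (1 + s ^ 2); -(2 * s / (1 + s ^ 2)), (1 - s ^ 2) / (1 + s ^ 2)], by
      have := h0 s
      rw [Matrix.det_fin_two_of]; field_simp; ring⟩, mem_T0.2 ⟨rfl, rfl⟩⟩) ⟨?_, ?_⟩)
  · have h1 : ∀ s : K, (1 - s ^ 2) / (1 + s ^ 2) ≠ -1 := by
      intro s h
      have := h0 s
      field_simp at h
      grind
    rintro (_ | s) (_ | s') h
    · rfl
    · exact absurd (congrArg (fun t => t.1 0 0) h).symm (h1 s')
    · exact absurd (congrArg (fun t => t.1 0 0) h) (h1 s)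
    · have e1 : (1 - s ^ 2) / (1 + s ^ 2) = (1 - s' ^ 2) / (1 + s' ^ 2) := congrArg (fun t => t.1 0 0) h
      have e2 : 2 * s / (1 + s ^ 2) = 2 * s' / (1 + s' ^ 2) := congrArg (fun t => t.1 0 1) h
      have := h0 s
      have := h0 s'
      field_simp at e1 e2
      have e3 : s ^ 2 = s' ^ 2 := by grind
      have e4 : s = s' := by
        apply mul_left_cancel₀ (h0 s)
        grind
      rw [e4]
  · rintro ⟨t, ht⟩
    obtain ⟨h1, h2⟩ := mem_T0.1 ht
    have h3 := T0_det ht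
    by_cases h : 1 + t 0 0 = 0
    · refine ⟨none, Subtype.ext ?_⟩
      have h4 : t 0 0 = -1 := by linear_combination h
      have h5 : t 0 1 = 0 := by
        have : t 0 1 * t 0 1 = 0 := by grind
        simpa using this
      apply sl_ext <;> simp [h1, h2, h4, h5]
    · refine ⟨some (t 0 1 / (1 + t 0 0)), Subtype.ext ?_⟩
      have h6 := h0 (t 0 1 / (1 + t 0 0))
      have e1 : (1 - (t 0 1 / (1 + t 0 0)) ^ 2) / (1 + (t 0 1 / (1 + t 0 0)) ^ 2) = t 0 0 := by
        rw [div_eq_iff h6]; field_simp; grind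
      have e2 : 2 * (t 0 1 / (1 + t 0 0)) / (1 + (t 0 1 / (1 + t 0 0)) ^ 2) = t 0 1 := by
        rw [div_eq_iff h6]; field_simp; grind
      apply sl_ext
      · exact e1
      · exact e2
      · exact (congrArg Neg.neg e2).trans h2.symm
      · exact e1.trans h1.symm

namespace Model

variable {G : Type*} [Group G] {ψ : K →+* K} (M : Model G ψ)

theorem det_ρ [Finite K] (g : G) : (M.ρ g).det = 1 := by
  have hx : ∀ a b c, (M.ρ (M.x a b c)).det = 1 := by
    intro a b c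
    rw [ρ_x, Matrix.det_of_isUpperTriangular]
    · simp [xM, Fin.prod_univ_seven]
    · intro i j hij
      fin_cases i <;> fin_cases j <;> first | rfl | exact absurd hij (by decide)
  let L : Subgroup G :=
    { carrier := {g | (M.ρ g).det = 1}
      mul_mem' := fun {a b} ha hb => by
        simp only [Set.mem_ofPred_eq] at ha hb ⊢
        rw [map_mul, Matrix.det_mul, ha, hb, mul_one]
      one_mem' := by simp
      inv_mem' := fun {a} ha => by
        simp only [Set.mem_ofPred_eq] at ha ⊢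
        rw [← mul_one (det _), ← ha, ← Matrix.det_mul, ← map_mul, inv_mul_cancel, map_one, Matrix.det_one, ha] }
  have h : L = ⊤ := by
    apply M.eq_top_of_U_V
    · exact hx
    · intro a b c
      show (M.ρ _).det = 1
      rw [map_mul, map_mul, Matrix.det_mul, Matrix.det_mul, hx, mul_one, ← Matrix.det_mul, ← map_mul, n_mul_n,
        map_one, Matrix.det_one]
  have : g ∈ L := h ▸ Subgroup.mem_top g
  exact this

/-! ### The split torus -/

theorem fix_h {k : Kˣ} (hk : k ≠ 1) (hk' : k ≠ -1) {ω : G ⧸ M.split.B} (h : M.h k • ω = ω) :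
    ω = M.split.inf ∨ ω = M.split.pt 1 := by
  rcases M.split.eq_inf_or ω with h1 | ⟨_, ⟨a, b, c, rfl⟩, rfl⟩
  · exact Or.inl h1
  · right
    rw [M.split.H_smul_pt (M.h_mem_H k)] at h
    have h4 := M.split.pt_inj (M.split.conj_U _ (M.h_mem_H k) _ (M.x_mem_U ..)) (M.x_mem_U ..) h
    by_cases hx : M.x a b c = 1
    · rw [hx]
    · rcases M.eq_pm_of_fix hx h4 with h | h <;> contradiction

theorem conj_h_mem {k : Kˣ} (hk : k ≠ 1) (hk' : k ≠ -1) {y : G} (hy : y⁻¹ * M.h k * y ∈ M.H) :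
    y ∈ M.H ∨ y * M.n ∈ M.H := by
  have h1 : M.h k • (y • M.split.inf) = y • M.split.inf := by
    rw [smul_smul, show M.h k * y = y * (y⁻¹ * M.h k * y) by group, mul_smul,
      (M.split.smul_inf_iff _).2 (M.split.H_le_B hy)]
  have h2 : M.h k • (y • M.split.pt 1) = y • M.split.pt 1 := by
    rw [smul_smul, show M.h k * y = y * (y⁻¹ * M.h k * y) by group, mul_smul, M.split.H_smul_pt_one hy]
  have hne : M.split.pt 1 ≠ M.split.inf := M.split.pt_ne_inf (Subgroup.one_mem _)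
  rcases M.fix_h hk hk' h1 with h1 | h1 <;> rcases M.fix_h hk hk' h2 with h2 | h2
  · exact absurd (smul_left_cancel y (h2.trans h1.symm)) hne
  · exact Or.inl (M.split.stab_two h1 h2)
  · right
    apply M.split.stab_two
    · rw [mul_smul, ← M.split_n, M.split.n_smul_inf, h2]
    · rw [mul_smul, ← M.split_n, M.split.n_smul_pt_one, h1]
  · exact absurd (smul_left_cancel y (h2.trans h1.symm)) hne

theorem centralizer_h {k : Kˣ} (hk : k ≠ 1) (hk' : k ≠ -1) : Subgroup.centralizer {M.h k} = M.H := by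
  ext y
  rw [Subgroup.mem_centralizer_singleton_iff]
  constructor
  · intro h
    rcases M.conj_h_mem hk hk' (y := y) (by rw [mul_assoc, ← h]; simpa using M.h_mem_H k) with h1 | h1
    · exact h1
    · exfalso
      obtain ⟨l, hl⟩ := M.mem_H.1 h1
      have hy : y = M.h l * M.n := by rw [← hl, mul_assoc, n_mul_n, mul_one]
      rw [hy, mul_assoc, n_h, ← mul_assoc, ← mul_assoc, h_mul, h_mul] at h
      have h2 := M.h_inj (mul_right_cancel h)
      rw [mul_comm k, mul_right_inj, inv_eq_iff_mul_eq_one] at h2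
      rcases mul_self_eq_one_iff.1 (show (k : K) * k = 1 by rw [← Units.val_mul, h2]; rfl) with h | h
      · exact hk (Units.ext h)
      · exact hk' (Units.ext h)
  · intro h
    obtain ⟨l, rfl⟩ := M.mem_H.1 h
    exact M.h_comm _ _

theorem card_normalizer_H (hK : ∃ k : Kˣ, k ≠ 1 ∧ k ≠ -1) :
    Nat.card (Subgroup.normalizer (M.H : Set G)) = 2 * (Nat.card K - 1) := by
  obtain ⟨k, hk, hk'⟩ := hK
  rw [← M.card_H]
  refine card_eq_two_mul Subgroup.le_normalizer (w := M.n) ?_ (fun h => M.split.n_notMem (M.split.H_le_B h)) ?_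
  · rw [Subgroup.mem_normalizer_iff]
    intro y
    constructor
    · exact M.split.n_conj'
    · intro h
      simpa [mul_assoc, split_n, split_H] using M.split.n_conj _ h
  · intro y hy
    exact M.conj_h_mem hk hk' ((Subgroup.mem_normalizer_iff''.1 hy _).1 (M.h_mem_H k))

theorem isCyclic_H [Finite K] : IsCyclic M.H := isCyclic_of_surjective _ M.hEquiv.surjective

theorem conj_xh [Finite K] {k : Kˣ} (hk : k ≠ 1) (hk' : k ≠ -1) {u : G} (hu : u ∈ M.U) :
    ∃ v, u * M.h k = v * M.h k * v⁻¹ := by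
  have := M.finite
  let f : M.U → M.U := fun v => ⟨v * (M.h k * (v : G)⁻¹ * (M.h k)⁻¹),
    M.U.mul_mem v.2 (M.split.conj_U _ (M.h_mem_H k) _ (M.U.inv_mem v.2))⟩
  have hf : Function.Injective f := by
    intro v v' e
    have e' : (v : G) * (M.h k * (v : G)⁻¹ * (M.h k)⁻¹) = v' * (M.h k * (v' : G)⁻¹ * (M.h k)⁻¹) :=
      congrArg Subtype.val e
    obtain ⟨a, b, c, h⟩ := M.U.mul_mem (M.U.inv_mem v'.2) v.2
    by_contra hne
    have h1 : M.x a b c ≠ 1 := by
      rw [← h, Ne, inv_mul_eq_one]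
      exact fun h => hne (Subtype.ext h.symm)
    have h2 : M.h k * M.x a b c * (M.h k)⁻¹ = M.x a b c := by
      rw [← h]
      calc M.h k * ((v' : G)⁻¹ * v) * (M.h k)⁻¹ =
          (v' : G)⁻¹ * (v' * (M.h k * (v' : G)⁻¹ * (M.h k)⁻¹)) * (M.h k * v * (M.h k)⁻¹) := by group
        _ = _ := by rw [← e']; group
    rcases M.eq_pm_of_fix h1 h2 with h | h <;> contradiction
  obtain ⟨v, hv⟩ := Finite.surjective_of_injective hf ⟨u, hu⟩
  have hv' : (v : G) * (M.h k * (v : G)⁻¹ * (M.h k)⁻¹) = u := congrArg Subtype.val hv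
  exact ⟨v, by rw [← hv']; group⟩

theorem order_B [Finite K] {g : G} (hg : g ∈ M.B) : g ^ 6 = 1 ∨ g ^ 9 = 1 ∨ g ^ (Nat.card K - 1) = 1 := by
  obtain ⟨a, b, c, k, rfl, -⟩ := M.exists_xh g hg
  by_cases hk : k = 1
  · right; left
    rw [hk, h_one, mul_one, x_pow_nine]
  by_cases hk' : k = -1
  · left
    have : (M.x a b c * M.h k) ^ 2 = M.x a b c * (M.a * M.x a b c * M.a⁻¹) := by
      rw [hk', a_inv, sq]; simp only [mul_assoc]; rfl
    rw [show 6 = 2 * 3 from rfl, pow_mul, this, a_x, x_mul, x_cube_eq_one, add_neg_cancel]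
  · right; right
    obtain ⟨v, hv⟩ := M.conj_xh hk hk' (M.x_mem_U a b c)
    rw [hv, conj_pow, h_pow, ← Nat.card_units, pow_card_eq_one', h_one]
    simp

/-! ### The non-split torus in the involution centraliser -/

theorem commute_a_of_commute {t : SL(2, K)} (ht : t ∈ T0) (h0 : t 0 0 * t 0 1 ≠ 0) {z : G}
    (hz : z * M.φ t = M.φ t * z) : z * M.a = M.a * z := by
  obtain ⟨h1, h2⟩ := mem_T0.1 ht
  have hd := T0_det ht
  obtain ⟨i, hi⟩ := IsAlgClosed.exists_eq_mul_self (-1 : AlgebraicClosure K)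
  replace hi := hi.symm
  set f := algebraMap K (AlgebraicClosure K) with hf
  set x := t 0 0 with hx
  set y := t 0 1 with hy
  have hd' : f x ^ 2 + f y ^ 2 = 1 := by rw [← map_pow, ← map_pow, ← map_add, hd, map_one]
  have hd'' : f (ψ x) ^ 2 + f (ψ y) ^ 2 = 1 := by
    simpa using congrArg (fun u => f (ψ u)) hd
  have hcube : x ^ 3 = x → y ^ 3 = y → False := by
    intro e1 e2
    have : x * y = 0 := by
      have e3 : x * (x ^ 2 - 1) = 0 := by linear_combination e1
      have e4 : y * (y ^ 2 - 1) = 0 := by linear_combination e2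
      rw [mul_eq_zero] at e3 e4 ⊢
      grind
    exact h0 this
  have hind := fun {u v : K} => indep M.not_isSquare_neg_one hi (u := u) (v := v)
  let ρ' : G →* Matrix (Fin 7) (Fin 7) (AlgebraicClosure K) := f.mapMatrix.toMonoidHom.comp M.ρ
  have hρ' : Function.Injective ρ' := (Matrix.map_injective f.injective).comp M.inj
  let P : Matrix (Fin 7) (Fin 7) (AlgebraicClosure K) := phiM 1 1 i (-i) 1 1 i (-i)
  let P' : Matrix (Fin 7) (Fin 7) (AlgebraicClosure K) := phiM (-1) i (-1) (-i) (-1) i (-1) (-i)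
  have hPP : P * P' = 1 := by
    rw [phiM_mul, ← phiM_one]
    apply phiM_congr <;> grind
  have hPP' : P' * P = 1 := mul_eq_one_comm.1 hPP
  have ha : ρ' M.a = hM (-1) (-1) (-1) (-1) := by
    show (M.ρ M.a).map f = _
    rw [ρ_a, hM_map]; simp
  have hD : ρ' (M.φ t) * P = P * phiM (f x + i * f y) 0 0 (f x - i * f y) (f (ψ x) + i * f (ψ y)) 0 0
      (f (ψ x) - i * f (ψ y)) := by
    show (M.ρ (M.φ t)).map f * _ = _
    rw [ρ_φ, phiM_map, phiM_mul, phiM_mul, h1, h2]
    simp only [map_neg, ← hx, ← hy]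
    apply phiM_congr <;> grind
  have key := commute_a_of_commute_diag (ν := f x + i * f y) (ν' := f x - i * f y) (μ := f (ψ x) + i * f (ψ y))
    (μ' := f (ψ x) - i * f (ψ y)) (by grind) (by grind) ?_ ?_ ?_ ?_ (Y := P' * ρ' z * P) (by
      calc P' * ρ' z * P * _ = P' * ρ' z * (ρ' (M.φ t) * P) := by rw [hD, Matrix.mul_assoc]
        _ = P' * (ρ' (M.φ t) * (P * P') * ρ' z) * P := by
          rw [hPP, Matrix.mul_one, ← map_mul, ← hz, map_mul]; simp only [Matrix.mul_assoc]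
        _ = P' * (ρ' (M.φ t) * P) * (P' * ρ' z * P) := by simp only [Matrix.mul_assoc]
        _ = _ := by rw [hD, ← Matrix.mul_assoc P', hPP', Matrix.one_mul])
  · apply hρ'
    rw [map_mul, map_mul, ha]
    calc ρ' z * hM (-1) (-1) (-1) (-1) = (P * P') * ρ' z * hM (-1) (-1) (-1) (-1) * (P * P') := by
          rw [hPP]; simp
      _ = P * (P' * ρ' z * (hM (-1) (-1) (-1) (-1) * P)) * P' := by simp only [Matrix.mul_assoc]
      _ = P * (P' * ρ' z * P * hM (-1) (-1) (-1) (-1)) * P' := by rw [a_phiM]; simp only [Matrix.mul_assoc, P]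
      _ = (P * hM (-1) (-1) (-1) (-1)) * P' * ρ' z * (P * P') := by rw [key]; simp only [Matrix.mul_assoc]
      _ = _ := by rw [← a_phiM, Matrix.mul_assoc _ _ P', hPP]; simp
  · intro h
    obtain ⟨e1, e2⟩ := hind (u := ψ x - x) (v := ψ y - y) (by rw [map_sub, map_sub]; linear_combination h)
    rw [sub_eq_zero] at e1 e2
    exact hcube (by rw [← M.hψ, e1, e1]) (by rw [← M.hψ, e2, e2])
  · intro h
    obtain ⟨e1, e2⟩ := hind (u := ψ x - x) (v := ψ y + y) (by rw [map_sub, map_add]; linear_combination h)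
    rw [sub_eq_zero] at e1
    rw [add_eq_zero_iff_eq_neg] at e2
    exact hcube (by rw [← M.hψ, e1, e1]) (by rw [← M.hψ, e2, map_neg, e2, neg_neg])
  · intro h
    obtain ⟨e1, e2⟩ := hind (u := ψ x - x ^ 3) (v := ψ y + y ^ 3) (by
      rw [map_sub, map_add, map_pow, map_pow]; grind)
    rw [sub_eq_zero, ← M.hψ] at e1
    rw [add_eq_zero_iff_eq_neg, ← M.hψ, ← map_neg] at e2
    have e3 := ψ.injective e1
    have e4 := ψ.injective e2
    have e5 : ψ y = -y := by rw [← neg_eq_iff_eq_neg, ← e4]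
    exact hcube (by rw [← M.hψ, ← e3, ← e3]) (by rw [← M.hψ, e5, map_neg, e5, neg_neg])
  · intro h
    obtain ⟨e1, e2⟩ := hind (u := ψ x - x ^ 3) (v := ψ y - y ^ 3) (by
      rw [map_sub, map_sub, map_pow, map_pow]; grind)
    rw [sub_eq_zero, ← M.hψ] at e1 e2
    have e3 := ψ.injective e1
    have e4 := ψ.injective e2
    exact hcube (by rw [← M.hψ, ← e3, ← e3]) (by rw [← M.hψ, ← e4, ← e4])

/-- the torus of order `q + 1` -/
def T : Subgroup G where
  carrier := {z | ∃ t ∈ T0, z = M.φ t ∨ z = M.a * M.φ t}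
  mul_mem' := by
    rintro _ _ ⟨t, ht, rfl | rfl⟩ ⟨t', ht', rfl | rfl⟩ <;> refine ⟨t * t', T0.mul_mem ht ht', ?_⟩
    · left; rw [map_mul]
    · right; rw [map_mul, ← mul_assoc, ← a_φ, mul_assoc]
    · right; rw [map_mul, mul_assoc]
    · left; rw [map_mul, mul_assoc, ← mul_assoc (M.φ t), ← a_φ, mul_assoc, ← mul_assoc, a_mul_a, one_mul]
  one_mem' := ⟨1, T0.one_mem, Or.inl (map_one _).symm⟩
  inv_mem' := by
    rintro _ ⟨t, ht, rfl | rfl⟩ <;> refine ⟨t⁻¹, T0.inv_mem ht, ?_⟩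
    · left; rw [map_inv]
    · right; rw [_root_.mul_inv_rev, a_inv, a_φ, map_inv]

theorem φ_mem_T {t : SL(2, K)} (ht : t ∈ T0) : M.φ t ∈ M.T := ⟨t, ht, Or.inl rfl⟩

theorem a_mem_T : M.a ∈ M.T := ⟨1, T0.one_mem, Or.inr (by simp)⟩

theorem n_mem_T : M.n ∈ M.T := M.φ_w0 ▸ M.φ_mem_T w0_mem_T0

theorem T_comm {z z' : G} (hz : z ∈ M.T) (hz' : z' ∈ M.T) : z * z' = z' * z := by
  obtain ⟨t, ht, h⟩ := hz
  obtain ⟨t', ht', h'⟩ := hz'
  have h1 : Commute (M.φ t) (M.φ t') := by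
    show _ = _
    rw [← map_mul, T0_comm ht ht', map_mul]
  have h2 : ∀ g, Commute M.a (M.φ g) := M.a_φ
  rcases h with rfl | rfl <;> rcases h' with rfl | rfl
  · exact h1
  · exact (h2 t).symm.mul_right h1
  · exact (h2 t').mul_left h1
  · exact ((Commute.refl _).mul_right (h2 t')).mul_left ((h2 t).symm.mul_right h1)

theorem T_sq {z : G} (hz : z ∈ M.T) : ∃ t ∈ T0, z * z = M.φ (t * t) := by
  obtain ⟨t, ht, rfl | rfl⟩ := hz
  · exact ⟨t, ht, (map_mul _ _ _).symm⟩
  · refine ⟨t, ht, ?_⟩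
    rw [map_mul, mul_assoc, ← mul_assoc (M.φ t), ← a_φ, mul_assoc, ← mul_assoc, a_mul_a, one_mul]

theorem mem_T_of_commute [Finite K] {t : SL(2, K)} (ht : t ∈ T0) (h0 : t 0 0 * t 0 1 ≠ 0) {z : G}
    (hz : z * M.φ t = M.φ t * z) : z ∈ M.T := by
  obtain ⟨h1, h2⟩ := mem_T0.1 ht
  have key : ∀ g, M.φ g * M.φ t = M.φ t * M.φ g → g ∈ T0 := by
    intro g h
    rw [← map_mul, ← map_mul, φ_eq_iff] at h
    have hd := sl_det g
    rw [mul_ne_zero_iff] at h0
    rcases h with h | h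
    · have e1 := congrArg (fun g : SL(2, K) => g 0 0) h
      have e2 := congrArg (fun g : SL(2, K) => g 0 1) h
      simp only [sl_mul, h1, h2] at e1 e2
      exact mem_T0.2 ⟨mul_left_cancel₀ h0.2 (by linear_combination -e2),
        mul_left_cancel₀ h0.2 (by linear_combination -e1)⟩
    · exfalso
      have e1 := congrArg (fun g : SL(2, K) => g 0 0) h
      have e2 := congrArg (fun g : SL(2, K) => g 0 1) h
      have e3 := congrArg (fun g : SL(2, K) => g 1 0) h
      have e4 := congrArg (fun g : SL(2, K) => g 1 1) h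
      simp only [sl_neg, sl_mul, h1, h2] at e1 e2 e3 e4
      have h3 := T0_det ht
      apply h0.1
      grind
  obtain ⟨g, rfl | rfl⟩ := M.commute_a_iff.1 (M.commute_a_of_commute ht h0 hz)
  · exact M.φ_mem_T (key g hz)
  · refine M.T.mul_mem M.a_mem_T (M.φ_mem_T (key g ?_))
    rw [← mul_assoc, ← a_φ, mul_assoc, mul_assoc] at hz
    exact mul_left_cancel hz

theorem centralizer_T [Finite K] (hq : Nat.card K % 8 = 3) {z : G} (hz : z ∈ M.T) (hz2 : z * z ≠ 1) :
    Subgroup.centralizer {z} = M.T := by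
  ext y
  rw [Subgroup.mem_centralizer_singleton_iff]
  refine ⟨fun h => ?_, fun h => M.T_comm h hz⟩
  obtain ⟨t, ht, e⟩ := M.T_sq hz
  refine M.mem_T_of_commute (T0.mul_mem ht ht) (fun h0 => ?_) (e ▸ (Commute.mul_right h h))
  rcases T0_cases (T0.mul_mem ht ht) h0 with h1 | h1
  · exact hz2 (by rw [e, M.φ_eq_one.2 h1])
  · apply hz2
    apply M.sq_eq_one_of_four hq
    rw [show 4 = 2 * 2 from rfl, pow_mul, sq, sq, e, M.φ_eq_iff.2 h1, φ_w0, n_mul_n]

theorem T_inv_cases {z : G} (hz : z ∈ M.T) [Finite K] (hz2 : z * z = 1) :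
    z = 1 ∨ z = M.n ∨ z = M.a ∨ z = M.a * M.n := by
  have key : ∀ t ∈ T0, M.φ (t * t) = 1 → M.φ t = 1 ∨ M.φ t = M.n := by
    intro t ht h
    have : t 0 0 * t 0 1 = 0 := by
      obtain ⟨h1, h2⟩ := mem_T0.1 ht
      rcases M.φ_eq_one.1 h with h | h
      all_goals
        have e := congrArg (fun g : SL(2, K) => g 0 1) h
        simp only [sl_mul, h1, sl_neg] at e
        simp at e
        grind
    rcases T0_cases ht this with h1 | h1
    · exact Or.inl (M.φ_eq_one.2 h1)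
    · exact Or.inr (by rw [M.φ_eq_iff.2 h1, φ_w0])
  obtain ⟨t, ht, rfl | rfl⟩ := hz
  · rcases key t ht (by rw [map_mul, hz2]) with h | h <;> simp [h]
  · rw [mul_assoc, ← mul_assoc (M.φ t), ← a_φ, mul_assoc, ← mul_assoc, a_mul_a, one_mul] at hz2
    rcases key t ht (by rw [map_mul, hz2]) with h | h <;> simp [h]

theorem exists_gen [Finite K] : ∃ γ ∈ M.T, 2 * orderOf γ = Nat.card K + 1 ∧ M.a ∉ Subgroup.zpowers γ ∧
    ∀ z ∈ M.T, z ∈ Subgroup.zpowers γ ∨ z * M.a ∈ Subgroup.zpowers γ := by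
  obtain ⟨⟨g, hg⟩, hgen⟩ := (isCyclic_T0 M.not_isSquare_neg_one).exists_generator
  have h1 : ∀ t ∈ T0, M.φ t ∈ Subgroup.zpowers (M.φ g) := by
    intro t ht
    obtain ⟨j, hj⟩ := hgen ⟨t, ht⟩
    exact ⟨j, by rw [← show g ^ j = t from congrArg Subtype.val hj, map_zpow]⟩
  have ho : orderOf g = Nat.card K + 1 := by
    rw [← card_T0 M.not_isSquare_neg_one, ← orderOf_eq_card_of_forall_mem_zpowers hgen]
    exact Subgroup.orderOf_coe (⟨g, hg⟩ : T0)
  refine ⟨M.φ g, M.φ_mem_T hg, ?_, ?_, ?_⟩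
  · rw [← ho]
    apply Nat.dvd_antisymm
    · obtain ⟨j, hj⟩ := mem_powers_iff_mem_zpowers.2 (hgen ⟨-1, T0_neg T0.one_mem⟩)
      have hj' : g ^ j = -1 := congrArg Subtype.val hj
      have h2 : 2 ∣ orderOf g := by
        have : orderOf (g ^ j) = 2 := by
          rw [hj']
          apply orderOf_eq_prime
          · simp
          · intro h
            have := congrArg (fun g : SL(2, K) => g 0 0) h
            simp at this
            grind
        exact (dvd_of_eq this.symm).trans (orderOf_pow_dvd j)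
      obtain ⟨c, hc⟩ := h2
      rw [hc]
      apply Nat.mul_dvd_mul_left
      rw [orderOf_dvd_iff_pow_eq_one, ← map_pow, φ_eq_one]
      apply T0_sq (T0.pow_mem hg c)
      rw [← pow_add, ← two_mul, ← hc, pow_orderOf_eq_one]
    · rw [orderOf_dvd_iff_pow_eq_one, pow_mul']
      have := pow_orderOf_eq_one (M.φ g)
      rw [← map_pow, φ_eq_one] at this
      rcases this with h | h <;> simp [h]
  · rintro ⟨j, hj⟩
    exact M.φ_ne_a (g ^ j) (by rw [map_zpow]; exact hj)
  · rintro _ ⟨t, ht, rfl | rfl⟩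
    · exact Or.inl (h1 t ht)
    · right
      rw [a_φ, mul_assoc, a_mul_a, mul_one]
      exact h1 t ht

theorem card_T [Finite K] : Nat.card M.T = Nat.card K + 1 := by
  obtain ⟨γ, h1, h2, h3, h4⟩ := M.exists_gen
  rw [card_eq_two_mul ((Subgroup.zpowers_le).2 h1) M.a_mem_T h3 h4, Nat.card_zpowers, h2]

theorem T_pow [Finite K] (hq : Nat.card K % 8 = 3) {z : G} (hz : z ∈ M.T) : z ^ ((Nat.card K + 1) / 2) = 1 := by
  obtain ⟨γ, h1, h2, h3, h4⟩ := M.exists_gen
  have e : (Nat.card K + 1) / 2 = orderOf γ := by omega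
  have key : ∀ z ∈ Subgroup.zpowers γ, z ^ orderOf γ = 1 := by
    rintro _ ⟨j, rfl⟩
    rw [← zpow_natCast, ← _root_.zpow_mul, mul_comm, _root_.zpow_mul, zpow_natCast, pow_orderOf_eq_one,
      _root_.one_zpow]
  rw [e]
  rcases h4 z hz with h | h
  · exact key z h
  · have := key _ h
    rw [Commute.mul_pow (M.T_comm hz M.a_mem_T), show orderOf γ = 2 * ((Nat.card K + 1) / 4) by omega, pow_mul M.a,
      sq, a_mul_a, one_pow, mul_one] at this
    rw [show orderOf γ = 2 * ((Nat.card K + 1) / 4) by omega, this]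

theorem w_notMem_T : M.w ∉ M.T := by
  rintro ⟨t, ht, h | h⟩
  · obtain ⟨h1, h2⟩ := mem_T0.1 ht
    rcases M.φ_eq_iff.1 h with h | h
    all_goals
      have e1 := congrArg (fun g : SL(2, K) => g 0 0) h
      have e2 := congrArg (fun g : SL(2, K) => g 1 1) h
      simp only [sl_neg, h1] at e1 e2
      simp [w1] at e1 e2
      grind
  · exact M.φ_ne_a_mul _ _ h

theorem T_w {z : G} (hz : z ∈ M.T) : z * M.w * z = M.w := by
  obtain ⟨t, ht, rfl | rfl⟩ := hz
  · rw [w, ← map_mul, ← map_mul, w1_T0 ht]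
  · rw [w, mul_assoc M.a, ← map_mul, a_φ, mul_assoc, ← mul_assoc M.a, a_mul_a, one_mul, ← map_mul, w1_T0 ht]

theorem commute_an_cases [Finite K] {y : G} (ha : y * M.a = M.a * y) (hn : y * M.n = M.n * y) :
    y ∈ M.T ∨ y * M.w ∈ M.T := by
  have key : ∀ g, M.φ g * M.n = M.n * M.φ g → M.φ g ∈ M.T ∨ M.φ g * M.w ∈ M.T := by
    intro g h
    rw [← φ_w0, ← map_mul, ← map_mul, φ_eq_iff] at h
    rcases h with h | h
    · exact Or.inl (M.φ_mem_T (Subgroup.mem_centralizer_singleton_iff.2 h))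
    · right
      rw [w, ← map_mul]
      apply M.φ_mem_T
      have e1 := congrArg (fun g : SL(2, K) => g 0 0) h
      have e2 := congrArg (fun g : SL(2, K) => g 0 1) h
      simp only [sl_neg, sl_mul] at e1 e2
      simp [w0] at e1 e2
      rw [mem_T0]
      simp only [sl_mul]
      simp [w1]
      grind
  obtain ⟨g, rfl | rfl⟩ := M.commute_a_iff.1 ha
  · exact key g hn
  · rw [← mul_assoc M.n, n_a, mul_assoc, mul_assoc] at hn
    rcases key g (mul_left_cancel hn) with h | h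
    · exact Or.inl (M.T.mul_mem M.a_mem_T h)
    · exact Or.inr (by rw [mul_assoc]; exact M.T.mul_mem M.a_mem_T h)

theorem exists_T_sq_ne [Finite K] (hq : 8 ≤ Nat.card K) : ∃ z ∈ M.T, z * z ≠ 1 := by
  obtain ⟨γ, h1, h2, -⟩ := M.exists_gen
  refine ⟨γ, h1, fun h => ?_⟩
  have := Nat.le_of_dvd two_pos (orderOf_dvd_of_pow_eq_one (by rw [sq, h] : γ ^ 2 = 1))
  omega

theorem mem_normalizer_T [Finite K] (hq : Nat.card K % 8 = 3) (hq' : 8 ≤ Nat.card K) {y : G}
    (ha : ∀ z ∈ M.T, z * (y⁻¹ * M.a * y) = y⁻¹ * M.a * y * z)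
    (hn : ∀ z ∈ M.T, z * (y⁻¹ * M.n * y) = y⁻¹ * M.n * y * z) : y ∈ Subgroup.normalizer (M.T : Set G) := by
  obtain ⟨z, hz, hz2⟩ := M.exists_T_sq_ne hq'
  have h2 : y * z * y⁻¹ * (y * z * y⁻¹) ≠ 1 := by
    intro h
    apply hz2
    calc z * z = y⁻¹ * (y * z * y⁻¹ * (y * z * y⁻¹)) * y := by group
      _ = 1 := by rw [h]; group
  have hc : ∀ s, z * (y⁻¹ * s * y) = y⁻¹ * s * y * z → y * z * y⁻¹ * s = s * (y * z * y⁻¹) := by
    intro s h
    calc y * z * y⁻¹ * s = y * (z * (y⁻¹ * s * y)) * y⁻¹ := by group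
      _ = _ := by rw [h]; group
  refine mem_normalizer_of_centralizer (M.centralizer_T hq hz hz2) (M.centralizer_T hq ?_ h2)
  rcases M.commute_an_cases (hc _ (ha z hz)) (hc _ (hn z hz)) with h | h
  · exact h
  · exfalso
    apply h2
    have := M.T_w h
    rw [mul_assoc _ M.w M.w, w_mul_w, mul_one, ← mul_assoc] at this
    exact mul_right_cancel (this.trans (one_mul _).symm)

theorem card_normalizer_T [Finite K] (hq : Nat.card K % 8 = 3) (hq' : 8 ≤ Nat.card K) :
    Nat.card (Subgroup.normalizer (M.T : Set G)) = 6 * (Nat.card K + 1) := by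
  have := M.finite
  set N := Subgroup.normalizer (M.T : Set G) with hN
  have hconj : ∀ g ∈ N, ∀ y ∈ M.T, g * y * g⁻¹ ∈ M.T := fun g hg y hy => (Subgroup.mem_normalizer_iff.1 hg y).1 hy
  have n1 : M.n ≠ 1 := M.seven_ne_one (by simp)
  have an1 : M.a * M.n ≠ 1 := M.seven_ne_one (by simp)
  have hσ : M.σ ∈ N := by
    rw [← inv_mem_iff]
    apply M.mem_normalizer_T hq hq'
    · intro z hz
      rw [inv_inv, σ_a]
      exact M.T_comm hz M.n_mem_T
    · intro z hz
      rw [inv_inv, σ_n]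
      exact M.T_comm hz (M.T.mul_mem M.a_mem_T M.n_mem_T)
  have hinv : ∀ g s : G, s * s = 1 → g * s * g⁻¹ * (g * s * g⁻¹) = 1 := by
    intro g s h
    calc g * s * g⁻¹ * (g * s * g⁻¹) = g * (s * s) * g⁻¹ := by group
      _ = 1 := by rw [h]; group
  have h1 : {t | ∃ g ∈ N, g * M.a * g⁻¹ = t} = {M.n, M.a, M.a * M.n} := by
    ext t
    constructor
    · rintro ⟨g, hg, rfl⟩
      rcases M.T_inv_cases (hconj g hg _ M.a_mem_T) (hinv g _ M.a_mul_a) with h | h
      · exact absurd (by simpa using h) M.a_ne_one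
      · exact h
    · rintro (rfl | rfl | rfl)
      · exact ⟨M.σ, hσ, M.σ_a⟩
      · exact ⟨1, one_mem _, by simp⟩
      · exact ⟨M.σ * M.σ, mul_mem hσ hσ, by
          rw [show M.σ * M.σ * M.a * (M.σ * M.σ)⁻¹ = M.σ * (M.σ * M.a * M.σ⁻¹) * M.σ⁻¹ by group, σ_a, σ_n]⟩
  have h1' : Set.ncard ({M.n, M.a, M.a * M.n} : Set G) = 3 := by
    rw [Set.ncard_eq_three]
    exact ⟨_, _, _, fun h => M.φ_ne_a w0 (by rw [φ_w0, h]), by simpa using M.a_ne_one, by simpa using n1, rfl⟩
  have h2 : {t | ∃ g ∈ N ⊓ Subgroup.centralizer {M.a}, g * M.n * g⁻¹ = t} = {M.n} := by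
    ext t
    constructor
    · rintro ⟨g, ⟨hg, hg'⟩, rfl⟩
      obtain ⟨g', e⟩ := M.conj_φ_of_commute (Subgroup.mem_centralizer_singleton_iff.1 hg') w0
      rw [φ_w0] at e
      rcases M.T_inv_cases (hconj g hg _ M.n_mem_T) (hinv g _ M.n_mul_n) with h | h | h | h
      · exact absurd (by simpa using h) n1
      · exact h
      · exact absurd (e ▸ h) (M.φ_ne_a g')
      · rw [e, ← φ_w0] at h
        exact absurd h (M.φ_ne_a_mul _ _)
    · rintro rfl
      exact ⟨1, one_mem _, by simp⟩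
  have h3 : Nat.card ↥(N ⊓ Subgroup.centralizer {M.a} ⊓ Subgroup.centralizer {M.n}) = 2 * Nat.card M.T := by
    refine card_eq_two_mul (w := M.w) ?_ ?_ M.w_notMem_T ?_
    · intro z hz
      exact ⟨⟨Subgroup.le_normalizer hz, Subgroup.mem_centralizer_singleton_iff.2 (M.T_comm hz M.a_mem_T)⟩,
        Subgroup.mem_centralizer_singleton_iff.2 (M.T_comm hz M.n_mem_T)⟩
    · refine ⟨⟨?_, Subgroup.mem_centralizer_singleton_iff.2 M.a_w.symm⟩,
        Subgroup.mem_centralizer_singleton_iff.2 M.n_w.symm⟩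
      apply M.mem_normalizer_T hq hq'
      · intro z hz
        rw [mul_assoc M.w⁻¹, a_w, inv_mul_cancel_left]
        exact M.T_comm hz M.a_mem_T
      · intro z hz
        rw [mul_assoc M.w⁻¹, n_w, inv_mul_cancel_left]
        exact M.T_comm hz M.n_mem_T
    · rintro y ⟨⟨-, h1⟩, h2⟩
      exact M.commute_an_cases (Subgroup.mem_centralizer_singleton_iff.1 h1)
        (Subgroup.mem_centralizer_singleton_iff.1 h2)
  rw [card_conj_orbit N M.a, h1, h1', card_conj_orbit _ M.n, h2, h3, card_T, Set.ncard_singleton]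
  ring

end Model

end Cfsg.Agent.H6.Ree
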