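import Cfsg.Agent.Chv.Bruhat

/-!
The torus lemma for root subgroup systems in characteristic two: `p`-subgroups are conjugate into the torus;
fusion in the torus is controlled by the Weyl group.
-/

set_option autoImplicit false
set_option linter.unusedSectionVars false

namespace Cfsg.Agent.H6.TorS

open Matrix Polynomial Cfsg.Agent.Chv Cfsg.Agent.Chv.Sys

theorem conj_into {Γ : Type*} [Group Γ] [Finite Γ] {p : ℕ} [Fact p.Prime] {C P : Subgroup Γ} (hPC : P ≤ C)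
    (hP : IsPGroup p P) (h : ∀ x ∈ C, ∀ k, x ^ p ^ k = 1 →
      (∀ t ∈ P, x * t * x⁻¹ ∈ P ∧ x⁻¹ * t * x ∈ P) → x ∈ P) {Q : Subgroup Γ} (hQC : Q ≤ C) (hQ : IsPGroup p Q) :
    ∃ c ∈ C, ∀ y ∈ Q, c * y * c⁻¹ ∈ P := by
  obtain ⟨S, hS⟩ := (hP.comap_subtype (K := C)).exists_le_sylow
  have hS' : (S : Subgroup C) ≤ P.comap C.subtype := by
    have := S.isPGroup'.isNilpotent
    by_contra hne
    have h1 : (P.comap C.subtype).subgroupOf S < ⊤ := lt_top_iff_ne_top.2 fun e =>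
      hne (Subgroup.subgroupOf_eq_top.1 e)
    obtain ⟨x, hx, hx'⟩ := SetLike.exists_of_lt (Group.normalizerCondition_of_isNilpotent _ h1)
    obtain ⟨j, hj⟩ := S.isPGroup' x
    refine hx' (h x.1.1 x.1.2 j (congrArg (fun z : S => z.1.1) hj) fun t ht => ?_)
    exact ⟨(Subgroup.mem_normalizer_iff.1 hx ⟨⟨t, hPC ht⟩, hS ht⟩).1 ht,
      (Subgroup.mem_normalizer_iff''.1 hx ⟨⟨t, hPC ht⟩, hS ht⟩).1 ht⟩
  obtain ⟨S', hS2⟩ := (hQ.comap_subtype (K := C)).exists_le_sylow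
  obtain ⟨c, hc⟩ := MulAction.exists_smul_eq C S' S
  refine ⟨c, c.2, fun y hy => hS' (x := c * ⟨y, hQC hy⟩ * c⁻¹) ?_⟩
  rw [← hc, Sylow.coe_subgroup_smul]
  exact Subgroup.smul_mem_pointwise_smul _ _ _ (hS2 hy)

theorem mat_eq_one {l p : ℕ} (hp : p.Prime) {A : Matrix (Fin l) (Fin l) ℚ} {k : ℕ} (h : A ^ p ^ k = 1)
    (hl : l + 1 < p ∨ l < p ∧ ∃ v, v ≠ 0 ∧ A *ᵥ v = v) : A = 1 := by
  have key : ∀ A : Matrix (Fin l) (Fin l) ℚ, (l + 1 < p ∨ l < p ∧ ∃ v, v ≠ 0 ∧ A *ᵥ v = v) → A ^ p = 1 → A = 1 := by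
    intro A hl h
    have := Fact.mk hp
    have hirr := cyclotomic.irreducible_rat hp.pos
    have h1 : IsCoprime (cyclotomic p ℚ) A.charpoly := hirr.coprime_iff_not_dvd.2 fun hd => by
      rcases hl with hl | ⟨hl, v, hv, hA⟩
      · have := natDegree_le_of_dvd hd A.charpoly_monic.ne_zero
        rw [natDegree_cyclotomic, charpoly_natDegree_eq_dim, Nat.totient_prime hp, Fintype.card_fin] at this
        omega
      · have h2 : X - C 1 ∣ A.charpoly := dvd_iff_isRoot.2 (by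
          rw [IsRoot, eval_charpoly]
          exact exists_mulVec_eq_zero_iff.1 ⟨v, hv, by simp [sub_mulVec, hA]⟩)
        have h3 : IsCoprime (X - C 1) (cyclotomic p ℚ) := (irreducible_X_sub_C 1).coprime_iff_not_dvd.2 fun h => by
          have := dvd_iff_isRoot.1 h
          rw [IsRoot, eval_one_cyclotomic_prime] at this
          exact hp.ne_zero (by exact_mod_cast this)
        have := natDegree_le_of_dvd (h3.mul_dvd h2 hd) A.charpoly_monic.ne_zero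
        rw [natDegree_mul (X_sub_C_ne_zero 1) hirr.ne_zero, natDegree_X_sub_C, natDegree_cyclotomic,
          charpoly_natDegree_eq_dim, Nat.totient_prime hp, Fintype.card_fin] at this
        omega
    obtain ⟨a, b, hab⟩ := h1
    have h2 := congrArg (aeval A) (cyclotomic_prime_mul_X_sub_one ℚ p)
    have h3 := congrArg (aeval A) hab
    simp only [map_mul, map_sub, map_add, aeval_X, map_one, map_pow, h, sub_self, aeval_self_charpoly, mul_zero,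
      add_zero] at h2 h3
    have h4 := congrArg (aeval A a * ·) h2
    simpa only [← mul_assoc, h3, one_mul, mul_zero, sub_eq_zero] using h4
  induction k with
  | zero => simpa using h
  | succ k ih =>
    refine ih (key _ (hl.imp_right fun ⟨h1, v, hv, hA⟩ => ⟨h1, v, hv, ?_⟩) (by rwa [← pow_mul, ← pow_succ]))
    induction p ^ k with
    | zero => simp
    | succ m ih' => rw [pow_succ, ← mulVec_mulVec, hA, ih']

/-- a lattice automorphism of `p`-power order in small rank is trivial -/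
theorem lattice_eq_refl {l p : ℕ} (hp : p.Prime) {w : Lam l ≃+ Lam l} {k : ℕ} (h : ∀ v, w^[p ^ k] v = v)
    (hl : l + 1 < p ∨ l < p ∧ ∃ v, v ≠ 0 ∧ w v = v) : w = AddEquiv.refl _ := by
  let W : Module.End ℤ (Lam l) := w.toAddMonoidHom.toIntLinearMap
  let φ : Module.End ℤ (Lam l) →+* Matrix (Fin l) (Fin l) ℚ :=
    (Int.castRingHom ℚ).mapMatrix.comp (LinearMap.toMatrixAlgEquiv' (R := ℤ) (n := Fin l)).toRingEquiv.toRingHom
  have hφ : Function.Injective φ :=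
    (Matrix.map_injective Int.cast_injective).comp (LinearMap.toMatrixAlgEquiv' (R := ℤ) (n := Fin l)).injective
  have h1 : W ^ p ^ k = 1 := LinearMap.ext fun v => (Module.End.pow_apply W _ v).trans (h v)
  have h2 : W = 1 := hφ (by
    rw [map_one]
    refine mat_eq_one hp (k := k) (by rw [← map_pow, h1, map_one]) (hl.imp_right fun ⟨h3, v, hv, e⟩ =>
      ⟨h3, Int.castRingHom ℚ ∘ v, fun h0 => hv (funext fun j => by simpa using congrFun h0 j), funext fun j => ?_⟩)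
    have := RingHom.map_mulVec (Int.castRingHom ℚ) (LinearMap.toMatrix' W) v j
    rw [LinearMap.toMatrix'_mulVec, show W v = v from e] at this
    exact this.symm)
  exact AddEquiv.ext fun v => LinearMap.congr_fun h2 v

variable {l : ℕ} {K : Type*} [Field K] {ι Φ : Type} [Fintype ι] [DecidableEq ι] [Fintype Φ] {R : RD ι Φ l}
  {S : Sys R K}

theorem diag_conj {b : GL ι K} (hb : b ∈ S.B) (χ : Chr l K) (a : ι) :
    ((b * R.h χ * b⁻¹ : GL ι K) : Matrix ι ι K) a a = ev χ (R.wt a) := by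
  obtain ⟨ψ, u, hu, rfl⟩ := mem_B hb
  have h1 : R.h ψ * u * R.h χ * (R.h ψ * u)⁻¹ =
      R.h χ * (R.h ψ * ((R.h χ)⁻¹ * u * (R.h χ)⁻¹⁻¹ * u⁻¹) * (R.h ψ)⁻¹) := by
    have : R.h χ * R.h ψ * (R.h χ)⁻¹ = R.h ψ := by rw [← map_mul, mul_comm χ, map_mul, mul_inv_cancel_right]
    calc _ = R.h χ * R.h ψ * (R.h χ)⁻¹ * u * R.h χ * (R.h ψ * u)⁻¹ := by rw [this]
      _ = _ := by group
  rw [h1]
  exact diag_hu χ (U_le_Q (μ := fun _ => 1) (fun _ => one_pos) (H_conj _ (h_mem ψ) _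
    (mul_mem (H_conj _ (inv_mem (h_mem χ)) _ hu) (inv_mem hu)))) a

/-- fusion in the torus -/
theorem fusion {z : GL ι K} (hz : z ∈ S.Γ) : ∃ n ∈ S.N0, ∃ w π, S.Act n w π ∧
    ∀ χ χ' : Chr l K, z * R.h χ * z⁻¹ = R.h χ' → cmp χ' w.toAddMonoidHom = χ := by
  obtain ⟨b, hb, n, hn, b', hb', rfl⟩ := bruhat hz
  obtain ⟨w, π, h⟩ := exists_act hn
  refine ⟨n, hn, w, π, h, fun χ χ' e => chr_ext fun j => Units.ext ?_⟩
  have h1 : n * (b' * R.h χ * b'⁻¹) * n⁻¹ = b⁻¹ * R.h χ' * b⁻¹⁻¹ := by rw [← e]; group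
  have h2 := h.entry_diag ((b' * R.h χ * b'⁻¹ : GL ι K) : Matrix ι ι K) (R.sim j)
  rw [← Units.val_mul, ← Units.val_mul, h1, diag_conj (inv_mem hb), diag_conj hb', ← RD.rt, h.rt, RD.rt,
    R.rt_sim] at h2
  exact h2

theorem mem_H_of_diag {m : GL ι K} (hm : m ∈ S.Γ) (h : ∀ a b, (m : Matrix ι ι K) a b ≠ 0 → R.wt a = R.wt b) :
    m ∈ S.H := by
  have hρ : ∀ j, 0 < (fun _ => 1 : Fin l → ℝ) j := fun _ => one_pos
  have h0 : R.Lev (m : Matrix ι ι K) (fun _ => 1) 0 := fun a b e => by rw [h a b e, sub_self, pair_zero]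
  obtain ⟨b, hb, n, hn, b', hb', rfl⟩ := bruhat hm
  obtain ⟨w, π, ha⟩ := exists_act hn
  have h1 : n = 1 := ha.eq_one' hn hρ (by
    have := ((B_le_P (fun j => (hρ j).le) hb).2.mul0 h0).mul0 (B_le_P (fun j => (hρ j).le) hb').2
    rwa [← Units.val_mul, ← Units.val_mul, show b⁻¹ * (b * n * b') * b'⁻¹ = n by group] at this)
  subst h1
  obtain ⟨χ, u, hu, e⟩ := mem_B (mul_mem (mul_mem hb (one_mem _)) hb')
  rw [e] at h ⊢
  have : u = 1 := Units.ext (sub_eq_zero.1 (Matrix.ext fun a c => of_not_not fun hne => by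
    have h2 := (U_le_Q hρ hu).2 a c hne
    have h3 : a ≠ c := by rintro rfl; simp [pair_zero] at h2
    rw [h a c (by simpa [R.h_val, h3] using hne), sub_self, pair_zero] at h2
    exact h2.false))
  rw [this, mul_one]; exact h_mem χ

theorem mem_HN {g : GL ι K} (hg : g ∈ S.Γ)
    (h0 : ∀ a b, (g : Matrix ι ι K) a b ≠ 0 → (R.wt a = 0 ↔ R.wt b = 0))
    (h1 : ∀ a a' b, (g : Matrix ι ι K) a b ≠ 0 → (g : Matrix ι ι K) a' b ≠ 0 → R.wt a = R.wt a')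
    (h2 : ∀ a b b', (g : Matrix ι ι K) a b ≠ 0 → (g : Matrix ι ι K) a b' ≠ 0 → R.wt b = R.wt b') :
    ∃ χ, ∃ n ∈ S.N0, g = R.h χ * n := by
  have hρ : ∀ j, 0 < (fun _ => 1 : Fin l → ℝ) j := fun _ => one_pos
  obtain ⟨b, hb, n, hn, b', hb', e⟩ := bruhat hg
  obtain ⟨w, π, ha⟩ := exists_act hn
  have h3 : ∀ r, ∃ s, (g : Matrix ι ι K) (R.ei s) (R.ei r) ≠ 0 ∧
      ((b⁻¹ : GL ι K) : Matrix ι ι K) (R.ei (π r)) (R.ei s) ≠ 0 := fun r => by
    have h4 := ha.entry_ne (diag_B hb' (R.ei r))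
    rw [← Units.val_mul, ← Units.val_mul, show n * b' * n⁻¹ = b⁻¹ * g * n⁻¹ by rw [e]; group, Units.val_mul] at h4
    obtain ⟨k, h5, h6⟩ := RD.exists_mid h4
    obtain rfl : k = R.ei r := R.eq_ei (by rw [ha.mono' _ _ h6, ← RD.rt, ha.rt, w.symm_apply_apply])
    rw [Units.val_mul] at h5
    obtain ⟨c, h7, h8⟩ := RD.exists_mid h5
    obtain ⟨s, rfl⟩ := (R.idx c).resolve_left fun h => R.rt_ne r ((h0 _ _ h8).1 h)
    exact ⟨s, h8, h7⟩
  choose σ hσ hσ' using h3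
  have hσi : Function.Injective σ := fun r r' h => R.ext (h2 _ _ _ (hσ r) (h ▸ hσ r'))
  have h6 : ∀ r, pair (R.rt (σ r)) (fun _ => 1) ≤ pair (R.rt (π r)) fun _ => 1 := fun r => by
    have := (B_le_P (fun j => (hρ j).le) hb).2 _ _ (hσ' r)
    rw [pair_sub] at this; linarith
  have h7 : ∑ r, pair (R.rt (σ r)) (fun _ => 1) = ∑ r, pair (R.rt (π r)) fun _ => 1 :=
    ((Finite.injective_iff_bijective.1 hσi).sum_comp fun r => pair (R.rt r) fun _ => 1).trans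
      (Equiv.sum_comp π fun r => pair (R.rt r) fun _ => 1).symm
  have h8 : ∀ r, π r = σ r := fun r => of_not_not fun hne => by
    obtain ⟨χ, u, hu, e'⟩ := mem_B (inv_mem hb)
    have h9 : R.ei (π r) ≠ R.ei (σ r) := fun h => hne (R.ext (congrArg R.wt h))
    have := (U_le_Q hρ hu).2 (R.ei (π r)) (R.ei (σ r)) (by simpa [e', R.h_val, h9] using hσ' r)
    rw [pair_sub, (Finset.sum_eq_sum_iff_of_le fun r _ => h6 r).1 h7 r (Finset.mem_univ r), sub_self] at this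
    exact this.false
  obtain ⟨χ, hχ⟩ := mem_H_of_diag (mul_mem hg (inv_mem (G_le_Γ (N0_le_G hn)))) fun a c hac => by
    rw [Units.val_mul] at hac
    obtain ⟨k, h4, h5⟩ := RD.exists_mid hac
    have h9 : R.wt c = w (R.wt k) := by rw [ha.mono' _ _ h5, w.apply_symm_apply]
    rcases R.idx k with hk | ⟨r, rfl⟩
    · rw [h9, hk, map_zero, (h0 _ _ h4).2 hk]
    · rw [h9, h1 _ _ _ h4 (hσ r), ← h8, ← RD.rt, ha.rt]
  exact ⟨χ, n, hn, by rw [hχ, inv_mul_cancel_right]⟩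

variable (R K) in
/-- the `p`-part of the torus -/
def HP (p : ℕ) : Subgroup (GL ι K) := (CommGroup.primaryComponent (Chr l K) p).map R.h

theorem mem_HP {p : ℕ} {g : GL ι K} : g ∈ HP K R p ↔ ∃ χ : Chr l K, (∃ k, χ ^ p ^ k = 1) ∧ R.h χ = g := by
  simp [HP, CommGroup.mem_primaryComponent]

theorem isPGroup_HP (p : ℕ) : IsPGroup p (HP K R p) := fun g => by
  obtain ⟨χ, ⟨k, hk⟩, e⟩ := mem_HP.1 g.2
  exact ⟨k, Subtype.ext (by simp [← e, ← map_pow, hk])⟩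

theorem HP_le (p : ℕ) : HP K R p ≤ S.H := fun _ hg => by
  obtain ⟨χ, -, rfl⟩ := mem_HP.1 hg
  exact h_mem χ

/-- the weights are distinct modulo `p` -/
def Sep (R : RD ι Φ l) (p : ℕ) : Prop :=
  (∀ r, ∃ j, ¬ (p : ℤ) ∣ R.rt r j) ∧ ∀ r s, r ≠ s → ∃ j, ¬ (p : ℤ) ∣ R.rt r j - R.rt s j

theorem eq_of_sep {p : ℕ} (hsep : Sep R p) {ζ : Kˣ} (hζ : IsPrimitiveRoot ζ p) {v v' : Lam l}
    (hv : v = 0 ∨ ∃ r, v = R.rt r) (hv' : v' = 0 ∨ ∃ r, v' = R.rt r)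
    (h : ∀ χ : Chr l K, χ ^ p ^ 1 = 1 → ev χ v = ev χ v') : v = v' := by
  have h1 : ∀ j, (p : ℤ) ∣ v j - v' j := fun j => by
    have h2 : ∀ v, ev (mkChr (Pi.mulSingle j ζ)) v = ζ ^ v j := fun v => by
      rw [ev_mkChr, Finset.prod_eq_single j] <;> simp +contextual
    have := h (mkChr (Pi.mulSingle j ζ)) (chr_ext fun k => by
      rw [ev_pow, ev_mkChr_single, pow_one, Pi.mulSingle_apply]
      split_ifs
      · exact hζ.pow_eq_one
      · exact one_pow p)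
    rwa [h2, h2, ← mul_inv_eq_one, ← _root_.zpow_sub, hζ.zpow_eq_one_iff_dvd] at this
  rcases hv with rfl | ⟨r, rfl⟩ <;> rcases hv' with rfl | ⟨s, rfl⟩
  · rfl
  · obtain ⟨j, hj⟩ := hsep.1 s
    exact absurd (by simpa using h1 j) hj
  · obtain ⟨j, hj⟩ := hsep.1 r
    exact absurd (by simpa using h1 j) hj
  · by_contra hne
    obtain ⟨j, hj⟩ := hsep.2 r s fun e => hne (e ▸ rfl)
    exact hj (h1 j)

/-- the normaliser of the `p`-part of the torus -/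
theorem mem_HN_of_norm {p : ℕ} (hsep : Sep R p) {ζ : Kˣ} (hζ : IsPrimitiveRoot ζ p) {g : GL ι K} (hg : g ∈ S.Γ)
    (h : ∀ t ∈ HP K R p, g * t * g⁻¹ ∈ S.H ∧ g⁻¹ * t * g ∈ S.H) : ∃ χ, ∃ n ∈ S.N0, g = R.h χ * n := by
  have hw : ∀ a, R.wt a = 0 ∨ ∃ r, R.wt a = R.rt r := fun a => (R.idx a).imp_right fun ⟨r, e⟩ => ⟨r, e ▸ rfl⟩
  have key : ∀ χ ψ : Chr l K, R.h ψ * g = g * R.h χ → ∀ a b, (g : Matrix ι ι K) a b ≠ 0 →
      ev ψ (R.wt a) = ev χ (R.wt b) := fun χ ψ e a b hab => by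
    have : ((R.h ψ * g : GL ι K) : Matrix ι ι K) a b = ((g * R.h χ : GL ι K) : Matrix ι ι K) a b := by rw [e]
    rw [Units.val_mul, Units.val_mul, R.h_val, R.h_val, diagonal_mul, mul_diagonal, mul_comm] at this
    exact Units.ext (mul_left_cancel₀ hab this)
  have h1 : ∀ χ : Chr l K, χ ^ p ^ 1 = 1 → ∃ ψ : Chr l K, ∀ a b, (g : Matrix ι ι K) a b ≠ 0 →
      ev ψ (R.wt a) = ev χ (R.wt b) := fun χ hχ => by
    obtain ⟨ψ, e⟩ := (h _ (mem_HP.2 ⟨χ, ⟨1, hχ⟩, rfl⟩)).1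
    exact ⟨ψ, key χ ψ (by rw [e, inv_mul_cancel_right])⟩
  have h2 : ∀ χ : Chr l K, χ ^ p ^ 1 = 1 → ∃ ψ : Chr l K, ∀ a b, (g : Matrix ι ι K) a b ≠ 0 →
      ev χ (R.wt a) = ev ψ (R.wt b) := fun χ hχ => by
    obtain ⟨ψ, e⟩ := (h _ (mem_HP.2 ⟨χ, ⟨1, hχ⟩, rfl⟩)).2
    exact ⟨ψ, key ψ χ (by rw [e, ← mul_assoc, mul_inv_cancel_left])⟩
  refine mem_HN hg (fun a b hab => ⟨fun h0 => ?_, fun h0 => ?_⟩) (fun a a' b e e' => ?_) fun a b b' e e' => ?_
  · refine eq_of_sep hsep hζ (hw b) (.inl rfl) fun χ hχ => ?_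
    obtain ⟨ψ, e⟩ := h1 χ hχ
    rw [← e a b hab, h0, ev_zero, ev_zero]
  · refine eq_of_sep hsep hζ (hw a) (.inl rfl) fun χ hχ => ?_
    obtain ⟨ψ, e⟩ := h2 χ hχ
    rw [e a b hab, h0, ev_zero, ev_zero]
  · refine eq_of_sep hsep hζ (hw a) (hw a') fun χ hχ => ?_
    obtain ⟨ψ, e''⟩ := h2 χ hχ
    rw [e'' a b e, e'' a' b e']
  · refine eq_of_sep hsep hζ (hw b) (hw b') fun χ hχ => ?_
    obtain ⟨ψ, e''⟩ := h1 χ hχ
    rw [← e'' a b e, e'' a b' e']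

theorem pow_eq_one_of_HN {χ : Chr l K} {n : GL ι K} (hn : n ∈ S.N0) {m : ℕ} (h : (R.h χ * n) ^ m = 1) :
    n ^ m = 1 := by
  obtain ⟨w, π, ha⟩ := exists_act hn
  have key : ∀ m : ℕ, ∃ t ∈ S.H, (R.h χ * n) ^ m = t * n ^ m := fun m => by
    induction m with
    | zero => exact ⟨1, one_mem _, by simp⟩
    | succ m ih =>
      obtain ⟨t, ht, e⟩ := ih
      exact ⟨_, mul_mem (h_mem χ) (ha.conj_H ht), by rw [pow_succ', e, pow_succ']; group⟩
  obtain ⟨t, ht, e⟩ := key m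
  exact N0_unique (pow_mem hn m) (one_mem _) (H_le_B ht) (one_mem _) (by rw [← e, h, one_mul])

/-- The torus lemma: if no element `h n` of `C` has `n ≠ 1` of `p`-power order then every `p`-subgroup of `C` is
conjugate in `C` into the torus. -/
theorem torus [Finite K] {p : ℕ} (hp : p.Prime) (hsep : Sep R p) {ζ : Kˣ} (hζ : IsPrimitiveRoot ζ p)
    {C : Subgroup (GL ι K)} (h1 : HP K R p ≤ C) (h2 : C ≤ S.Γ)
    (hW : ∀ n ∈ S.N0, ∀ (χ : Chr l K) (k : ℕ), R.h χ * n ∈ C → n ^ p ^ k = 1 → n = 1)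
    {Q : Subgroup (GL ι K)} (hQC : Q ≤ C) (hQ : IsPGroup p Q) : ∃ c ∈ C, ∀ y ∈ Q, c * y * c⁻¹ ∈ HP K R p := by
  have := Fact.mk hp
  refine conj_into h1 (isPGroup_HP p) (fun x hx k hk h => ?_) hQC hQ
  obtain ⟨χ, n, hn, rfl⟩ := mem_HN_of_norm hsep hζ (h2 hx) fun t ht => (h t ht).imp (HP_le p ·) (HP_le p ·)
  obtain rfl := hW n hn χ k hx (pow_eq_one_of_HN hn hk)
  rw [mul_one] at hk ⊢
  exact mem_HP.2 ⟨χ, ⟨k, R.h_inj ((R.h.map_pow χ _).trans (hk.trans R.h.map_one.symm))⟩, rfl⟩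

theorem Act_pow {n : GL ι K} {w : Lam l ≃+ Lam l} {π : Equiv.Perm Φ} (h : S.Act n w π) (m : ℕ) :
    ∃ w', S.Act (n ^ m) w' (π ^ m) ∧ ∀ v, w' v = w^[m] v := by
  induction m with
  | zero => exact ⟨_, by simpa using S.act_one, fun _ => rfl⟩
  | succ m ih =>
    obtain ⟨w', h1, h2⟩ := ih
    exact ⟨_, by simpa only [pow_succ] using h1.mul h, fun v => h2 _⟩

/-- the Weyl group has no element of order `p` if `p` is large -/
theorem N0_eq_one {p : ℕ} (hp : p.Prime) (hl : l + 1 < p ∨ l < p ∧ ¬ p ∣ Fintype.card Φ) {n : GL ι K}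
    (hn : n ∈ S.N0) {k : ℕ} (hk : n ^ p ^ k = 1) : n = 1 := by
  have := Fact.mk hp
  obtain ⟨w, π, ha⟩ := exists_act hn
  obtain ⟨w', h1, h2⟩ := Act_pow ha (p ^ k)
  rw [hk] at h1
  have h3 := h1.perm_eq S.act_one
  have h4 := h1.w_eq (h3 ▸ S.act_one)
  have h5 := lattice_eq_refl hp (w := w) (k := k) (fun v => by rw [← h2, h4]; rfl) (hl.imp_right fun ⟨h5, h6⟩ => by
    obtain ⟨r, hr⟩ := Equiv.Perm.exists_fixed_point_of_prime h6 h3
    exact ⟨h5, R.rt r, R.rt_ne r, by rw [← ha.rt, hr]⟩)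
  refine ha.eq_one hn fun i => ?_
  rw [R.ext (r := π (R.sim i)) (r' := R.sim i) (by rw [ha.rt, h5]; rfl)]
  exact R.pos_sim i

/-- The torus lemma for the whole group. -/
theorem torus_top [Finite K] {p : ℕ} (hp : p.Prime) (hsep : Sep R p) {ζ : Kˣ} (hζ : IsPrimitiveRoot ζ p)
    (hl : l + 1 < p ∨ l < p ∧ ¬ p ∣ Fintype.card Φ) {Q : Subgroup (GL ι K)} (hQC : Q ≤ S.Γ) (hQ : IsPGroup p Q) :
    ∃ c ∈ S.Γ, ∀ y ∈ Q, c * y * c⁻¹ ∈ HP K R p :=
  torus hp hsep hζ ((HP_le p).trans H_le_Γ) le_rfl (fun _ hn _ _ _ hk => N0_eq_one hp hl hn hk) hQC hQ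

end Cfsg.Agent.H6.TorS
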