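import Cfsg.Agent.H6.Vf

/-!
Elements of order 7, 13 and 19 of `E₇(2)`, and a lower bound for the order.
-/

set_option autoImplicit false
set_option linter.unusedSectionVars false
set_option linter.unusedSimpArgs false
set_option maxRecDepth 100000

namespace Cfsg.Agent.H6.Va

open Matrix Module Cfsg.Agent.H1.E8 Cfsg.Agent.H6.E7 Cfsg.Agent.H7.Ord
open Cfsg.Agent.H7.Inq hiding F
open Cfsg.Agent.H7.Bit hiding app

theorem chk13 : evalW 56 XV [11, 0, 12, 11, 6, 7, 1, 13, 8, 9, 8, 3, 11, 4, 6, 13, 10, 2, 7, 5, 11, 11, 0, 12, 11, 6, 7, 1, 13, 8, 9, 8, 3, 11, 4, 6, 13, 10, 2, 7, 5, 11, 11, 0, 12, 11, 6, 7, 1, 13, 8, 9, 8, 3, 11, 4, 6, 13, 10, 2, 7, 5, 11, 11, 0, 12, 11, 6, 7, 1, 13, 8, 9, 8, 3, 11, 4, 6, 13, 10, 2, 7, 5, 11, 11, 0, 12, 11, 6, 7, 1, 13, 8, 9, 8, 3, 11, 4, 6, 13, 10, 2, 7, 5, 11, 11, 0, 12, 11, 6, 7, 1, 13, 8, 9, 8, 3, 11, 4, 6, 13, 10, 2, 7, 5, 11, 11, 0, 12, 11, 6, 7, 1, 13, 8, 9, 8, 3, 11, 4, 6, 13, 10, 2, 7, 5, 11]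 = 0xa0d8f1f5fb3a64746c80009b684c7d651d31440080f531980b60b6caf63059b14950227d50464d1e7bbbf730909b29e6e86d6499bb2de6e888719c0f6b793b702ec64d0fe91b22947b3c7b793b70252acc1b691bd5b0b09f22ade8c0fe1bb2048000cd49bbf626a7f088509d4b61220098f09009200a18a3131c220136a08854941b202200820c0209200a18a251d1496014a0090255320026a0c4773bf62680001143c1496014a0815490092004a0ae58d422000000985199492000009b5680092004a024816894db1ea0047cd5320000009a549009200000374ac149691ea0790000009b4ea00100410000000086d1b9ddb20000bd7e8009294ea07d754c104000001e8129ddb20000da549009b20000aa010900400000c0000009b200005f7445100000005d214190094000de744510000000200000900940003a5409900940007e2000900940007dd56510000000fe20099009400004756c800000001a5400000000001aa00990000000daa009900000001af400000000003a0000000000001a000000000000 ∧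
    evalW 56 (fun _ => 0xa0d8f1f5fb3a64746c80009b684c7d651d31440080f531980b60b6caf63059b14950227d50464d1e7bbbf730909b29e6e86d6499bb2de6e888719c0f6b793b702ec64d0fe91b22947b3c7b793b70252acc1b691bd5b0b09f22ade8c0fe1bb2048000cd49bbf626a7f088509d4b61220098f09009200a18a3131c220136a08854941b202200820c0209200a18a251d1496014a0090255320026a0c4773bf62680001143c1496014a0815490092004a0ae58d422000000985199492000009b5680092004a024816894db1ea0047cd5320000009a549009200000374ac149691ea0790000009b4ea00100410000000086d1b9ddb20000bd7e8009294ea07d754c104000001e8129ddb20000da549009b20000aa010900400000c0000009b200005f7445100000005d214190094000de744510000000200000900940003a5409900940007e2000900940007dd56510000000fe20099009400004756c800000001a5400000000001aa00990000000daa009900000001af400000000003a0000000000001a000000000000) (List.replicate 13 0) = one 56 ∧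
    upChk 56 8 0xa0d8f1f5fb3a64746c80009b684c7d651d31440080f531980b60b6caf63059b14950227d50464d1e7bbbf730909b29e6e86d6499bb2de6e888719c0f6b793b702ec64d0fe91b22947b3c7b793b70252acc1b691bd5b0b09f22ade8c0fe1bb2048000cd49bbf626a7f088509d4b61220098f09009200a18a3131c220136a08854941b202200820c0209200a18a251d1496014a0090255320026a0c4773bf62680001143c1496014a0815490092004a0ae58d422000000985199492000009b5680092004a024816894db1ea0047cd5320000009a549009200000374ac149691ea0790000009b4ea00100410000000086d1b9ddb20000bd7e8009294ea07d754c104000001e8129ddb20000da549009b20000aa010900400000c0000009b200005f7445100000005d214190094000de744510000000200000900940003a5409900940007e2000900940007dd56510000000fe20099009400004756c800000001a5400000000001aa00990000000daa009900000001af400000000003a0000000000001a000000000000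
      0x871b1d90046c642dfd341b5d46a173688d4fcdc1d6324019a1f0e9a10dc7243a1d08a10fd6fc99fdd3f204c1295612a19b002c84eeaf2ccb
      0xecf403bf7a1bc470a74583d049b44c709cbf9d9c2bcd4dcf4de4bd9c20d1bdcc38009d714e2149c5691d9e81448029132140201008040201
      0x12580ca1565f062ddf313abbbe1e04edadb8bd8d530fd26e99d697cd12580ca15f1b10d0862211bd42321da6e6d626a017a70976cd883cdfae05421a8af3b2b47f85bf14d04bd2bb33ccbae1b2a3e4d2e53cf5af9d9bf7289381ae64df5efb4ac8d8985862acea71283b016294b410b8d55c26b2f554e58c5fd3819785da7856274ce6edc985dca410437de075bde3e13cbb35c0c200376b7bb5924d9bb16e5258be4df97e53a3e326f359e8aab076d8bd144245faef818cf3bcf512c2a3d1afeeaa7fdb70c8b44ff0a74e24dc8856b1b1a1d0b927fa07888c822222457bf40b2adb3d3c9e33e9951b5c320c1ae6d7ed678dd7dfb733a56a02b9d43bfd0ef4fa17c1455b068d316b9fcd9b70f39927e5fed9bd3eab4fae26cbf0713b934cdb9aff1baf439cd91497ae45d0780798e4bd5189f1961da842c2062c17000000000000006ece03d2ca67acba8d953a486524baa131d6ee2a5d00000000000000000000000000000000000000000000000000000000000000000000000000000000000000000000000000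 = true := by decide +kernel

theorem chk19 : evalW 56 XV [0, 9, 4, 10, 3, 10, 10, 7, 10, 13, 12, 13, 10, 9, 6, 2, 6, 11, 8, 7, 13, 5, 1, 0, 9, 4, 10, 3, 10, 10, 7, 10, 13, 12, 13, 10, 9, 6, 2, 6, 11, 8, 7, 13, 5, 1, 0, 9, 4, 10, 3, 10, 10, 7, 10, 13, 12, 13, 10, 9, 6, 2, 6, 11, 8, 7, 13, 5, 1] = 0xd02432828000006e2c3282800000fc243282800000922c32828000000284128280000061dd3f39502000bc04128280000002a43282800000b53225115020000fc128aa800000aec300c38863000c310451186300aecaaa2cb24b0018fb24d39863000c311707f26b001f97171540630018f29f2ff26b000e953787d063000d58a7d27a4b00000922459a6300159f170550630000001342ea4b00000b6423257de40e9416968000000d6c8142ea4b001b0a6c280153c00e9d2785d263000e9c34921200001b08a0a092822403fb6cd8fc6d240e9c27c4fa4b0000093139d6e43903fb7f8e05b4c00e9c2684920000000bfdb8f398c90000135420d0dd0e97ff8d8392e40000002bb6af30000bfd9897e72d0e9c26ae5e97f900000002dbdad4000ab491b3eb090e9c26ac960f1d0000002bfffcf0000149082138ed00000029242514000000284c14f0000bfdb1dee06e0000000000030900000002dbd917000000296d7ff9000000296d5a27000000296d54a5000000296d54a2000000000028a5000000000003fc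 ∧
    evalW 56 (fun _ => 0xd02432828000006e2c3282800000fc243282800000922c32828000000284128280000061dd3f39502000bc04128280000002a43282800000b53225115020000fc128aa800000aec300c38863000c310451186300aecaaa2cb24b0018fb24d39863000c311707f26b001f97171540630018f29f2ff26b000e953787d063000d58a7d27a4b00000922459a6300159f170550630000001342ea4b00000b6423257de40e9416968000000d6c8142ea4b001b0a6c280153c00e9d2785d263000e9c34921200001b08a0a092822403fb6cd8fc6d240e9c27c4fa4b0000093139d6e43903fb7f8e05b4c00e9c2684920000000bfdb8f398c90000135420d0dd0e97ff8d8392e40000002bb6af30000bfd9897e72d0e9c26ae5e97f900000002dbdad4000ab491b3eb090e9c26ac960f1d0000002bfffcf0000149082138ed00000029242514000000284c14f0000bfdb1dee06e0000000000030900000002dbd917000000296d7ff9000000296d5a27000000296d54a5000000296d54a2000000000028a5000000000003fc) (List.replicate 19 0) = one 56 ∧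
    upChk 56 2 0xd02432828000006e2c3282800000fc243282800000922c32828000000284128280000061dd3f39502000bc04128280000002a43282800000b53225115020000fc128aa800000aec300c38863000c310451186300aecaaa2cb24b0018fb24d39863000c311707f26b001f97171540630018f29f2ff26b000e953787d063000d58a7d27a4b00000922459a6300159f170550630000001342ea4b00000b6423257de40e9416968000000d6c8142ea4b001b0a6c280153c00e9d2785d263000e9c34921200001b08a0a092822403fb6cd8fc6d240e9c27c4fa4b0000093139d6e43903fb7f8e05b4c00e9c2684920000000bfdb8f398c90000135420d0dd0e97ff8d8392e40000002bb6af30000bfd9897e72d0e9c26ae5e97f900000002dbdad4000ab491b3eb090e9c26ac960f1d0000002bfffcf0000149082138ed00000029242514000000284c14f0000bfdb1dee06e0000000000030900000002dbd917000000296d7ff9000000296d5a27000000296d54a5000000296d54a2000000000028a5000000000003fc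
      0xe279fe26dfcfb00bb89e6e5145c8
      0x25bdd0dd5cd3e383fd743f6b215
      0xd498775c0bf6b2808b5fb4c06f611279fe26dfcfb0e38abe618dad902d84d81afaf567591caf46f103d5e07044f97d5b2274063d71980e949fb6f815261d3f5b50bbbdbd4c65963f31277cae45e8b98041f3a97c25902c56e4a0d10a26ace8cb99d3b801763e142e450b76ec6fef351f96d95e3813c3b70bb8591d89a19724c42a6ac19a067fd69987c2ae5f24fa10804ae91eb3b92c055f51400a1c5fbd465fd4e85bca76a17d8cb2edf08eb540785a888fdab63796e8ab40020ffab50ad2f2abdc4d39b9556e624dd9abe8953adf20cb5c7fd60a601f1601b99b1d62d6a83ae32d6aa415c8930a1c025fbfa18d75ca8bd92a57052f4248d7c5501c255e4be238e1f57e829ee2d0feaf24fa18a8608c1d50940f40e20cd60bb89e6e51c5042ed8e2a2c9a042513093714c85b02ed8e2a2c9ff8d7504f9b390308fb8cf0a06d784d6c673a3cae3033e0b86a940b13cd0e27930372a3d0be279fe26dfcf165be2e22e4c507900000000000000cdf5c49ba7cdd5505a7c401d1596c64d5af5f6881100000000000000 = true := by decide +kernel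

theorem chk43 : evalW 56 XV [11, 3, 7, 6, 0, 1, 7, 2, 0, 8, 4, 13, 9, 11, 11, 11, 12, 1, 3, 7, 6, 10, 5, 13] = 0x6c0000000000008c00000000000080000000000000280000000000002830000000000003fb4000000000043000000000000020000000000017fb400000000002a9000000000017f0000000000002a9134000000000ca2400000000000913400000000004105511000000ca0000000000008c30551100000004104100000000014000000000008c3214000000008c10410000000000014100000000008a6bd90000008c12000000000001014100000000008a690000000000000410000000010140000000000000861820000000002900000000000041010000000000861af3c00000086149200000000041000000000000008af3c0000008616d23c00000086100000000000000024300000000082423c000000861240000000000002003000000000824000000000000005280000000002000000000000008728000000000004200000000000873c000000000000d40000000000042080000000000003e000000000001080000000000093e00000000000938000000000000150000000000001400000000000002 ∧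
    upChk 56 0 (evalW 56 (fun _ => 0x6c0000000000008c00000000000080000000000000280000000000002830000000000003fb4000000000043000000000000020000000000017fb400000000002a9000000000017f0000000000002a9134000000000ca2400000000000913400000000004105511000000ca0000000000008c30551100000004104100000000014000000000008c3214000000008c10410000000000014100000000008a6bd90000008c12000000000001014100000000008a690000000000000410000000010140000000000000861820000000002900000000000041010000000000861af3c00000086149200000000041000000000000008af3c0000008616d23c00000086100000000000000024300000000082423c000000861240000000000002003000000000824000000000000005280000000002000000000000008728000000000004200000000000873c000000000000d40000000000042080000000000003e000000000001080000000000093e00000000000938000000000000150000000000001400000000000002) (List.replicate 6 0)) 0 0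
      0x43e33b5d19e0566cc56a3454ae6d9704a80d4c9ca3943b1584f04c12c5a3ef6cdf5509b492045740cf4606b118a8d076a391a07c39ce8eb0dfc0984f246b4441c2c52079e1e2442f32585d997ef51f06903d55ae2af67708412c54af8b77fe1ad2c30c3bee6d0faaf92edaae9b3f67276f108d7c04de116298b3125ce110ea5a12feb3cd96db0a8f73f2ef15a3f494bfaeae5bfe9675785c8a8885d9dd892a177e1b05be041c0158ecdce0b658c1a595db70c51ea0a04ee543439560bf4a50e3e075f5d53ed11d693fad2340073d9d3d63524eefc59c2d64b1fc7e246a54a848eb9e167ceb3219861e110ccefc135eda19f0d9fb38e1152430d9c1d722064732fe35c9129248aba6f5174ed5b04f627312c8f54049dac294d70ec876c0ec5be6c937e22cbe39b161dbe5b03c06ec9307c34efc0892e8ef9b77d068945480c4105159a1b6c4df54908330450902d92a957a5ae55772b3739c93775cbfb0859a2b46d761ecded688c5ddadf0924fb52492a809a441ce199137b826388bcded2f0e910e7f8b837c29bd = true := by decide +kernel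

/-- the positive roots -/
def posR : List (List ℕ) := [[0, 0, 1, 0, 0, 0, 0, 0], [0, 1, 0, 0, 0, 0, 0, 0], [0, 0, 0, 0, 0, 1, 0, 0], [0, 0, 0, 1, 0, 0, 0, 0], [0, 0, 0, 0, 1, 0, 0, 0], [1, 0, 0, 0, 0, 0, 0, 0], [0, 0, 0, 0, 0, 0, 1, 0], [0, 0, 0, 0, 1, 1, 0, 0], [1, 0, 1, 0, 0, 0, 0, 0], [0, 0, 0, 1, 1, 0, 0, 0], [0, 0, 1, 1, 0, 0, 0, 0], [0, 1, 0, 1, 0, 0, 0, 0], [0, 0, 0, 0, 0, 1, 1, 0], [1, 0, 1, 1, 0, 0, 0, 0], [0, 0, 1, 1, 1, 0, 0, 0], [0, 1, 1, 1, 0, 0, 0, 0], [0, 0, 0, 1, 1, 1, 0, 0], [0, 0, 0, 0, 1, 1, 1, 0], [0, 1, 0, 1, 1, 0, 0, 0], [1, 0, 1, 1, 1, 0, 0, 0], [0, 1, 1, 1, 1, 0, 0, 0], [1, 1, 1, 1, 0, 0, 0, 0], [0, 0, 0, 1, 1, 1, 1, 0], [0, 0, 1, 1, 1, 1, 0, 0], [0, 1, 0, 1, 1, 1, 0, 0], [1, 1, 1, 1, 1, 0, 0, 0], [0, 1, 1, 1, 1, 1, 0, 0], [0, 1, 1, 2, 1, 0, 0, 0], [1, 0, 1, 1, 1, 1, 0, 0], [0, 0, 1, 1, 1, 1, 1, 0], [0, 1, 0, 1, 1, 1, 1, 0], [0, 1, 1, 2, 1, 1, 0, 0], [1, 1, 1, 1, 1, 1, 0, 0], [1, 0, 1, 1, 1, 1, 1, 0],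 [0, 1, 1, 1, 1, 1, 1, 0], [1, 1, 1, 2, 1, 0, 0, 0], [1, 1, 1, 2, 1, 1, 0, 0], [1, 1, 2, 2, 1, 0, 0, 0], [1, 1, 1, 1, 1, 1, 1, 0], [0, 1, 1, 2, 1, 1, 1, 0], [0, 1, 1, 2, 2, 1, 0, 0], [1, 1, 1, 2, 2, 1, 0, 0], [0, 1, 1, 2, 2, 1, 1, 0], [1, 1, 2, 2, 1, 1, 0, 0], [1, 1, 1, 2, 1, 1, 1, 0], [0, 1, 1, 2, 2, 2, 1, 0], [1, 1, 1, 2, 2, 1, 1, 0], [1, 1, 2, 2, 1, 1, 1, 0], [1, 1, 2, 2, 2, 1, 0, 0], [1, 1, 2, 3, 2, 1, 0, 0], [1, 1, 1, 2, 2, 2, 1, 0], [1, 1, 2, 2, 2, 1, 1, 0], [1, 1, 2, 3, 2, 1, 1, 0], [1, 1, 2, 2, 2, 2, 1, 0], [1, 2, 2, 3, 2, 1, 0, 0], [1, 1, 2, 3, 2, 2, 1, 0], [1, 2, 2, 3, 2, 1, 1, 0], [1, 1, 2, 3, 3, 2, 1, 0], [1, 2, 2, 3, 2, 2, 1, 0], [1, 2, 2, 3, 3, 2, 1, 0], [1, 2, 2, 4, 3, 2, 1, 0], [1, 2, 3, 4, 3, 2, 1, 0], [2, 2, 3, 4, 3, 2, 1, 0]]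

theorem posR_chk : posR.length = 63 ∧ (∀ l ∈ posR, IsR (toL l) ∧ ∀ i, 0 ≤ toL l i) ∧
    posR.Pairwise fun l l' => ht (toL l) ≤ ht (toL l') ∧ l' ≠ l ∧ l.length = 8 ∧ l'.length = 8 := by decide +kernel

theorem ρV_pow {x : Γ} {A : ℕ} (h : ρV x = toM F eW eW A) (k : ℕ) :
    ρV (x ^ k) = toM F eW eW (evalW 56 (fun _ => A) (List.replicate k 0)) := by
  rw [← ρV_evalW (y := fun _ => x) fun _ => h]; simp

theorem cyc {p k A P Q R : ℕ} [Fact p.Prime] {w : List ℕ} (h : evalW 56 XV w = A ∧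
    evalW 56 (fun _ => A) (List.replicate p 0) = one 56 ∧ upChk 56 k A P Q R = true) (hk : k < 56)
    (hp : ¬p ^ 2 ∣ Nat.card Γ) {g : Γ} (hg : g ^ p = 1) (h1 : g ≠ 1) : fd (ρV g) ≤ k := by
  have h2 : ρV (w.map xr).prod = toM F eW eW A := by rw [ρV_evalW ρV_xr, h.1]
  generalize (w.map xr).prod = a at h2
  have h3 : a ^ p = 1 := ρV_inj (by rw [ρV_pow h2, h.2.1, toM_one, map_one])
  have h4 : fd (ρV a) ≤ k := h2 ▸ fd_le eW h.2.2
  have h5 : orderOf a = p := orderOf_eq_prime h3 (by rintro rfl; rw [map_one, fd_one, card_W] at h4; omega)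
  obtain ⟨S, hS⟩ := exists_sylow (p := p) (n := 1) (Subgroup.zpowers a).subtype Subtype.val_injective (by simp [h5]) hp
  obtain ⟨c, hc⟩ := conj_mem S hg
  rw [hS, Subgroup.range_subtype, ← mem_powers_iff_mem_zpowers] at hc
  obtain ⟨n, hn : a ^ n = _⟩ := hc
  obtain ⟨m, hm⟩ := exists_pow_eq_self_of_coprime (x := a) (n := n) (by
    rw [h5, Nat.coprime_comm, (Fact.out : p.Prime).coprime_iff_not_dvd, ← h5, orderOf_dvd_iff_pow_eq_one, hn]
    simpa using h1)
  rw [← fd_conj ρV g c, ← hn]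
  exact (fd_le_pow ρV _ m).trans (hm.symm ▸ h4)

theorem not_dvd' : ¬13 ^ 2 ∣ Nat.card Γ ∧ ¬19 ^ 2 ∣ Nat.card Γ := by
  obtain ⟨m, hm⟩ := card_G
  rw [hm]
  constructor <;> intro h
  · exact absurd ((Nat.Coprime.pow 2 m (by norm_num)).dvd_of_dvd_mul_right h) (by norm_num)
  · exact absurd ((Nat.Coprime.pow 2 m (by norm_num)).dvd_of_dvd_mul_right h) (by norm_num)

theorem f13 {g : Γ} (hg : g ^ 13 = 1) (h1 : g ≠ 1) : fd (ρV g) ≤ 8 :=
  have : Fact (Nat.Prime 13) := ⟨by norm_num⟩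
  cyc chk13 (by norm_num) not_dvd'.1 hg h1

theorem f19 {g : Γ} (hg : g ^ 19 = 1) (h1 : g ≠ 1) : fd (ρV g) ≤ 2 :=
  have : Fact (Nat.Prime 19) := ⟨by norm_num⟩
  cyc chk19 (by norm_num) not_dvd'.2 hg h1

theorem no_fix : ∃ c : Γ, ∀ v, ρV (c ^ 6) *ᵥ v = v → v = 0 := ⟨_, fun v hv => by
  have h := fd_le eW chk43.2
  rw [← ρV_pow ((ρV_evalW ρV_xr _).trans (congrArg _ chk43.1)), Nat.le_zero] at h
  exact (dm_eq_zero.1 h).le hv⟩

/-! ### The order -/

theorem card_gp (l : List L) (h : ∀ r ∈ l, IsR r ∧ Pos r) (h' : l.Pairwise fun r s => ht r ≤ ht s ∧ s ≠ r) :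
    2 ^ l.length ≤ Nat.card (gp F (· ∈ l)) := by
  induction l with
  | nil => exact Nat.card_pos
  | cons r l ih =>
    rw [List.pairwise_cons] at h'
    obtain ⟨hr, hp⟩ := h r (by simp)
    have h0 := ht_pos hr.1 hp
    let Q : Matrix Wt Wt F → Prop := fun u => ∀ a b : Wt, (ht a.1 < ht b.1 + ht r ∨ a.1 = r + b.1) →
      u a b = (1 : Matrix Wt Wt F) a b
    have h1 : ∀ u ∈ gp F (· ∈ l), Q u.1 := fun u hu => by
      refine gp_ind (p := fun u => Q u.1) (fun _ _ _ => rfl) (fun s c hs hl g _ ih a b hab => ?_) hu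
      have h2 : Q (X s c).1 := fun a b hab => by
        rw [coe_X hs, x, Matrix.add_apply, Matrix.smul_apply, E, of_apply, if_neg, smul_zero, add_zero]
        intro e
        have := h'.1 s hl
        rw [e, ht_add, add_left_inj] at hab
        exact hab.elim (by omega) this.2
      rw [Units.val_mul, mul_apply, Finset.sum_eq_single a, h2 a a (.inl (by omega)), ih a b hab, one_apply_eq, one_mul]
      · intro c _ hc
        rcases lt_or_ge (ht a.1) (ht c.1 + ht r) with h3 | h3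
        · rw [h2 a c (.inl h3), one_apply_ne hc.symm, zero_mul]
        · by_cases e : c = b
          · rw [e, h2 a b hab, one_apply_ne (e ▸ hc.symm), zero_mul]
          · rw [ih c b (.inl (by rcases hab with h4 | h4; · omega
                                 · rw [h4, ht_add] at h3; omega)), one_apply_ne e, mul_zero]
      · simp
    have h2 : gp F (· ∈ l) ≤ gp F (· ∈ r :: l) := gp_mono fun s _ hs => List.mem_cons_of_mem _ hs
    obtain ⟨k, hk⟩ := Subgroup.card_dvd_of_le h2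
    have h3 : k ≠ 1 := by
      rintro rfl
      obtain ⟨t, ht', e⟩ := exists_W hr
      have := h1 (X r 1) ((Subgroup.eq_of_le_of_card_ge h2 (by omega)).ge (X_mem hr (by simp) 1))
        ⟨_, (isW_add hr ht').2 e⟩ ⟨t, ht'⟩ (.inr rfl)
      simp [coe_X hr, x, E] at this
    have h4 : k ≠ 0 := by rintro rfl; exact Nat.card_pos.ne' hk
    have := ih (fun s hs => h s (by simp [hs])) h'.2
    rw [hk, List.length_cons, pow_succ]
    exact Nat.mul_le_mul this (by omega)

theorem toL_inj {l l' : List ℕ} (h : l.length = 8) (h' : l'.length = 8) (e : toL l = toL l') : l = l' :=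
  List.ext_getElem (h.trans h'.symm) fun i h1 h2 => by
    simpa [toL, h1, h2] using congrFun e ⟨i, by omega⟩

theorem card_ge : 277347807 * 139503 * 2295 * 155 * 21 * 3 * 2 ^ 63 ≤ Nat.card Γ := by
  obtain ⟨h0, h1, h2, h3, h4, h5, h6⟩ := idx_eq
  have h := card_gp (posR.map toL) (List.forall_mem_map.2 posR_chk.2.1)
    (posR_chk.2.2.map toL fun _ _ h => ⟨h.1, fun e => h.2.1 (toL_inj h.2.2.2 h.2.2.1 e)⟩)
  rw [List.length_map, posR_chk.1] at h
  have h7 := h.trans (Subgroup.card_le_of_le ((gp_mono fun r _ hr => by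
    obtain ⟨l, hl, rfl⟩ := List.mem_map.1 hr
    exact (posR_chk.2.1 l hl).2).trans (U_le 7)))
  rw [Γ, ← P_zero, card_P (k := 0) (by omega), card_P (k := 1) (by omega), card_P (k := 2) (by omega),
    card_P (k := 3) (by omega), card_P (k := 4) (by omega), card_P (k := 5) (by omega), card_P (k := 6) (by omega),
    h0, h1, h2, h3, h4, h5, h6]
  change _ ≤ Nat.card (P (6 + 1)) at h7
  omega

/-! ### Elements of order seven -/

/-- quadratic character -/
def qc (i : ℕ) : ℕ := [0, 1, 1, 2, 1, 2, 2].getD (i % 7) 0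

/-- elements with a large fixed space -/
def big (i j k : ℕ) : Bool := (qc i == 0 && (qc j == 0 || qc k == 0)) || (qc j == 0 && qc k == 0) ||
  (qc i + qc j == 3 && qc j == qc k)

set_option synthInstance.maxSize 2000 in
theorem c7_cov' : ∀ i < 7, ∀ j < 7, ∀ k < 7, (i = 0 ∧ j = 0 ∧ k = 0) ∨ ∃ e ∈ c7.map (fun c => (c.1, c.2.2.2.2.2.2)),
    ∃ m ∈ [1, 3], (∃ x < 3, 2 ^ x * e.1.1 * m % 7 = i) ∧ (∃ x < 3, 2 ^ x * e.1.2.1 * m % 7 = j) ∧
    (∃ x < 3, 2 ^ x * e.1.2.2 * m % 7 = k) ∧ (big i j k = true ↔ 8 < e.2) := by decide +kernel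

set_option synthInstance.maxSize 4000 in
set_option synthInstance.maxHeartbeats 0 in
theorem big_chk : ∀ i < 7, ∀ j < 7, ∀ k < 7, big i j k = true → ∀ i' < 7, ∀ j' < 7, ∀ k' < 7, big i' j' k' = true →
    big (i + i') (j + j') (k + k') = true → ∃ n ∈ [2, 3, 4, 5, 6], big (i + i' * n) (j + j' * n) (k + k' * n) = true := by
  decide +kernel

theorem big_mod (i j k : ℕ) : big (i % 7) (j % 7) (k % 7) = big i j k := by simp [big, qc]

theorem exists_seven : ∃ a b c : Γ, a ^ 7 = 1 ∧ b ^ 7 = 1 ∧ c ^ 7 = 1 ∧ Commute a b ∧ Commute a c ∧ Commute b c ∧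
    ∀ i < 7, ∀ j < 7, ∀ k < 7, (i = 0 ∧ j = 0 ∧ k = 0) ∨ (fd (ρV (a ^ i * b ^ j * c ^ k)) ≤ 20 ∧
      (big i j k = true → 17 ≤ fd (ρV (a ^ i * b ^ j * c ^ k))) ∧
      (¬big i j k = true → fd (ρV (a ^ i * b ^ j * c ^ k)) ≤ 8)) := by
  have r := fun p hp => rel_eq (rel7 p hp)
  simp only [List.forall_mem_cons, List.map_cons, List.map_nil, List.prod_cons, List.prod_nil, mul_one] at r
  obtain ⟨a7, b7, c7', hab, hac, hbc, r11, r12, r13, r21, r22, r23, r31, r32, r33, -⟩ := r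
  have hρ : ∀ i j k, ρV (yy 4 ^ i * yy 5 ^ j * yy 6 ^ k) =
      toM F eW eW (evalW 56 YV (List.replicate i 4 ++ List.replicate j 5 ++ List.replicate k 6)) := fun i j k => by
    rw [← ρV_evalW ρV_yy]; simp [mul_assoc]
  generalize yy 4 = a, yy 5 = b, yy 6 = c, yy 7 = s, yy 8 = t, yy 9 = u at *
  replace a7 : a ^ 7 = 1 := by simpa [pow_succ, mul_assoc] using a7
  replace b7 : b ^ 7 = 1 := by simpa [pow_succ, mul_assoc] using b7
  replace c7' : c ^ 7 = 1 := by simpa [pow_succ, mul_assoc] using c7'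
  change Commute a b at hab
  change Commute a c at hac
  change Commute b c at hbc
  have hpow : ∀ i j k m, (a ^ i * b ^ j * c ^ k) ^ m = a ^ (i * m) * b ^ (j * m) * c ^ (k * m) := fun i j k m => by
    rw [(((hac.pow_pow i k).mul_left (hbc.pow_pow j k))).mul_pow, (hab.pow_pow i j).mul_pow, ← pow_mul, ← pow_mul,
      ← pow_mul]
  refine ⟨a, b, c, a7, b7, c7', hab, hac, hbc, fun i hi j hj k hk => (c7_cov' i hi j hj k hk).imp_right ?_⟩
  rintro ⟨_, he, m, hm, ⟨x, -, rfl⟩, ⟨y, -, rfl⟩, ⟨z, -, rfl⟩, hb⟩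
  obtain ⟨e, he', rfl⟩ := List.mem_map.1 he
  obtain ⟨h2, h3, h4⟩ := c7_chk e he'
  have h5 : ∀ v : Γ, (s ^ x * t ^ y * u ^ z) * v * (s ^ x * t ^ y * u ^ z)⁻¹ =
      s ^ x * (t ^ y * (u ^ z * v * (u ^ z)⁻¹) * (t ^ y)⁻¹) * (s ^ x)⁻¹ := fun v => by group
  have h6 : ∀ {v w : Γ}, v * w = w * v → ∀ x i : ℕ, v ^ x * w ^ i * (v ^ x)⁻¹ = w ^ i := fun h x i => by
    rw [((show Commute _ _ from h).pow_pow x i).eq, mul_inv_cancel_right]
  have h7 : ∀ {v w : Γ}, v * w = w * (w * v) → ∀ x i : ℕ, v ^ x * w ^ i * (v ^ x)⁻¹ = w ^ (2 ^ x * i) :=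
    fun h x i => by rw [← conj_pow, conj_pow_pow (k := 2) (by rw [h, pow_two, mul_assoc]), ← pow_mul]
  have h8 : a ^ (2 ^ x * e.1.1 * m % 7) * b ^ (2 ^ y * e.1.2.1 * m % 7) * c ^ (2 ^ z * e.1.2.2 * m % 7) =
      ((s ^ x * t ^ y * u ^ z) * (a ^ e.1.1 * b ^ e.1.2.1 * c ^ e.1.2.2) * (s ^ x * t ^ y * u ^ z)⁻¹) ^ m := by
    rw [← conj_mul, ← conj_mul, h5, h5, h5, h6 r31, h6 r21, h7 r11, h6 r32, h7 r22, h6 r12, h7 r33, h6 r23, h6 r13,
      hpow, ← pow_eq_pow_mod _ a7, ← pow_eq_pow_mod _ b7, ← pow_eq_pow_mod _ c7']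
  have h9 : ∀ v : Γ, v ^ 7 = 1 → fd (ρV (v ^ m)) = fd (ρV v) := fun v hv => by
    simp only [List.mem_cons, List.not_mem_nil, or_false] at hm
    rcases hm with rfl | rfl
    · rw [pow_one]
    · exact fd_pow ρV (m := 5) (by rw [← pow_mul, pow_eq_pow_mod _ hv]; simp)
  rw [hb, h8, h9 _ (by
    rw [conj_pow, hpow, mul_comm _ 7, mul_comm _ 7, mul_comm _ 7, pow_mul, pow_mul, pow_mul, a7, b7, c7']
    simp), fd_conj, hρ]
  have h10 := fd_le eW h3
  exact ⟨h10.trans h2, fun h => le_fd eW (h4.resolve_left (not_le.2 h)), fun h => h10.trans (not_lt.1 h)⟩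

theorem seven2 {u v : Γ} (hu : u ^ 7 = 1) (hv : v ^ 7 = 1) (huv : Commute u v) : (u ≠ 1 → fd (ρV u) ≤ 20) ∧
    (9 ≤ fd (ρV u) → 9 ≤ fd (ρV v) → 9 ≤ fd (ρV (u * v)) → ∃ n ∈ [2, 3, 4, 5, 6], 17 ≤ fd (ρV (u * v ^ n))) := by
  have : Fact (Nat.Prime 7) := ⟨by norm_num⟩
  obtain ⟨a, b, c, a7, b7, c7', hab, hac, hbc, key⟩ := exists_seven
  let f := ((zp a7).noncommCoprod (zp b7) fun i j => hab.pow_pow _ _).noncommCoprod (zp c7') fun i j =>
    (hac.pow_pow _ _).mul_left (hbc.pow_pow _ _)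
  have hf : ∀ i j k : ℕ, f ((.ofAdd i, .ofAdd j), .ofAdd k) = a ^ i * b ^ j * c ^ k := fun i j k => by
    rw [← zp_nat a7, ← zp_nat b7, ← zp_nat c7']; rfl
  have hs : ∀ v : (Multiplicative (ZMod 7) × Multiplicative (ZMod 7)) × Multiplicative (ZMod 7), ∃ i < 7, ∃ j < 7,
      ∃ k < 7, v = ((.ofAdd (i : ℕ), .ofAdd (j : ℕ)), .ofAdd (k : ℕ)) := fun v =>
    ⟨_, ZMod.val_lt v.1.1.toAdd, _, ZMod.val_lt v.1.2.toAdd, _, ZMod.val_lt v.2.toAdd, by simp⟩
  have h56 : fd (ρV 1) = 56 := by rw [map_one, fd_one, card_W]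
  obtain ⟨P, hP⟩ := exists_sylow (p := 7) (n := 3) f ((injective_iff_map_eq_one f).2 fun v hv => by
    obtain ⟨i, hi, j, hj, k, hk, rfl⟩ := hs v
    rcases key i hi j hj k hk with ⟨rfl, rfl, rfl⟩ | h
    · rfl
    · rw [← hf, hv] at h
      omega) (by simp) not_dvd.2
  have key' : ∀ i j k : ℕ, (big i j k = true → 17 ≤ fd (ρV (f ((.ofAdd i, .ofAdd j), .ofAdd k)))) ∧
      (9 ≤ fd (ρV (f ((.ofAdd i, .ofAdd j), .ofAdd k))) → big i j k = true) := fun i j k => by
    rw [← ZMod.natCast_mod i, ← ZMod.natCast_mod j, ← ZMod.natCast_mod k, ← big_mod, hf]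
    rcases key _ (Nat.mod_lt i (by omega)) _ (Nat.mod_lt j (by omega)) _ (Nat.mod_lt k (by omega)) with ⟨e1, e2, e3⟩ | h
    · simp [e1, e2, e3, h56, show big 0 0 0 = true from rfl, -map_one]
    · exact ⟨h.2.1, fun h' => of_not_not fun h'' => by have := h.2.2 h''; omega⟩
  obtain ⟨Q, hQ⟩ := ((IsPGroup.of_card (p := 7) (n := 2) (G := Multiplicative (ZMod 7) × Multiplicative (ZMod 7))
    (by simp)).to_subgroup ⊤).map ((zp hu).noncommCoprod (zp hv) fun i j => huv.pow_pow _ _) |>.exists_le_sylow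
  obtain ⟨d, rfl⟩ := MulAction.exists_smul_eq Γ Q P
  obtain ⟨u', hu'⟩ : d * u * d⁻¹ ∈ f.range := hP ▸ Subgroup.smul_mem_pointwise_smul _ (MulAut.conj d) _
    (hQ ⟨(.ofAdd ((1 : ℕ) : ZMod 7), 1), trivial, by
      change zp hu _ * zp hv 1 = u
      rw [zp_nat, map_one, pow_one, mul_one]⟩)
  obtain ⟨v', hv'⟩ : d * v * d⁻¹ ∈ f.range := hP ▸ Subgroup.smul_mem_pointwise_smul _ (MulAut.conj d) _
    (hQ ⟨(1, .ofAdd ((1 : ℕ) : ZMod 7)), trivial, by
      change zp hu 1 * zp hv _ = v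
      rw [zp_nat, map_one, pow_one, one_mul]⟩)
  obtain ⟨i, hi, j, hj, k, hk, rfl⟩ := hs u'
  obtain ⟨i', hi', j', hj', k', hk', rfl⟩ := hs v'
  have h1 : ∀ n : ℕ, fd (ρV (u * v ^ n)) =
      fd (ρV (f ((.ofAdd (i + i' * n : ℕ), .ofAdd (j + j' * n : ℕ)), .ofAdd (k + k' * n : ℕ)))) := fun n => by
    rw [← fd_conj ρV _ d, ← conj_mul, ← conj_pow, ← hu', ← hv', ← map_pow, ← map_mul]
    simp [← ofAdd_nsmul, ← ofAdd_add, mul_comm]
  rw [← fd_conj ρV u d, ← fd_conj ρV v d, ← pow_one v, h1, pow_one, ← hu', ← hv']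
  refine ⟨fun h => ?_, fun h2 h3 h4 => ?_⟩
  · rcases key i hi j hj k hk with ⟨rfl, rfl, rfl⟩ | h'
    · exact absurd (by simpa using (hu'.symm.trans f.map_one)) h
    · exact hf i j k ▸ h'.1
  · obtain ⟨n, hn, h5⟩ := big_chk i hi j hj k hk ((key' ..).2 h2) i' hi' j' hj' k' hk' ((key' ..).2 h3)
      (by simpa using (key' ..).2 h4)
    exact ⟨n, hn, h1 n ▸ (key' ..).1 h5⟩

end Cfsg.Agent.H6.Va
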