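import Cfsg.Agent.H6.Vn
import Cfsg.Agent.H6.Vi

/-!
`L₂(27)` fixes a vector.
-/

set_option autoImplicit false
set_option linter.unusedSectionVars false
set_option linter.unusedSimpArgs false

namespace Cfsg.Agent.H6.Va

open Matrix Module Cfsg.Agent.H6.E7 Cfsg.Agent.H7.Ord Finset
open Cfsg.Agent.H7.Inq hiding F

attribute [-simp] zsmul_eq_mul Matrix.mulVec_mulVec
attribute [local simp] mul_mulVec'

theorem Ei_idem {ι K : Type*} [Fintype ι] [DecidableEq ι] [Field K] [CharP K 2] {A B C : Matrix ι ι K} (hA : A ^ 3 = 1)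
    (hB : B ^ 3 = 1) (hC : C ^ 3 = 1) (h1 : Commute A B) (h2 : Commute A C) (h3 : Commute B C) :
    Ei ((1 + A + A ^ 2) * ((1 + B + B ^ 2) * (1 + C + C ^ 2))) 1 = Ei A 1 ⊓ (Ei B 1 ⊓ Ei C 1) := by
  have k1 : ∀ {A : Matrix ι ι K}, A ^ 3 = 1 → A * (1 + A + A ^ 2) = 1 + A + A ^ 2 := fun h => by
    rw [mul_add, mul_add, ← pow_succ', h, mul_one, ← pow_two]; abel
  have k2 : ∀ {A B : Matrix ι ι K}, Commute A B → Commute A (1 + B + B ^ 2) := fun h =>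
    ((Commute.one_right _).add_right h).add_right (h.pow_right 2)
  have k3 : ∀ {A : Matrix ι ι K} {v}, A *ᵥ v = v → (1 + A + A ^ 2) *ᵥ v = v := fun {A v} h => by
    rw [pow_two, add_mulVec, add_mulVec, one_mulVec, ← mulVec_mulVec, h, h, ← two_smul K v, CharTwo.two_eq_zero,
      zero_smul, zero_add]
  ext v
  simp only [Submodule.mem_inf, mem_Ei, one_smul]
  refine ⟨fun h => ⟨?_, ?_, ?_⟩, fun h => by rw [← mulVec_mulVec, ← mulVec_mulVec, k3 h.2.2, k3 h.2.1, k3 h.1]⟩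
  · rw [← h, mulVec_mulVec, ← mul_assoc, k1 hA]
  · rw [← h, mulVec_mulVec, ← mul_assoc, (k2 h1.symm).eq, mul_assoc, ← mul_assoc B, k1 hB]
  · rw [← h, mulVec_mulVec, ← mul_assoc, (k2 h2.symm).eq, mul_assoc, ← mul_assoc C, (k2 h3.symm).eq, mul_assoc, k1 hC]

theorem dm_fx3 {x y z : Γ} (h : EA 3 [x, y, z]) :
    dm (fx (ρV x) ⊓ (fx (ρV y) ⊓ fx (ρV z))) = mm 3 [x, y, z] [0, 0, 0] := by
  have hc := h.comm
  have hp := h.pow
  simp only [List.pairwise_cons, List.forall_mem_cons] at hc hp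
  obtain ⟨⟨h1, h2, -⟩, ⟨h3, -⟩, -⟩ := hc
  have k : ∀ {K : Type} [Field K] (ρ : Γ →* Matrix Wt Wt K) {x : Γ}, x ^ 3 = 1 → ρ x ^ 3 = 1 := fun ρ x h => by
    rw [← map_pow, h, map_one]
  rw [fx_eq, fx_eq, fx_eq, ← Ei_idem (k ρV hp.1) (k ρV hp.2.1) (k ρV hp.2.2.1) (h1.map ρV) (h2.map ρV) (h3.map ρV),
    ← fx_eq, mm]
  simp only [List.map_cons, List.map_nil, Eg, pow_zero, inf_top_eq]
  rw [← Ei_idem (k τ hp.1) (k τ hp.2.1) (k τ hp.2.2.1) (h1.map τ) (h2.map τ) (h3.map τ)]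
  refine (fd_up _).trans ?_
  simp only [map_mul, map_add, map_pow, map_one]
  rfl

theorem fix13 {a : Γ} (ha : a ^ 13 = 1) {Y : Submodule F (Wt → F)} (h : Iv (ρV a) Y) (h4 : dm Y = 4) :
    Y ≤ fx (ρV a) := by
  classical
  have := Fact.mk (show Nat.Prime 13 by norm_num)
  have := Fintype.ofFinite Y
  let f : Function.End Y := fun v => ⟨_, h v v.2⟩
  have h1 : ∀ n v, ((f ^ n) v).1 = ρV (a ^ n) *ᵥ v.1 := fun n v => by
    induction n with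
    | zero => simp; rfl
    | succ n ih => rw [pow_succ', pow_succ', map_mul, mul_mulVec', ← ih]; rfl
  have h2 := Equiv.Perm.card_fixedPoints_modEq (f := f) (p := 13) (n := 1)
    (funext fun v => Subtype.ext (by rw [h1, pow_one, ha]; simp; rfl))
  have h3 : Nat.card f.fixedPoints = Nat.card (Y ⊓ fx (ρV a) : Submodule F _) := Nat.card_congr
    ⟨fun v => ⟨v.1.1, v.1.2, congrArg Subtype.val v.2⟩, fun v => ⟨⟨v.1, v.2.1⟩, Subtype.ext v.2.2⟩, fun _ => rfl,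
      fun _ => rfl⟩
  rw [← Nat.card_eq_fintype_card, ← Nat.card_eq_fintype_card, h3, natCard_eq_pow_finrank (K := F),
    natCard_eq_pow_finrank (K := F) (V := (Y ⊓ fx (ρV a) : Submodule F _)), Nat.card_zmod] at h2
  have h5 : dm (Y ⊓ fx (ρV a)) ≤ dm Y := dm_mono inf_le_left
  refine inf_eq_left.1 (eq_of_dm inf_le_left ?_)
  change 2 ^ dm _ ≡ 2 ^ dm _ [MOD 13] at h2
  rw [h4] at *
  generalize dm (Y ⊓ fx (ρV a)) = n at *
  interval_cases n <;> simp [Nat.ModEq] at h2 ⊢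

section l27
variable {K : Type*} [Field K] [Fintype K] (hK : Fintype.card K = 27)
include hK

theorem exists_pw {ν : K} (h : ν ^ 13 = 1) (h1 : ν ≠ 1) (t : K) : ∃ j e : ℕ, t = ν ^ j * e := by
  have : CharP K 3 := charP_of_card_eq_prime_pow (p := 3) (f := 3) hK
  have := Fact.mk (show Nat.Prime 13 by norm_num)
  by_cases ht : t = 0
  · exact ⟨0, 0, by simp [ht]⟩
  obtain ⟨i, -, hi⟩ := (orderOf_eq_prime h h1 ▸ IsPrimitiveRoot.orderOf ν).eq_pow_of_pow_eq_one (ξ := t ^ 2)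
    (by rw [← pow_mul]; simpa [hK] using FiniteField.pow_card_sub_one_eq_one t ht)
  rcases sq_eq_sq_iff_eq_or_eq_neg.1 (show t ^ 2 = (ν ^ (7 * i)) ^ 2 by
    rw [← hi, ← pow_mul, show 7 * i * 2 = 13 * i + i by ring, pow_add, pow_mul, h, one_pow, one_mul]) with e | e
  · exact ⟨_, 1, by simpa using e⟩
  · exact ⟨7 * i, 2, by linear_combination e - ν ^ (7 * i) * CharP.cast_eq_zero K 3⟩

theorem exists_lam : ∃ x : K, x ^ 3 = x + 1 ∧ x ^ 13 = 1 ∧ x ^ 4 ≠ 1 := by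
  have : CharP K 3 := charP_of_card_eq_prime_pow (p := 3) (f := 3) hK
  have h3 : (3 : K) = 0 := CharP.cast_eq_zero K 3
  obtain ⟨x, hx⟩ := H4.T8.exists_root (F := K) (.X ^ 3 - .X - 1) (.X ^ 24 + .X ^ 22 + .X ^ 21 + .X ^ 20 + 2 * .X ^ 19 +
    2 * .X ^ 18 + .X ^ 16 + 2 * .X ^ 15 + .X ^ 14 + .X ^ 11 + .X ^ 9 + .X ^ 8 + .X ^ 7 + 2 * .X ^ 6 + 2 * .X ^ 5 +
    .X ^ 3 + 2 * .X ^ 2 + .X) (by monicity!) (by rw [hK]; compute_degree!) fun x => by simp [hK]; grind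
  simp only [Polynomial.eval_sub, Polynomial.eval_pow, Polynomial.eval_X, Polynomial.eval_one] at hx
  exact ⟨x, by grind, by grind, by grind⟩

theorem l27 {x : K} (hx : x ^ 3 = x + 1 ∧ x ^ 13 = 1 ∧ x ^ 4 ≠ 1) {U : K → Γ} {w a : Γ} {S : Subgroup Γ}
    (hU : ∀ s t, U (s + t) = U s * U t) (U1 : U 1 ≠ 1) (ha : ∀ t, a * U t * a⁻¹ = U (x ^ 2 * t)) (a13 : a ^ 13 = 1)
    (a1 : a ≠ 1) (haw : a * (w * a) = w) (hw : w * w = 1)
    (hB : ∀ t ≠ 0, ∃ j : ℕ, w * (U t * w) = U (-t⁻¹) * (w * (a ^ j * U (-t⁻¹))))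
    (gen : ∀ P : Subgroup Γ, w ∈ P → (∀ t, U t ∈ P) → S ≤ P) : fS S ≠ ⊥ := fun h0 => by
  classical
  have : CharP K 3 := charP_of_card_eq_prime_pow (p := 3) (f := 3) hK
  have h3 : (3 : K) = 0 := CharP.cast_eq_zero K 3
  have U0 : U 0 = 1 := mul_eq_left.1 ((hU 0 0).symm.trans (by rw [add_zero]))
  have Uc : ∀ s t, Commute (U s) (U t) := fun s t => by rw [commute_iff_eq, ← hU, ← hU, add_comm]
  have U3 : ∀ t, U t ^ 3 = 1 := fun t => by rw [pow_three, ← hU, ← hU, ← U0]; congr 1; grind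
  have E : EA 3 [U 1, U x, U (x ^ 2)] := ⟨by norm_num, by simp [U3], by simp [Uc]⟩
  have L := E.lab (σs := [db 3, tr 3 [[0, 0, 1], [1, 1, 0], [0, 1, 1]]]) (List.forall_mem_cons.2 ⟨E.mv_db, by
      simpa using E.mv_tr (c := a) (as := [[0, 0, 1], [1, 1, 0], [0, 1, 1]]) (by
        simp only [List.map_cons, List.map_nil, ha, pw, pow_zero, pow_one, one_mul, mul_one, ← hU]
        congr 3 <;> grind)⟩) (reps := [[0, 0, 0], [0, 0, 1]]) (k := 3) rfl (T :=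
    [(0, [], []), (1, [], []), (1, [0], [0]), (1, [1, 1, 1, 1, 1, 1, 1], [1, 1, 1, 1, 1, 1]), (1, [1, 1, 1, 1, 1,
    1, 1, 1], [1, 1, 1, 1, 1]), (1, [1, 1, 1, 1, 1, 1, 1, 1, 1, 1, 1], [1, 1]), (1, [1, 1, 1, 1, 1, 1, 1, 0],
    [1, 1, 1, 1, 1, 1, 0]), (1, [1, 1, 1, 1, 1, 1, 1, 1, 1, 1, 1, 0], [1, 1, 0]), (1, [1, 1, 1, 1, 1, 1, 1, 1,
    0], [1, 1, 1, 1, 1, 0]), (1, [1, 1, 1, 1, 1, 1], [1, 1, 1, 1, 1, 1, 1]), (1, [1], [1, 1, 1, 1, 1, 1, 1, 1,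
    1, 1, 1, 1]), (1, [1, 1, 1, 1, 0], [1, 1, 1, 1, 1, 1, 1, 1, 1, 0]), (1, [1, 1, 1, 1, 1, 1, 1, 1, 1, 1, 0],
    [1, 1, 1, 0]), (1, [1, 1], [1, 1, 1, 1, 1, 1, 1, 1, 1, 1, 1]), (1, [1, 1, 1, 1, 1, 1, 1, 1, 1], [1, 1, 1,
    1]), (1, [1, 1, 1, 1, 1, 1, 1, 1, 1, 1, 1, 1, 0], [1, 0]), (1, [1, 1, 1, 1, 1], [1, 1, 1, 1, 1, 1, 1, 1]),
    (1, [1, 1, 1], [1, 1, 1, 1, 1, 1, 1, 1, 1, 1]), (1, [1, 1, 1, 1, 1, 1, 0], [1, 1, 1, 1, 1, 1, 1, 0]), (1,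
    [1, 1, 1, 1], [1, 1, 1, 1, 1, 1, 1, 1, 1]), (1, [1, 0], [1, 1, 1, 1, 1, 1, 1, 1, 1, 1, 1, 1, 0]), (1, [1, 1,
    1, 1, 1, 1, 1, 1, 1, 1, 1, 1], [1]), (1, [1, 1, 1, 0], [1, 1, 1, 1, 1, 1, 1, 1, 1, 1, 0]), (1, [1, 1, 1, 1,
    1, 0], [1, 1, 1, 1, 1, 1, 1, 1, 0]), (1, [1, 1, 1, 1, 1, 1, 1, 1, 1, 1], [1, 1, 1]), (1, [1, 1, 1, 1, 1, 1,
    1, 1, 1, 0], [1, 1, 1, 1, 0]), (1, [1, 1, 0], [1, 1, 1, 1, 1, 1, 1, 1, 1, 1, 1, 0])]) (by decide +kernel)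
  have e0 := (mm_nil 3).symm.trans (L.eq (k := 3) rfl [] [] (cs := [1, 26]) (by decide +kernel))
  have e1 := (fd_eq 3 _).trans (L.eq (k := 3) rfl [[1, 0, 0]] [0] (cs := [1, 8]) (by decide +kernel))
  clear L
  have e2 := three (U3 1) U1
  have e3 := dm_fx3 E
  simp only [List.length_cons, List.length_nil, sum_range_succ, sum_range_zero, List.getD_cons_succ,
    List.getD_cons_zero, pw, pow_zero, pow_one, mul_one] at e0 e1
  generalize hY : fx (ρV (U 1)) ⊓ (fx (ρV (U x)) ⊓ fx (ρV (U (x ^ 2)))) = Y at e3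
  have d4 : dm Y = 4 := by omega
  have hY1 : ∀ v, v ∈ Y ↔ ∀ t, ρV (U t) *ᵥ v = v := fun v => ⟨fun hv t => by
    rw [← hY] at hv
    have k1 : ∀ n : ℕ, ρV (U (x ^ n)) *ᵥ v = v ∧ ρV (U (x ^ (n + 1))) *ᵥ v = v ∧ ρV (U (x ^ (n + 2))) *ᵥ v = v :=
      fun n => by
        induction n with
        | zero => simpa [mem_fx] using hv
        | succ n ih =>
          refine ⟨ih.2.1, ih.2.2, ?_⟩
          rw [show x ^ (n + 1 + 2) = x ^ (n + 1) + x ^ n by linear_combination x ^ n * hx.1, hU]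
          simp [ih]
    obtain ⟨j, e, rfl⟩ := exists_pw hK hx.2.1 (fun e => hx.2.2 (by simp [e])) t
    induction e with
    | zero => simp [U0]
    | succ e ih => rw [Nat.cast_succ, mul_add, hU]; simp [ih, k1], fun h => hY ▸ ⟨h _, h _, h _⟩⟩
  have hY2 : Y ≤ fx (ρV a) := fix13 a13 (fun v hv => (hY1 _).2 fun t => by
    obtain ⟨s, rfl⟩ := mul_left_surjective₀ (a := x ^ 2) (fun e => by grind) t
    simp only [← ha, map_mul, mul_mulVec']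
    rw [← mul_mulVec' (ρV a⁻¹), ← map_mul, inv_mul_cancel, map_one, one_mulVec, (hY1 v).1 hv]) d4
  have hww : ∀ v, ρV w *ᵥ ρV w *ᵥ v = v := fun v => by rw [← mul_mulVec', ← map_mul, hw, map_one, one_mulVec]
  have hS : ∀ v, ρV w *ᵥ v = v → (∀ t, ρV (U t) *ᵥ v = v) → v = 0 := fun v h1 h2 =>
    h0.le (mem_fS.2 (let _ := actV; gen (MulAction.stabilizer Γ v) h1 h2))
  have k1 : ∀ y ∈ Y, ∀ z ∈ Y, β (y + ρV w *ᵥ y) z = 0 := fun y hy z hz => by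
    have k2 := hS (y + ∑ t, ρV (U t) *ᵥ ρV w *ᵥ y) (by
      have k3 : ∀ t, ρV w *ᵥ ρV (U t) *ᵥ ρV w *ᵥ y =
          ρV (U (-t⁻¹)) *ᵥ ρV w *ᵥ y + if t = 0 then y + ρV w *ᵥ y else 0 := fun t => by
        split_ifs with ht
        · simp only [ht, _root_.inv_zero, neg_zero, U0, map_one, one_mulVec, hww]
          rw [add_left_comm, add_self, add_zero]
        · obtain ⟨j, hj⟩ := hB t ht
          have := congrArg (ρV · *ᵥ y) hj
          simp only [map_mul, mul_mulVec', (hY1 y).1 hy] at this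
          rw [this, pow_mem (self_mem_cl ρV a) j y (hY2 hy), add_zero]
      simp only [mulVec_add, mulVec_sum, k3, sum_add_distrib, sum_ite_eq', mem_univ, if_true]
      rw [show ∑ t, ρV (U (-t⁻¹)) *ᵥ ρV w *ᵥ y = _ from Equiv.sum_comp ((Equiv.inv K).trans (Equiv.neg K))
        fun t => ρV (U t) *ᵥ ρV w *ᵥ y, add_left_comm, add_left_comm _ y, add_self, add_zero, add_comm]) fun s => by
      simp only [mulVec_add, mulVec_sum, (hY1 y).1 hy, ← mul_mulVec' (ρV (U s)), ← map_mul, ← hU]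
      exact congrArg _ (Equiv.sum_comp (Equiv.addLeft s) fun t => ρV (U t) *ᵥ ρV w *ᵥ y)
    have k3 : ∀ t, β (ρV (U t) *ᵥ ρV w *ᵥ y) z = β (ρV w *ᵥ y) z := fun t => by
      rw [← β_inv (U t) (ρV w *ᵥ y) z, (hY1 z).1 hz]
    have k4 := congrArg (β · z) k2
    simp only [β_add_left, β_zero_left] at k4 ⊢
    rw [β, β, sum_dotProduct] at k4
    simp only [← β.eq_def, k3, sum_const, card_univ, hK] at k4
    rwa [show 27 • β (ρV w *ᵥ y) z = β (ρV w *ᵥ y) z by generalize β _ _ = c; revert c; decide] at k4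
  have k2 : Y.map (toLin' (ρV w)) ≤ fx (ρV a) := by
    rintro _ ⟨y, hy, rfl⟩
    have := congrArg (ρV · *ᵥ y) haw
    simpa [mem_fx, mem_fx.1 (hY2 hy)] using this
  have k9 : ∀ y ∈ Y, y + ρV w *ᵥ y = 0 → y = 0 := fun y hy e => hS y (by
    rw [← zero_add (_ *ᵥ y), ← add_self y, add_assoc, e, add_zero]) ((hY1 y).1 hy)
  have k3 : Y ⊓ Y.map (toLin' (ρV w)) = ⊥ := eq_bot_iff.2 (by
    rintro _ ⟨h1, y, hy, rfl⟩
    rw [k9 y hy (hS _ (by rw [mulVec_add, hww, add_comm]) ((hY1 _).1 (add_mem hy h1))), map_zero]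
    rfl)
  have k4 := dm_sup Y (Y.map (toLin' (ρV w)))
  have k5 : dm Y ≤ dm (Y.map (toLin' (ρV w))) := dm_le_of_mul (P := ρV w) (Q := ρV w) (by rw [← map_mul, hw, map_one])
    fun v hv => ⟨v, hv, rfl⟩
  have k6 := f13 a13 a1
  rw [k3, dm_eq_zero.2 rfl] at k4
  have k7 := eq_of_dm (sup_le hY2 k2) (by change fd _ ≤ _; omega)
  have k8 : Y = ⊥ := eq_bot_iff.2 fun y hy => k9 y hy (nd a13 (by decide) (add_mem (hY2 hy) (k2 ⟨y, hy, rfl⟩))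
    fun t ht => by
      obtain ⟨z, hz, _, ⟨z', hz', rfl⟩, rfl⟩ := Submodule.mem_sup.1 (k7.ge ht)
      have := β_inv w (y + ρV w *ᵥ y) z'
      rw [mulVec_add, hww, add_comm] at this
      rw [toLin'_apply, β_add_right, this, k1 y hy z hz, k1 y hy z' hz', add_zero])
  rw [k8, dm_eq_zero.2 rfl] at d4
  omega

end l27

end Cfsg.Agent.H6.Va
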