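import Cfsg.Agent.H8.G32

set_option autoImplicit false
set_option maxRecDepth 100000

/-! The reflection group `3[3]3[3]3[3]3` over the Eisenstein integers. -/

namespace Cfsg.Agent.H6.W
open Cfsg Matrix Cfsg.Agent.Asch Cfsg.Agent.H2.M4 commutatorElement

abbrev R := QuadraticAlgebra ℤ (-1) (-1)

def sR : Fin 4 → Matrix (Fin 4) (Fin 4) R :=
  ![!![⟨0,1⟩, 1, 0, 0; 0, 1, 0, 0; 0, 0, 1, 0; 0, 0, 0, 1],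
    !![1, 0, 0, 0; ⟨0,-1⟩, ⟨0,1⟩, 1, 0; 0, 0, 1, 0; 0, 0, 0, 1],
    !![1, 0, 0, 0; 0, 1, 0, 0; 0, ⟨0,-1⟩, ⟨0,1⟩, 1; 0, 0, 0, 1],
    !![1, 0, 0, 0; 0, 1, 0, 0; 0, 0, 1, 0; 0, 0, ⟨0,-1⟩, ⟨0,1⟩]]

theorem sR_cube : ∀ i, sR i * (sR i * sR i) = 1 ∧ sR i * sR i * sR i = 1 := by decide +kernel

def gR (i : Fin 4) : GL (Fin 4) R := ⟨sR i, sR i * sR i, (sR_cube i).1, (sR_cube i).2⟩

def Γ : Subgroup (GL (Fin 4) R) := Subgroup.closure (Set.range gR)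

def rts : List (Fin 4 → R) := [
  ![⟨1,0⟩,⟨0,0⟩,⟨0,0⟩,⟨0,0⟩],
  ![⟨0,0⟩,⟨1,0⟩,⟨0,0⟩,⟨0,0⟩],
  ![⟨0,0⟩,⟨0,0⟩,⟨1,0⟩,⟨0,0⟩],
  ![⟨0,0⟩,⟨0,0⟩,⟨0,0⟩,⟨1,0⟩],
  ![⟨1,0⟩,⟨0,-1⟩,⟨0,0⟩,⟨0,0⟩],
  ![⟨1,0⟩,⟨1,0⟩,⟨0,0⟩,⟨0,0⟩],
  ![⟨0,0⟩,⟨1,0⟩,⟨0,-1⟩,⟨0,0⟩],
  ![⟨0,0⟩,⟨1,0⟩,⟨1,0⟩,⟨0,0⟩],
  ![⟨0,0⟩,⟨0,0⟩,⟨1,0⟩,⟨0,-1⟩],
  ![⟨0,0⟩,⟨0,0⟩,⟨1,0⟩,⟨1,0⟩],
  ![⟨1,0⟩,⟨0,-1⟩,⟨-1,-1⟩,⟨0,0⟩],
  ![⟨1,0⟩,⟨1,0⟩,⟨0,-1⟩,⟨0,0⟩],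
  ![⟨0,0⟩,⟨1,0⟩,⟨0,-1⟩,⟨-1,-1⟩],
  ![⟨1,0⟩,⟨1,0⟩,⟨1,0⟩,⟨0,0⟩],
  ![⟨0,0⟩,⟨1,0⟩,⟨1,0⟩,⟨0,-1⟩],
  ![⟨0,0⟩,⟨1,0⟩,⟨1,0⟩,⟨1,0⟩],
  ![⟨1,0⟩,⟨0,-1⟩,⟨0,-1⟩,⟨0,0⟩],
  ![⟨1,0⟩,⟨0,-1⟩,⟨-1,-1⟩,⟨-1,0⟩],
  ![⟨1,0⟩,⟨1,0⟩,⟨0,-1⟩,⟨-1,-1⟩],
  ![⟨0,0⟩,⟨1,0⟩,⟨0,-1⟩,⟨0,-1⟩],
  ![⟨1,0⟩,⟨1,0⟩,⟨1,0⟩,⟨0,-1⟩],
  ![⟨1,0⟩,⟨1,0⟩,⟨1,0⟩,⟨1,0⟩],
  ![⟨1,0⟩,⟨1,-1⟩,⟨0,-1⟩,⟨0,0⟩],
  ![⟨1,0⟩,⟨0,-1⟩,⟨0,-1⟩,⟨-1,-1⟩],
  ![⟨1,0⟩,⟨0,-1⟩,⟨-1,-1⟩,⟨-1,-1⟩],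
  ![⟨1,0⟩,⟨1,0⟩,⟨0,-1⟩,⟨0,-1⟩],
  ![⟨0,0⟩,⟨1,0⟩,⟨1,-1⟩,⟨0,-1⟩],
  ![⟨1,0⟩,⟨0,-1⟩,⟨0,-1⟩,⟨0,-1⟩],
  ![⟨1,0⟩,⟨1,-1⟩,⟨0,-1⟩,⟨-1,-1⟩],
  ![⟨1,0⟩,⟨0,-1⟩,⟨-1,-2⟩,⟨-1,-1⟩],
  ![⟨1,0⟩,⟨1,0⟩,⟨1,-1⟩,⟨0,-1⟩],
  ![⟨1,0⟩,⟨1,-1⟩,⟨0,-1⟩,⟨0,-1⟩],
  ![⟨1,0⟩,⟨1,-1⟩,⟨-1,-2⟩,⟨-1,-1⟩],
  ![⟨1,0⟩,⟨0,-2⟩,⟨-1,-2⟩,⟨-1,-1⟩],
  ![⟨1,0⟩,⟨1,-1⟩,⟨1,-1⟩,⟨0,-1⟩],
  ![⟨1,0⟩,⟨1,-1⟩,⟨0,-2⟩,⟨0,-1⟩],
  ![⟨1,0⟩,⟨1,-1⟩,⟨0,-2⟩,⟨-1,-1⟩],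
  ![⟨1,0⟩,⟨2,0⟩,⟨1,-1⟩,⟨0,-1⟩],
  ![⟨1,0⟩,⟨1,-1⟩,⟨0,-2⟩,⟨-1,-2⟩],
  ![⟨-2,-1⟩,⟨-2,0⟩,⟨-1,1⟩,⟨0,1⟩]]

theorem c_perm : ∀ i, ∀ r ∈ rts, ∃ s ∈ rts, ∃ u ∈ ([⟨1,0⟩,⟨0,1⟩,⟨-1,-1⟩,⟨-1,0⟩,⟨0,-1⟩,⟨1,1⟩] : List R),
    ∀ a, (sR i *ᵥ r) a = u * s a := by decide +kernel

/-- a frame of roots -/
def fr : List (Fin 4 → R) := [![1,0,0,0], ![0,1,0,0], ![0,0,1,0], ![0,0,0,1], ![1,1,1,1]]

theorem c_fr : ∀ r ∈ fr, r ∈ rts ∧ ∀ s ∈ rts, s = r ∨ ∃ a b, (r a * s b - r b * s a) * star (r a * s b - r b * s a) = 1 ∨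
    (r a * s b - r b * s a) * star (r a * s b - r b * s a) = 3 := by decide +kernel

def C : Matrix (Fin 4) (Fin 4) R := !![⟨-1,1⟩, ⟨0,-1⟩, ⟨0,0⟩, ⟨0,0⟩; ⟨1,0⟩, ⟨-1,1⟩, ⟨0,-1⟩, ⟨0,0⟩; ⟨0,0⟩, ⟨1,0⟩, ⟨-1,1⟩, ⟨0,-1⟩; ⟨0,0⟩, ⟨0,0⟩, ⟨1,0⟩, ⟨-1,1⟩]
def D : Matrix (Fin 4) (Fin 4) R := !![⟨-2,-1⟩, ⟨-2,0⟩, ⟨-1,1⟩, ⟨0,1⟩; ⟨-2,-2⟩, ⟨-4,-2⟩, ⟨-3,0⟩, ⟨-1,1⟩; ⟨-1,-2⟩, ⟨-3,-3⟩, ⟨-4,-2⟩, ⟨-2,0⟩; ⟨0,-1⟩, ⟨-1,-2⟩, ⟨-2,-2⟩, ⟨-2,-1⟩]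

theorem c_CD : C * D = 1 ∧ D * C = 1 ∧ ∀ i, (sR i)ᵀ * C * (sR i).map star = C := by decide +kernel

theorem induct {p : Matrix (Fin 4) (Fin 4) R → Prop} (h1 : p 1) (hs : ∀ i X, p X → p (sR i * X)) :
    ∀ g ∈ Γ, p g.val := by
  intro g hg
  induction hg using Subgroup.closure_induction_left with
  | one => exact h1
  | mul_left x hx y _ ih => obtain ⟨i, rfl⟩ := hx; exact hs i _ ih
  | inv_mul_cancel x hx y _ ih =>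
    obtain ⟨i, rfl⟩ := hx
    have := hs i _ (hs i _ ih)
    rwa [← Matrix.mul_assoc] at this

theorem perm : ∀ g ∈ Γ, ∀ r ∈ rts, ∃ s ∈ rts, ∃ u : R, g.val *ᵥ r = u • s := by
  refine induct (p := fun X => ∀ r ∈ rts, ∃ s ∈ rts, ∃ u : R, X *ᵥ r = u • s) (fun r hr => ⟨r, hr, 1, by simp⟩)
    fun i X ih r hr => ?_
  obtain ⟨s, hs, u, e⟩ := ih r hr
  obtain ⟨t, ht, u', -, e'⟩ := c_perm i s hs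
  refine ⟨t, ht, u * u', ?_⟩
  rw [← Matrix.mulVec_mulVec, e, Matrix.mulVec_smul, funext e']
  ext1 a; simp [mul_assoc]

theorem form : ∀ g ∈ Γ, g.valᵀ * C * g.val.map star = C := by
  refine induct (p := fun X => Xᵀ * C * X.map star = C) (by simp) fun i X ih => ?_
  have : (sR i * X).map star = (sR i).map star * X.map star := Matrix.map_mul (f := starRingEnd R)
  rw [this, Matrix.transpose_mul]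
  conv_rhs => rw [← ih, ← c_CD.2.2 i]
  simp only [Matrix.mul_assoc]

theorem tr_inv (g : GL (Fin 4) R) (hg : g ∈ Γ) : (g⁻¹).val.trace = star g.val.trace := by
  have h := form g hg
  have : (g⁻¹).valᵀ = C * g.val.map star * D := by
    have h2 : (g⁻¹).valᵀ * g.valᵀ = 1 := by rw [← Matrix.transpose_mul, Units.mul_inv, Matrix.transpose_one]
    calc _ = (g⁻¹).valᵀ * (g.valᵀ * C * g.val.map star) * D := by rw [h, Matrix.mul_assoc, c_CD.1, Matrix.mul_one]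
      _ = _ := by rw [← Matrix.mul_assoc, ← Matrix.mul_assoc, h2, Matrix.one_mul]
  rw [← Matrix.trace_transpose, this, Matrix.trace_mul_cycle, c_CD.2.1, Matrix.one_mul]
  exact (AddMonoidHom.map_trace (starRingEnd R) g.val).symm

variable {K : Type*} [Field K]

/-- the map to a field -/
def φ (ω : K) (h : ω ^ 2 + ω + 1 = 0) : R →+* K where
  toFun z := z.re + z.im * ω
  map_one' := by simp [QuadraticAlgebra.re_one, QuadraticAlgebra.im_one]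
  map_zero' := by simp
  map_add' x y := by simp; ring
  map_mul' x y := by
    simp only [QuadraticAlgebra.re_mul, QuadraticAlgebra.im_mul]; push_cast
    linear_combination (-(x.im : K) * y.im) * h

theorem φ_apply (ω : K) (h : ω ^ 2 + ω + 1 = 0) (z : R) : φ ω h z = z.re + z.im * ω := rfl

theorem φ_star (ω : K) (h : ω ^ 2 + ω + 1 = 0) (z : R) : φ ω h (star z) = z.re + z.im * ω ^ 2 := by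
  simp only [φ_apply, QuadraticAlgebra.re_star, QuadraticAlgebra.im_star]; push_cast
  linear_combination (-(z.im : K)) * h

theorem φ_sR (ω : K) (h : ω ^ 2 + ω + 1 = 0) (i : Fin 4) : (sR i).map (φ ω h) = H8.G32.sg ω i := by
  ext a b
  fin_cases i <;> fin_cases a <;> fin_cases b <;> simp [sR, H8.G32.sg, φ_apply, QuadraticAlgebra.re_one, QuadraticAlgebra.im_one]

/-- an element which is scalar over a field is scalar -/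
theorem scalar (f : R →+* K) (h3 : (3 : K) ≠ 0) {g : GL (Fin 4) R} (hg : g ∈ Γ) {c : K}
    (hc : g.val.map f = c • (1 : M4 K)) : ∃ u : R, g.val = u • (1 : Matrix (Fin 4) (Fin 4) R) := by
  have hc0 : c ≠ 0 := ne_zero_of_eq_smul (g := Matrix.GeneralLinearGroup.map f g) hc
  have key : ∀ r ∈ fr, ∃ u : R, g.val *ᵥ r = u • r := fun r hr => by
    obtain ⟨h1, h2⟩ := c_fr r hr
    obtain ⟨s, hs, u, e⟩ := perm g hg r h1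
    rcases h2 s hs with rfl | ⟨a, b, h2⟩
    · exact ⟨u, e⟩
    have e1 : ∀ a, c * f (r a) = f u * f (s a) := fun a => by
      have := RingHom.map_mulVec f g.val r a
      rw [e, hc] at this
      simpa [Matrix.smul_mulVec] using this.symm
    have e2 : f (r a * s b - r b * s a) = 0 := by
      apply mul_left_cancel₀ hc0
      simp only [map_sub, map_mul]
      linear_combination f (s b) * e1 a - f (s a) * e1 b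
    rcases h2 with h2 | h2
    · have := congrArg f h2
      rw [map_mul, e2] at this; simp at this
    · have := congrArg f h2
      rw [map_mul, e2, map_ofNat] at this; simp at this; exact absurd this.symm h3
  obtain ⟨u0, e0⟩ := key _ (show ![1,0,0,0] ∈ fr by simp [fr])
  obtain ⟨u1, e1⟩ := key _ (show ![0,1,0,0] ∈ fr by simp [fr])
  obtain ⟨u2, e2⟩ := key _ (show ![0,0,1,0] ∈ fr by simp [fr])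
  obtain ⟨u3, e3⟩ := key _ (show ![0,0,0,1] ∈ fr by simp [fr])
  obtain ⟨u, e⟩ := key _ (show ![1,1,1,1] ∈ fr by simp [fr])
  refine ⟨u, ?_⟩
  have k := fun a => And.intro (congrFun e0 a) (And.intro (congrFun e1 a) (And.intro (congrFun e2 a)
    (And.intro (congrFun e3 a) (congrFun e a))))
  have k0 := k 0; have k1 := k 1; have k2 := k 2; have k3 := k 3
  simp [Matrix.mulVec, dotProduct, Fin.sum_univ_four] at k0 k1 k2 k3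
  ext1 a b
  fin_cases a <;> fin_cases b <;> simp <;> grind

/-- the representation over a field -/
def ρ (f : R →+* K) (Q : G4 K) : GL (Fin 4) R →* G4 K :=
  (MulAut.conj Q).toMonoidHom.comp (Matrix.GeneralLinearGroup.map f)

theorem ρ_val (f : R →+* K) (Q : G4 K) (g : GL (Fin 4) R) : (ρ f Q g).val = cj Q (g.val.map f) := rfl

theorem G_eq (ω : K) (h : ω ^ 2 + ω + 1 = 0) (Q : G4 K) : H8.G32.G ω Q = Γ.map (ρ (φ ω h) Q) := by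
  rw [Γ, MonoidHom.map_closure, H8.G32.G]
  congr 1
  ext g
  constructor
  · rintro ⟨i, e⟩
    exact ⟨_, ⟨i, rfl⟩, Units.ext (by rw [e, ρ_val, ← φ_sR ω h]; rfl)⟩
  · rintro ⟨_, ⟨i, rfl⟩, rfl⟩
    exact ⟨i, by rw [ρ_val, ← φ_sR ω h]; rfl⟩

theorem ker_iff (f : R →+* K) (h3 : (3 : K) ≠ 0) (Q : G4 K) {g : GL (Fin 4) R} (hg : g ∈ Γ) :
    pr (ρ f Q g) = 1 ↔ ∃ u : R, g.val = u • (1 : Matrix (Fin 4) (Fin 4) R) := by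
  rw [pr_eq_one']
  constructor
  · rintro ⟨c, hc⟩
    refine scalar f h3 hg (c := c) ?_
    rw [ρ_val] at hc
    rw [← H2.M4.cj_inv_cj Q (g.val.map f), hc]; simp
  · rintro ⟨u, hu⟩
    refine ⟨f u, ?_⟩
    have : g.val.map f = f u • (1 : M4 K) := by
      rw [hu]; ext a b; by_cases h : a = b <;> simp [h]
    rw [ρ_val, this]; simp

theorem iso_of_ker {A B B' : Type*} [Group A] [Group B] [Group B'] (S : Subgroup A) (f : A →* B) (f' : A →* B')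
    (h : ∀ g ∈ S, f g = 1 ↔ f' g = 1) : Nonempty (S.map f ≃* S.map f') := by
  exact ⟨((MulEquiv.subgroupCongr (by rw [MonoidHom.range_comp, Subgroup.range_subtype])).trans
    (QuotientGroup.quotientKerEquivRange (f.comp S.subtype)).symm).trans
    ((QuotientGroup.quotientMulEquivOfEq (by ext x; exact h x.1 x.2)).trans
    ((QuotientGroup.quotientKerEquivRange (f'.comp S.subtype)).trans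
      (MulEquiv.subgroupCongr (by rw [MonoidHom.range_comp, Subgroup.range_subtype]))))⟩

theorem iso_bar {L : Type*} [Field L] (ω : K) (h : ω ^ 2 + ω + 1 = 0) (h3 : (3 : K) ≠ 0) (Q : G4 K)
    (ω' : L) (h' : ω' ^ 2 + ω' + 1 = 0) (h3' : (3 : L) ≠ 0) (Q' : G4 L) :
    Nonempty (bar (H8.G32.G ω Q) ≃* bar (H8.G32.G ω' Q')) := by
  rw [G_eq ω h, G_eq ω' h', bar, bar, Subgroup.map_map, Subgroup.map_map]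
  exact iso_of_ker _ _ _ fun g hg => (ker_iff _ h3 Q hg).trans (ker_iff _ h3' Q' hg).symm

theorem le_of_bar {P S : Subgroup (G4 K)} (hp : ⁅P, P⁆ = P) (h : bar P ≤ bar S) : P ≤ S := by
  rw [← hp, Subgroup.commutator_le]
  intro x hx y hy
  obtain ⟨x', hx', e⟩ := h (mem_bar hx)
  obtain ⟨y', hy', e'⟩ := h (mem_bar hy)
  obtain ⟨c, hc⟩ := pr_eq_iff.1 e.symm
  obtain ⟨d, hd⟩ := pr_eq_iff.1 e'.symm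
  have : ⁅x, y⁆ = ⁅x', y'⁆ := Units.ext (by
    simp only [commutatorElement_def, Units.val_mul, inv_of_smul hc, inv_of_smul hd, hc, hd, Matrix.smul_mul,
      Matrix.mul_smul, smul_smul]
    have := ne_zero_of_eq_smul hc
    have := ne_zero_of_eq_smul hd
    rw [show d⁻¹ * (c⁻¹ * (d * c)) = 1 by field_simp, one_smul])
  rw [this, commutatorElement_def]
  exact mul_mem (mul_mem (mul_mem hx' hy') (inv_mem hx')) (inv_mem hy')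

theorem traces (ω : K) (h : ω ^ 2 + ω + 1 = 0) (Q : G4 K) (x : G4 K) (hx : x ∈ H8.G32.G ω Q) :
    ∃ a b : ℤ, T x = a + b * ω ∧ T x⁻¹ = a + b * ω ^ 2 := by
  rw [G_eq ω h] at hx
  obtain ⟨g, hg, rfl⟩ := hx
  have e : ∀ g : GL (Fin 4) R, T (ρ (φ ω h) Q g) = φ ω h g.val.trace := fun g => by
    rw [T, ρ_val, trace_cj]; exact (AddMonoidHom.map_trace (φ ω h) g.val).symm
  exact ⟨g.val.trace.re, g.val.trace.im, e g, by rw [← map_inv, e, tr_inv g hg, φ_star]⟩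

end Cfsg.Agent.H6.W
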