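import Cfsg.Agent.H6.W1
import Cfsg.Agent.H2.M4g
import Cfsg.Agent.Asch.F4

set_option autoImplicit false
set_option maxRecDepth 100000

/-! The reflection group `3[3]3[3]3[3]3` is `U₄(2)` modulo scalars. -/

namespace Cfsg.Agent.H6.W
open Cfsg Matrix Cfsg.Agent.Asch Cfsg.Agent.H2.M4

instance fF4 : Field F4 :=
  { (inferInstance : CommRing F4) with
    inv := fun x => x * x
    exists_pair_ne := ⟨0, 1, by decide⟩
    mul_inv_cancel := by decide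
    inv_zero := rfl
    nnqsmul := _
    nnqsmul_def := fun _ _ => rfl
    qsmul := _
    qsmul_def := fun _ _ => rfl }

def B4 : M4 F4 := !![.o, .w, .z, .z; .z, .z, .z, .o; .z, .o, .z, .v; .z, .o, .w, .v]
def B4i : M4 F4 := !![.o, .o, .w, .z; .z, .v, .o, .z; .z, .z, .v, .v; .z, .o, .z, .z]
def t4 : Fin 4 → M4 F4 := ![!![.w, .z, .z, .z; .z, .o, .z, .z; .z, .z, .o, .z; .z, .z, .z, .o],
  !![.w, .z, .o, .o; .z, .o, .z, .z; .w, .z, .w, .v; .w, .z, .v, .w],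
  !![.o, .z, .z, .z; .z, .o, .z, .z; .z, .z, .o, .z; .z, .z, .z, .w],
  !![.o, .z, .z, .z; .z, .w, .o, .o; .z, .w, .w, .v; .z, .w, .v, .w]]

theorem c_B : B4 * B4i = 1 ∧ B4i * B4 = 1 ∧ ∀ i, B4 * H8.G32.sg F4.w i * B4i = t4 i ∧ t4 i * (t4 i * t4 i) = 1 ∧
    t4 i * t4 i * t4 i = 1 ∧ (t4 i)ᵀ * (t4 i).map (fun x => x * x) = 1 := by decide +kernel

def Q4 : G4 F4 := ⟨B4, B4i, c_B.1, c_B.2.1⟩
def g4 (i : Fin 4) : G4 F4 := ⟨t4 i, t4 i * t4 i, (c_B.2.2 i).2.1, (c_B.2.2 i).2.2.1⟩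

def e4 (k : ℕ) : F4 := bif Nat.ble k 1 then (bif Nat.ble k 0 then .z else .o) else bif Nat.ble k 2 then .w else .v
def c4 : F4 → ℕ | .z => 0 | .o => 1 | .w => 2 | .v => 3
def dc (n : ℕ) : Fin 4 → F4 := ![e4 (n % 4), e4 (n / 4 % 4), e4 (n / 16 % 4), e4 (n / 64 % 4)]
def tb : Fin 4 → ℕ := ![0xfdfffefcf9fbfaf8f5f7f6f4f1f3f2f0edefeeece9ebeae8e5e7e6e4e1e3e2e0dddfdedcd9dbdad8d5d7d6d4d1d3d2d0cdcfceccc9cbcac8c5c7c6c4c1c3c2c0bdbfbebcb9bbbab8b5b7b6b4b1b3b2b0adafaeaca9abaaa8a5a7a6a4a1a3a2a09d9f9e9c999b9a9895979694919392908d8f8e8c898b8a8885878684818382807d7f7e7c797b7a7875777674717372706d6f6e6c696b6a6865676664616362605d5f5e5c595b5a5855575654515352504d4f4e4c494b4a4845474644414342403d3f3e3c393b3a3835373634313332302d2f2e2c292b2a2825272624212322201d1f1e1c191b1a1815171614111312100d0f0e0c090b0a080507060401030200,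
  0xad0f5efca90b5af8a50756f4a10352f04ceebf1d48eabb1944e6b71540e2b311df7d2c8edb79288ad7752486d37120823e9ccd6f3a98c96b3694c5673290c1631cbeef4d18baeb4914b6e74510b2e341fd5f0eacf95b0aa8f55706a4f15302a06ecc9d3f6ac8993b66c4953762c091338f2d7cde8b2978da872574d6832170d27fdd8c2e7bd9882a77d5842673d180229e3c6dcf9a3869cb963465c7923061c30daffe5c09abfa5805a7f65401a3f250ec4e1fbde84a1bb9e44617b5e04213b1ce6c3d9fca68399bc6643597c26031932f8ddc7e2b89d87a2785d4762381d072bc1e4fedb81a4be9b41647e5b01243e15dffae0c59fbaa0855f7a60451f3a200,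
  0x7f7e7d7c7b7a797877767574737271706f6e6d6c6b6a696867666564636261605f5e5d5c5b5a595857565554535251504f4e4d4c4b4a49484746454443424140fffefdfcfbfaf9f8f7f6f5f4f3f2f1f0efeeedecebeae9e8e7e6e5e4e3e2e1e0dfdedddcdbdad9d8d7d6d5d4d3d2d1d0cfcecdcccbcac9c8c7c6c5c4c3c2c1c0bfbebdbcbbbab9b8b7b6b5b4b3b2b1b0afaeadacabaaa9a8a7a6a5a4a3a2a1a09f9e9d9c9b9a999897969594939291908f8e8d8c8b8a898887868584838281803f3e3d3c3b3a393837363534333231302f2e2d2c2b2a292827262524232221201f1e1d1c1b1a191817161514131211100f0e0d0c0b0a09080706050403020100,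
  0xa7a6a5a40f0e0d0c5b5a5958f3f2f1f043424140ebeae9e8bfbebdbc17161514dfdedddc77767574232221208b8a89883b3a393893929190c7c6c5c46f6e6d6c13121110bbbab9b8efeeedec47464544f7f6f5f45f5e5d5c0b0a0908a3a2a1a06b6a6968c3c2c1c0979695943f3e3d3c8f8e8d8c2726252473727170dbdad9d87f7e7d7cd7d6d5d4838281802b2a29289b9a99983332313067666564cfcecdcc07060504afaeadacfbfaf9f853525150e3e2e1e04b4a49481f1e1d1cb7b6b5b4cbcac9c863626160373635349f9e9d9c2f2e2d2c87868584d3d2d1d07b7a7978b3b2b1b01b1a19184f4e4d4ce7e6e5e457565554fffefdfcabaaa9a803020100]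
def ac (i : Fin 4) (n : ℕ) : ℕ := (tb i >>> (8 * n)) % 256
def WL : List (List (List (Fin 4))) := [[[],[],[0,0],[0],[1,2,2,1,3,2,2,3],[],[],[],[0,0,1,2,2,1,3,2,2,3],[],[],[],[0,1,2,2,1,3,2,2,3],[],[],[],[0,0,1,2,2,1],[],[],[],[],[0,0,1,2,2,3,3],[1,1,2,2,3,3],[0,0,1,0,2,2,3,3],[],[1,2,3,3,2,1],[1,2,3,3,2,1,0,0],[1,2,3,3,2,1,0],[],[0,1,0,2,3],[0,1,2,3],[0,0,1,1,2,3],[0,1,2,2,1],[],[],[],[],[0,1,1,2,3],[1,0,2,3],[1,2,3],[],[0,1,0,2,2,3,3],[0,1,2,2,3,3],[0,0,1,1,2,2,3,3],[],[1,1,2,3,3,2,1,1],[0,0,1,2,3,3,2,1],[1,1,2,3,3,2,1,1,0],[1,2,2,1],[],[],[],[],[0,1,2,3,3,2,1,0,0],[0,1,2,3,3,2,1,0],[0,1,2,3,3,2,1],[],[0,0,1,2,3],[1,1,2,3],[0,0,1,0,2,3],[],[0,1,1,2,2,3,3],[1,0,2,2,3,3],[1,2,2,3,3],[0,1,0,2,1],[],[],[],[],[0,1,0,2,3,3],[0,1,2,3,3],[0,0,1,1,2,3,3],[],[0,1,1,2,3,3,2],[1,0,2,3,3,2],[1,2,3,3,2],[],[0,0,1,2,2,3],[1,1,2,2,3],[0,0,1,0,2,2,3]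,[],[0,1,1],[1,0],[1],[0,1,2,2,1,3,2,2],[],[],[],[0,0,1,0,2,1,3,2],[],[],[],[1,2,2,1,3,3,2],[],[],[],[],[0,0,1,2],[1,1,2],[0,0,1,0,2],[0,0,1,1,2,3,3,2,1],[],[],[],[1,2,2,1,3],[],[],[],[0,0,1,0,2,1,3,3],[],[],[],[],[0,1,0,2,2],[0,1,2,2],[0,0,1,1,2,2],[1,0,2,1,3],[],[],[],[0,1,2,2,1,3,3],[],[],[],[0,0,1,2,2,1,3,2],[],[],[],[1,0,2,1],[],[],[],[],[0,1,0,2,2,3],[0,1,2,2,3],[0,0,1,1,2,2,3],[],[0,1,1,2,3,3],[1,0,2,3,3],[1,2,3,3],[],[0,0,1,2,3,3,2],[1,1,2,3,3,2],[0,0,1,0,2,3,3,2],[],[0,1,1,2,2],[1,0,2,2],[1,2,2],[0,1,2,2,1,3,2],[],[],[],[0,0,1,0,2,1,3],[],[],[],[1,2,2,1,3,3],[],[],[],[],[0,0,1],[1,1],[0,0,1,0],[0,0,1,2,2,1,3,3,2],[],[],[],[1,2,2,1,3,2,2],[],[],[],[0,1,0,2,1,3,2],[],[],[],[],[0,1,0,2],[0,1,2],[0,0,1,1,2],[0,1,0,2,1,3,3],[],[],[],[0,1,1,2,3,3,2,1],[],[],[],[0,0,1,2,2,1,3],[],[],[],[0,0,1,0,2,1],[],[],[],[],[0,1,0,2,3,3,2],[0,1,2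,3,3,2],[0,0,1,1,2,3,3,2],[],[0,1,1,2,2,3],[1,0,2,2,3],[1,2,2,3],[],[0,0,1,2,3,3],[1,1,2,3,3],[0,0,1,0,2,3,3],[],[0,1,1,2],[1,0,2],[1,2],[0,1,2,2,1,3],[],[],[],[1,0,2,1,3,3],[],[],[],[1,1,2,3,3,2,1],[],[],[],[],[0,0,1,2,2],[1,1,2,2],[0,0,1,0,2,2],[0,0,1,2,2,1,3,3],[],[],[],[1,2,2,1,3,2],[],[],[],[0,1,0,2,1,3],[],[],[],[],[0,1,0],[0,1],[0,0,1,1],[1,0,2,1,3,2],[],[],[],[0,1,2,2,1,3,3,2],[],[],[],[0,0,1,2,2,1,3,2,2],[],[],[]],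
  [[],[],[],[],[],[],[],[],[0,0,3,2,1,0,0,1,2,3],[],[],[],[0,0,3,3,2,2,1,0,0,1,2,2,3,3],[],[],[],[0,0,3,2,1,0,0,1,2,2,3,3],[],[],[],[],[],[],[],[],[],[],[],[],[],[],[],[0,0,3,3,2,2,1,0,0,1,2,3],[],[],[],[],[],[],[],[],[],[],[],[],[],[],[],[3,2,2,3],[],[],[],[],[],[],[],[],[],[],[],[],[],[],[],[0,0,3,2,2,1,0,0,1,2,3,3],[],[],[],[],[],[],[],[],[],[],[],[],[],[],[],[],[],[],[],[0,0,3,3,2,2,1,0,0,1,2,2,3],[],[],[],[0,0,3,3,2,1,0,0,1,2],[],[],[],[3],[],[],[],[],[],[],[],[0,0,3,2,1,0,0,1,2,3,3,2],[],[],[],[3,3,2],[],[],[],[0,0,3,2,2,1,0,0,1],[],[],[],[],[],[],[],[0,0,3,2,2,1,0,0,1,2,3,2],[],[],[],[0,0,3,3,2,2,1,0,0,1,2],[],[],[],[0,0,3,2,1,0,0,1],[],[],[],[0,0,3,2,2,1,0,0,1,3,2],[],[],[],[],[],[],[],[],[],[],[],[],[],[],[],[],[],[],[],[0,0,3,3,2,2,1,0,0,1,2,3,3,2],[],[],[],[0,0,3,3,2,1,0,0,1],[],[],[],[3,2,2],[],[],[],[],[],[],[],[0,0,3,2,1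,0,0,1,2,3,3],[],[],[],[3,3],[],[],[],[0,0,3,2,2,1,0,0,1,2,2],[],[],[],[],[],[],[],[0,0,3,2,2,1,0,0,1,2,3],[],[],[],[0,0,3,3,2,2,1,0,0,1],[],[],[],[0,0,3,2,1,0,0,1,2,2],[],[],[],[0,0,3,2,2,1,0,0,1,3],[],[],[],[],[],[],[],[],[],[],[],[],[],[],[],[],[],[],[],[0,0,3,3,2,2,1,0,0,1,2,3,3],[],[],[],[0,0,3,3,2,1,0,0,1,2,2],[],[],[],[3,2],[],[],[],[],[],[],[],[0,0,3,2,1,0,0,1,2,2,3],[],[],[],[3,3,2,2],[],[],[],[0,0,3,2,2,1,0,0,1,2],[],[],[],[],[],[],[],[0,0,3,3,2,1,0,0,1,2,3],[],[],[],[0,0,3,3,2,2,1,0,0,1,2,2],[],[],[],[0,0,3,2,1,0,0,1,2],[],[],[]],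
  [[],[],[],[],[],[],[],[],[],[],[],[],[],[],[],[],[],[],[],[],[],[],[],[],[],[],[],[],[],[],[],[],[1,2,2,1,0,0,1,2,2,1],[],[],[],[],[],[],[],[],[],[],[],[],[],[],[],[0,1,0,2,1,1,0,2,1],[],[],[],[],[],[],[],[],[],[],[],[],[],[],[],[0,0,1,0,0,1],[],[],[],[],[],[],[],[],[],[],[],[],[],[],[],[],[],[],[],[],[],[],[],[],[],[],[],[],[],[],[],[],[],[],[],[],[],[],[],[],[],[],[],[],[],[],[],[],[],[],[],[],[],[],[],[],[],[],[],[],[],[],[],[0,0,1,0,0,1,2,2],[],[],[],[],[],[],[],[],[],[],[],[],[],[],[],[],[],[],[],[],[],[],[],[],[],[],[],[],[],[],[],[],[],[],[],[],[],[],[],[],[],[],[],[],[],[],[],[],[],[],[],[],[],[],[],[],[],[],[],[],[],[],[],[0,0,1,0,0,1,2],[],[],[],[],[],[],[],[],[],[],[],[],[],[],[],[],[],[],[],[],[],[],[],[],[],[],[],[],[],[],[],[],[],[],[],[],[],[],[],[],[],[],[],[],[],[],[],[],[],[],[],[],[],[],[],[],[],[],[],[],[],[],[]],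
  [[],[],[],[],[],[],[],[],[],[],[],[],[],[],[],[],[],[],[],[],[],[],[],[],[],[],[],[],[],[],[],[],[],[],[],[],[],[],[],[],[],[],[],[],[],[],[],[],[],[],[],[],[],[],[],[],[],[],[],[],[],[],[],[],[],[],[],[],[],[],[],[],[],[],[],[],[],[],[],[],[],[],[],[],[],[],[],[],[],[],[],[],[],[],[],[],[],[],[],[],[],[],[],[],[],[],[],[],[],[],[],[],[],[],[],[],[],[],[],[],[],[],[],[],[],[],[],[],[2,2],[],[],[],[],[],[],[],[],[],[],[],[],[],[],[],[],[],[],[],[],[],[],[],[],[],[],[],[],[],[],[],[],[],[],[],[],[],[],[],[],[],[],[],[],[],[],[],[],[],[],[],[],[],[],[],[],[],[],[],[],[],[],[],[2],[],[],[],[],[],[],[],[],[],[],[],[],[],[],[],[],[],[],[],[],[],[],[],[],[],[],[],[],[],[],[],[],[],[],[],[],[],[],[],[],[],[],[],[],[],[],[],[],[],[],[],[],[],[],[],[],[],[],[],[],[],[],[]]]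
def wd (k n : ℕ) : List (Fin 4) := (WL.getD k []).getD n []

theorem c_ac : ∀ i, ∀ n < 256, ∀ a, dc (ac i n) a = (t4 i *ᵥ dc n) a := by decide +kernel

theorem c_dc : ∀ a b c d : F4, c4 a + 4 * c4 b + 16 * c4 c + 64 * c4 d < 256 ∧
    dc (c4 a + 4 * c4 b + 16 * c4 c + 64 * c4 d) = ![a, b, c, d] := by decide +kernel

theorem c_e : ∀ j : Fin 4, dc (4 ^ j.1) = Pi.single j 1 := by decide +kernel

theorem c_wd : ∀ k : Fin 4, ∀ n < 256, ∑ a, dc n a * (dc n a * dc n a) = 1 → (∀ j < k, dc n j = 0) →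
    (wd k n).foldr ac n = 4 ^ k.1 ∧ ∀ j < k, (wd k n).foldr ac (4 ^ j.1) = 4 ^ j.1 := by decide +kernel

theorem wd_ac (w : List (Fin 4)) {n : ℕ} (hn : n < 256) :
    w.foldr ac n < 256 ∧ dc (w.foldr ac n) = (w.map g4).prod.val *ᵥ dc n := by
  induction w with
  | nil => simpa using hn
  | cons i w ih =>
    refine ⟨Nat.mod_lt _ (by norm_num), ?_⟩
    rw [List.foldr_cons, funext (c_ac i _ ih.1), ih.2, List.map_cons, List.prod_cons, Units.val_mul, mulVec_mulVec]; rfl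

/-- unitary matrices -/
def Un (X : M4 F4) : Prop := Xᵀ * X.map (fun x => x * x) = 1

theorem map_sq (X Y : M4 F4) : (X * Y).map (fun x => x * x) = X.map (fun x => x * x) * Y.map (fun x => x * x) :=
  Matrix.map_mul (f := (⟨⟨⟨fun x => x * x, rfl⟩, by decide⟩, rfl, by decide⟩ : F4 →+* F4))

theorem Un.mul {X Y : M4 F4} (h : Un X) (h' : Un Y) : Un (X * Y) := by
  rw [Un, map_sq, transpose_mul, Matrix.mul_assoc, ← Matrix.mul_assoc Xᵀ, h, Matrix.one_mul, h']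

theorem g4_mem (i : Fin 4) : g4 i ∈ H8.G32.G F4.w Q4 := Subgroup.subset_closure ⟨i, (c_B.2.2 i).1.symm⟩

theorem un_of_mem {g : G4 F4} (hg : g ∈ H8.G32.G F4.w Q4) : Un g.val := by
  induction hg using Subgroup.closure_induction_left with
  | one => rw [Un, Units.val_one, Matrix.map_one _ rfl rfl]; simp
  | mul_left x hx y _ ih =>
    obtain ⟨i, e⟩ := hx
    exact Un.mul (by rw [e, cj_apply]; exact (c_B.2.2 i).1 ▸ (c_B.2.2 i).2.2.2) ih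
  | inv_mul_cancel x hx y _ ih =>
    obtain ⟨i, e⟩ := hx
    obtain rfl : x = g4 i := Units.ext (e.trans (c_B.2.2 i).1)
    exact Un.mul (Un.mul (c_B.2.2 i).2.2.2 (c_B.2.2 i).2.2.2) ih

theorem mem_step (k : Fin 4) {g : G4 F4} (hg : Un g.val) (h : ∀ j < k, g.val *ᵥ Pi.single j 1 = Pi.single j 1) :
    ∃ s ∈ H8.G32.G F4.w Q4, ∀ j ≤ k, (s * g).val *ᵥ Pi.single j 1 = Pi.single j 1 := by
  obtain ⟨n, hn, e⟩ : ∃ n < 256, dc n = g.val *ᵥ Pi.single k 1 :=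
    ⟨_, (c_dc (g.val 0 k) (g.val 1 k) (g.val 2 k) (g.val 3 k)).1, by
      rw [(c_dc _ _ _ _).2]; ext a; fin_cases a <;> simp⟩
  obtain ⟨h1, h2⟩ := c_wd k n hn (by
    rw [e]; simpa [Matrix.mul_apply] using congrFun (congrFun hg k) k) fun j hj => by
      have := congrFun (congrFun hg k) j
      have h3 : ∀ a, g.val a j = Pi.single (M := fun _ => F4) j 1 a := fun a => by simpa using congrFun (h j hj) a
      rw [Matrix.mul_apply, Finset.sum_eq_single j (fun a _ ha => by simp [h3, ha]) (by simp)] at this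
      rw [e]; simpa [h3, hj.ne'] using this
  refine ⟨_, list_prod_mem (l := (wd k n).map g4) (by simpa using fun i _ => g4_mem i), fun j hj => ?_⟩
  rw [Units.val_mul, ← mulVec_mulVec]
  rcases hj.lt_or_eq with hj | rfl
  · rw [h j hj, ← c_e, ← (wd_ac _ (by fin_cases j <;> simp)).2, h2 j hj]
  · rw [← e, ← (wd_ac _ hn).2, h1, c_e]

theorem mem_of_un {g : G4 F4} (hg : Un g.val) : g ∈ H8.G32.G F4.w Q4 := by
  obtain ⟨s0, m0, h0⟩ := mem_step 0 hg (by simp)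
  have u0 := (un_of_mem m0).mul hg
  obtain ⟨s1, m1, h1⟩ := mem_step 1 (g := s0 * g) u0 fun j hj => h0 j (by omega)
  have u1 := (un_of_mem m1).mul u0
  obtain ⟨s2, m2, h2⟩ := mem_step 2 (g := s1 * (s0 * g)) u1 fun j hj => h1 j (by omega)
  have u2 := (un_of_mem m2).mul u1
  obtain ⟨s3, m3, h3⟩ := mem_step 3 (g := s2 * (s1 * (s0 * g))) u2 fun j hj => h2 j (by omega)
  have : s3 * (s2 * (s1 * (s0 * g))) = 1 := Units.ext (Matrix.ext_of_mulVec_single fun j => by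
    rw [h3 j (by omega), Units.val_one, one_mulVec])
  rw [show g = (s3 * s2 * s1 * s0)⁻¹ by rw [eq_inv_iff_mul_eq_one, ← mul_eq_one_comm, ← this]; group]
  exact inv_mem (mul_mem (mul_mem (mul_mem m3 m2) m1) m0)

theorem mem_SU {g : Matrix.SpecialLinearGroup (Fin 4) F4} : g ∈ SU 4 F4 2 ↔ Un g.val := by
  have hq : Fintype.card F4 = 2 ^ 2 := rfl
  have := mem_GU4 hq (g := Matrix.SpecialLinearGroup.toGL g)
  rw [Matrix.mul_one] at this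
  refine Iff.trans this ?_
  have e : ((UP hq).σ : F4 → F4) = fun x => x * x := funext fun x => by rw [UP_σ, sq]
  rw [e]; rfl

theorem c_cen : ∀ i, ((F4.v • t4 i)).det = 1 ∧ (F4.v • t4 i)ᵀ * (F4.v • t4 i).map (fun x => x * x) = 1 := by
  simp only [Matrix.det_succ_row_zero, Fin.sum_univ_succ]
  decide +kernel

/-- the map to the projective group -/
def ι4 : SU 4 F4 2 →* PG4 F4 := pr.comp (Matrix.SpecialLinearGroup.toGL.comp (SU 4 F4 2).subtype)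

theorem range_ι4 : ι4.range = bar (H8.G32.G F4.w Q4) := by
  apply le_antisymm
  · rintro _ ⟨x, rfl⟩
    exact mem_bar (mem_of_un (mem_SU.1 x.2))
  · rw [bar, H8.G32.G, MonoidHom.map_closure, Subgroup.closure_le]
    rintro _ ⟨g, ⟨i, e⟩, rfl⟩
    exact ⟨⟨⟨_, (c_cen i).1⟩, mem_SU.2 (c_cen i).2⟩, pr_eq_iff.2 ⟨F4.v, by rw [e, cj_apply]; exact congrArg (F4.v • ·) (c_B.2.2 i).1.symm⟩⟩

theorem ker_ι4 : Subgroup.center (SU 4 F4 2) = ι4.ker := by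
  ext x
  rw [MonoidHom.mem_ker, Subgroup.mem_center_iff]
  constructor
  · intro h
    have k : ∀ i, t4 i * x.1.1 = x.1.1 * t4 i := fun i => by
      have : F4.w • (F4.v • t4 i * x.1.1) = F4.w • (x.1.1 * F4.v • t4 i) :=
        congrArg (fun y : SU 4 F4 2 => F4.w • y.1.1) (h ⟨⟨_, (c_cen i).1⟩, mem_SU.2 (c_cen i).2⟩)
      simpa [smul_smul, show F4.w * F4.v = 1 from rfl] using this
    refine pr_eq_one'.2 ⟨x.1.1 0 0, ?_⟩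
    change x.1.1 = _
    generalize x.1.1 = M at k
    have k0 := k 0; have k1 := k 1; have k2 := k 2; have k3 := k 3
    have hw : F4.w * F4.w = F4.w + 1 := rfl
    have hv : F4.v = F4.w + 1 := rfl
    have h2 : (2 : F4) = 0 := rfl
    have ho : F4.o = 1 := rfl
    have hz : F4.z = 0 := rfl
    simp only [← Matrix.ext_iff, Fin.forall_fin_succ] at k0 k1 k2 k3 ⊢
    simp [t4, Matrix.mul_apply, Fin.sum_univ_four, hv, ho, hz] at k0 k1 k2 k3 ⊢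
    grind
  · intro h y
    exact Subtype.ext (Subtype.ext (congrArg Units.val (sc_central h (Matrix.SpecialLinearGroup.toGL y.1))))

variable {K : Type*} [Field K]

/-- identification I6 -/
theorem c6_of {P : Subgroup (G4 K)} (h : H8.G32.IsG32 P) (hp : ⁅P, P⁆ = P) : C6 P := by
  obtain ⟨h2, h3, ω, hω, Q, e⟩ := h
  obtain ⟨f⟩ := iso_bar ω hω h3 Q F4.w rfl (by decide) Q4
  refine ⟨h2, ⟨F4, fF4, inferInstance, rfl, ⟨?_⟩⟩, ω, hω, fun x hx => traces ω hω Q x (le_of_bar hp e.le hx)⟩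
  exact (((pqEquiv P).trans (MulEquiv.subgroupCongr e)).trans f).trans
    (((QuotientGroup.quotientMulEquivOfEq ker_ι4).trans (QuotientGroup.quotientKerEquivRange ι4)).trans
      (MulEquiv.subgroupCongr range_ι4)).symm

end Cfsg.Agent.H6.W
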